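import Groth.Agent.RG.Points
import Groth.Agent.S1258
import Groth.Agent.S1195
import Mathlib.RingTheory.Spectrum.Prime.Chevalley
import Mathlib.RingTheory.Localization.BaseChange
import Mathlib.AlgebraicGeometry.Geometrically.Integral
import Mathlib.LinearAlgebra.TensorProduct.RightExactness

/-!
# Content ideals for flat finitely presented algebras with geometrically integral fibres
-/

set_option autoImplicit false
set_option maxHeartbeats 1000000
set_option backward.isDefEq.respectTransparency false

universe u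

open TensorProduct FlatMor

namespace Groth.Agent.RG.ContentExists

open Content

variable {R S : Type u} [CommRing R] [CommRing S] [Algebra R S]

section Geom

open AlgebraicGeometry CategoryTheory CategoryTheory.Limits

theorem isDomain_fibre (hgi : FlatCA.GeomIntegralFibres R S) (K : Type u) [Field K] [Algebra R K] :
    IsDomain (K ⊗[R] S) := by
  have : GeometricallyIntegral (Spec.map (CommRingCat.ofHom (algebraMap R S))) := hgi
  have h := (isPullback_SpecMap_of_isPushout _ _ _ _
    (CommRingCat.isPushout_tensorProduct R K S)).flip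
  have hint := GeometricallyIntegral.geometrically_isIntegral (f := Spec.map (CommRingCat.ofHom (algebraMap R S)))
    _ _ _ h
  exact (affine_isIntegral_iff (CommRingCat.of (K ⊗[R] S))).1 hint

end Geom

/-- Content of an element is detected by coordinates in a free module receiving it universally
injectively. -/
theorem exists_content_of_free {A : Type u} [CommRing A] [Algebra R A] {F : Type u} [AddCommGroup F]
    [Module A F] [Module.Free A F] (ψ : A ⊗[R] S →ₗ[A] F) (hψ : FlatCA.UnivInj A ψ) (x : S) :
    ∃ c, IsContent R S x A c := by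
  classical
  obtain ⟨ι, b⟩ := Module.Free.exists_basis (R := A) (M := F)
  let v := b.repr (ψ (1 ⊗ₜ x))
  refine ⟨Ideal.span (v '' (v.support : Set ι)), ⟨v.support.image v, by rw [Finset.coe_image]⟩, ?_⟩
  intro B _ _ φ
  letI : Algebra A B := φ.toRingHom.toAlgebra
  have : IsScalarTower R A B := IsScalarTower.of_algebraMap_eq fun r => (φ.commutes r).symm
  let e := AlgebraTensorModule.cancelBaseChange R A B B S
  have he : e ((1 : B) ⊗ₜ[A] ((1 : A) ⊗ₜ[R] x)) = (1 : B) ⊗ₜ[R] x := by simp [e]
  have h1 : Vanishes R S x B ↔ (ψ.lTensor B) ((1 : B) ⊗ₜ[A] ((1 : A) ⊗ₜ[R] x)) = 0 := by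
    rw [map_eq_zero_iff _ (hψ B), Vanishes, ← he, map_eq_zero_iff _ e.injective]
  rw [h1, LinearMap.lTensor_tmul]
  let bB := b.baseChange B
  rw [← LinearEquiv.map_eq_zero_iff bB.repr, eq_bot_iff, Ideal.map_le_iff_le_comap, Ideal.span_le]
  constructor
  · rintro h _ ⟨i, -, rfl⟩
    have := DFunLike.congr_fun h i
    rw [Module.Basis.baseChange_repr_tmul, Finsupp.zero_apply, Algebra.smul_def, mul_one] at this
    simp only [SetLike.mem_coe, Ideal.mem_comap, Ideal.mem_bot]
    exact this
  · intro h
    ext i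
    rw [Module.Basis.baseChange_repr_tmul, Finsupp.zero_apply, Algebra.smul_def, mul_one]
    by_cases hi : i ∈ v.support
    · exact h ⟨i, hi, rfl⟩
    · rw [show b.repr (ψ (1 ⊗ₜ x)) i = 0 from Finsupp.notMem_support_iff.1 hi, map_zero]

section Fibre

attribute [local instance] Algebra.TensorProduct.rightAlgebra

/-- An associated prime of a fibre ring which is a domain is zero. -/
theorem eq_zero_of_mem_of_mem_ass {A B : Type u} [CommRing A] [CommRing B] [Algebra A B]
    (P : Ideal A) [P.IsPrime] [IsDomain (P.Fiber B)] (q : Ideal B)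
    (hass : FlatCA.fiberIdeal P q ∈ associatedPrimes (P.Fiber B) (FlatCA.fiberMod P B B)) :
    ∀ z ∈ FlatCA.fiberIdeal P q, z = 0 := by
  obtain ⟨hne, m, hm⟩ := hass
  let eP : FlatCA.fiberMod P B B ≃ₗ[P.Fiber B] P.Fiber B :=
    AlgebraTensorModule.rid B (P.Fiber B) (P.Fiber B)
  intro z hz
  have hm0 : m ≠ 0 := fun h0 => by
    apply hne.ne_top
    rw [hm, h0, Ideal.radical_eq_top, Ideal.eq_top_iff_one, Submodule.mem_colon_singleton]
    simp
  rw [hm] at hz
  obtain ⟨k, hk⟩ := hz
  rw [Submodule.mem_colon_singleton, Submodule.mem_bot] at hk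
  have := congrArg eP hk
  rw [map_smul, map_zero, smul_eq_mul] at this
  rcases mul_eq_zero.1 this with h | h
  · exact (pow_eq_zero_iff'.1 h).1
  · exact absurd ((LinearEquiv.map_eq_zero_iff eP).1 h) hm0

end Fibre

variable [Algebra.FinitePresentation R S] [Module.Flat R S]

/-- The étale-local content. -/
theorem exists_content_atPrime (hdom : ∀ (K : Type u) [Field K] [Algebra R K], IsDomain (K ⊗[R] S))
    (p : Ideal R) [p.IsPrime] (x : S) :
    ∃ (R' : Type u) (_ : CommRing R') (_ : Algebra R R') (_ : Algebra.Etale R R') (p' : Ideal R')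
      (_ : p'.IsPrime), p'.comap (algebraMap R R') = p ∧
        ∃ c, IsContent R S x (Localization.AtPrime p') c := by
  have hflat : ∀ (q : Ideal S) [q.IsPrime], q.LiesOver p → FlatCA.FlatAt R q S := fun q _ _ => by
    have : Module.Flat S (LocalizedModule q.primeCompl S) :=
      inferInstanceAs (Module.Flat S (Localization q.primeCompl))
    exact Module.Flat.trans R S _
  obtain ⟨R', _, _, p', _, ⟨het, hlo, -⟩, h⟩ := S1258.result (R := R) (S := S) S p hflat
  refine ⟨R', inferInstance, inferInstance, het, p', inferInstance, hlo.over.symm, ?_⟩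
  let A := Localization.AtPrime p'
  letI := Algebra.TensorProduct.rightAlgebra (R := R) (A := A) (B := S)
  have : IsScalarTower R S (A ⊗[R] S) := IsScalarTower.of_algebraMap_eq fun r => by
    rw [IsScalarTower.algebraMap_apply R A (A ⊗[R] S), Algebra.TensorProduct.algebraMap_apply]
    exact ((Algebra.TensorProduct.includeLeft (R := R) (S := R) (A := A) (B := S)).commutes r).trans
      ((Algebra.TensorProduct.includeRight (R := R) (A := A) (B := S)).commutes r).symm
  obtain ⟨C, _, _, _, _, _, _, hetC, -, hpts, -, hfree⟩ := h (A ⊗[R] S) (A ⊗[R] S)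
    (Algebra.linearMap S (A ⊗[R] S)) (IsBaseChange.linearMap S (A ⊗[R] S))
  have : Algebra.FinitePresentation A (A ⊗[R] S) := inferInstance
  have : Module.Flat A (A ⊗[R] S) := inferInstance
  -- a point of `C` over the closed fibre
  have : Nontrivial (p.ResidueField ⊗[R] S) := (hdom p.ResidueField).toNontrivial
  obtain ⟨Q, hQ⟩ := Ideal.exists_maximal (p.ResidueField ⊗[R] S)
  let q : Ideal S := Q.comap (Algebra.TensorProduct.includeRight (R := R) (A := p.ResidueField) (B := S)).toRingHom
  have hq : q.LiesOver p := ⟨by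
    ext r
    simp only [q, Ideal.mem_comap, Ideal.under_def]
    show r ∈ p ↔ Algebra.TensorProduct.includeRight (algebraMap R S r) ∈ Q
    rw [AlgHom.commutes, IsScalarTower.algebraMap_apply R p.ResidueField (p.ResidueField ⊗[R] S),
      ← Ideal.algebraMap_residueField_eq_zero (I := p)]
    refine ⟨fun h => by rw [h, map_zero]; exact Q.zero_mem, fun h => ?_⟩
    by_contra h0
    exact hQ.ne_top (Q.eq_top_of_isUnit_mem h ((Ne.isUnit h0).map _))⟩
  obtain ⟨x', hx', -, hxm⟩ := hpts q hq
  let Q₀ := x'.comap (algebraMap (A ⊗[R] S) C)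
  have hQ₀ : Q₀.LiesOver (IsLocalRing.maximalIdeal A) := ⟨by
    rw [hxm.over, Ideal.under_def, Ideal.under_def, Ideal.comap_comap,
      ← IsScalarTower.algebraMap_eq]⟩
  have hui : FlatCA.UnivInj A
      ((TensorProduct.mk (A ⊗[R] S) C (A ⊗[R] S) 1).restrictScalars A) := by
    refine S1195.result (R := A) (S := A ⊗[R] S) (S' := C) (A ⊗[R] S) fun P q _ _ hqP hass => ?_
    -- `q` lies below `x'`
    obtain ⟨q₀, hq₀le, hq₀, hq₀P⟩ := Ideal.exists_ideal_le_liesOver_of_le (R := A) (p := P)
      (q := IsLocalRing.maximalIdeal A) Q₀ (IsLocalRing.le_maximalIdeal Ideal.IsPrime.ne_top')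
    have hdomP : IsDomain (P.Fiber (A ⊗[R] S)) := by
      have := hdom P.ResidueField
      exact (AlgebraTensorModule.cancelBaseChange R A P.ResidueField P.ResidueField S).injective.isDomain
        (Algebra.TensorProduct.cancelBaseChange R A P.ResidueField P.ResidueField S).toRingHom
    have hzero := eq_zero_of_mem_of_mem_ass P q hass
    have hqq₀ : q ≤ q₀ := fun z hz => by
      have h0 := hzero _ (Ideal.mem_map_of_mem (Algebra.TensorProduct.includeRight (R := A)
        (A := P.ResidueField) (B := A ⊗[R] S)).toRingHom hz)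
      let g : P.Fiber (A ⊗[R] S) →ₐ[A] q₀.ResidueField :=
        Algebra.TensorProduct.lift (Ideal.ResidueField.mapₐ P q₀ (Algebra.ofId A _) hq₀P.over)
          (IsScalarTower.toAlgHom A (A ⊗[R] S) q₀.ResidueField) (fun _ _ => Commute.all _ _)
      have := congrArg g h0
      rw [map_zero] at this
      rw [← Ideal.algebraMap_residueField_eq_zero (I := q₀)]
      simpa [g] using this
    obtain ⟨q', -, hq', hq'o⟩ := Ideal.exists_ideal_le_liesOver_of_le (R := A ⊗[R] S) (p := q)
      (q := Q₀) x' (hqq₀.trans hq₀le)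
    exact ⟨q', hq', hq'o.over.symm⟩
  let ψ : A ⊗[R] S →ₗ[A] RestrictScalars A C (C ⊗[A ⊗[R] S] (A ⊗[R] S)) :=
    { toFun := fun z => (RestrictScalars.addEquiv A C _).symm ((1 : C) ⊗ₜ z)
      map_add' := fun a b => by simp [TensorProduct.tmul_add]
      map_smul' := fun a z => by
        apply (RestrictScalars.addEquiv A C _).injective
        simp only [RingHom.id_apply, AddEquiv.apply_symm_apply, RestrictScalars.addEquiv_map_smul]
        rw [← algebraMap_smul (A ⊗[R] S) a z, TensorProduct.tmul_smul, ← algebraMap_smul C (algebraMap A (A ⊗[R] S) a),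
          ← IsScalarTower.algebraMap_apply] }
  refine exists_content_of_free ψ ?_ x
  intro N _ _
  let e : C ⊗[A ⊗[R] S] (A ⊗[R] S) ≃ₗ[A] RestrictScalars A C (C ⊗[A ⊗[R] S] (A ⊗[R] S)) :=
    { (RestrictScalars.addEquiv A C (C ⊗[A ⊗[R] S] (A ⊗[R] S))).symm with
      map_smul' := fun a z => by
        apply (RestrictScalars.addEquiv A C _).injective
        show (RestrictScalars.addEquiv A C _) ((RestrictScalars.addEquiv A C _).symm (a • z)) = _
        simp only [AddEquiv.apply_symm_apply, RingHom.id_apply, RestrictScalars.addEquiv_map_smul]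
        exact (algebraMap_smul C a z).symm }
  have hc : ψ = e.toLinearMap.comp ((TensorProduct.mk (A ⊗[R] S) C (A ⊗[R] S) 1).restrictScalars A) := rfl
  rw [hc, LinearMap.lTensor_comp]
  exact ((e.lTensor N).injective).comp (hui N)

omit [Algebra.FinitePresentation R S] [Module.Flat R S] in
/-- Scalars on the left factor act by multiplication. -/
theorem smul_eq_mul_left {A : Type u} [CommRing A] [Algebra R A] (r : A) (w : A ⊗[R] S) :
    r • w = (r ⊗ₜ[R] (1 : S)) * w := by
  induction w using TensorProduct.induction_on with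
  | zero => simp
  | tmul a s => simp [TensorProduct.smul_tmul']
  | add u v hu hv => rw [smul_add, hu, hv, mul_add]

omit [Algebra.FinitePresentation R S] [Module.Flat R S] in
/-- Base change maps are semilinear for the left scalars. -/
theorem map_smul_left {A B : Type u} [CommRing A] [Algebra R A] [CommRing B] [Algebra R B]
    (f : A →ₐ[R] B) (r : A) (w : A ⊗[R] S) :
    Algebra.TensorProduct.map f (AlgHom.id R S) (r • w) =
      f r • Algebra.TensorProduct.map f (AlgHom.id R S) w := by
  rw [smul_eq_mul_left, smul_eq_mul_left, map_mul, Algebra.TensorProduct.map_tmul, AlgHom.id_apply]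

omit [Algebra.FinitePresentation R S] [Module.Flat R S] in
/-- A minimal expression through the content is independent in the closed fibre. -/
theorem exists_expression (R' : Type u) [CommRing R'] [Algebra R R'] (p' : Ideal R') [p'.IsPrime]
    (x : S) {c : Ideal (Localization.AtPrime p')} (hc : IsContent R S x (Localization.AtPrime p') c) :
    ∃ (n : ℕ) (a : Fin n → R') (y : Fin n → Localization.AtPrime p' ⊗[R] S),
      (1 : Localization.AtPrime p') ⊗ₜ[R] x =
          ∑ k, algebraMap R' (Localization.AtPrime p') (a k) • y k ∧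
        LinearIndependent p'.ResidueField (fun k => Algebra.TensorProduct.map
          (IsScalarTower.toAlgHom R (Localization.AtPrime p') p'.ResidueField) (AlgHom.id R S) (y k)) := by
  classical
  let A := Localization.AtPrime p'
  let ι := algebraMap R' A
  -- generators of `c` may be taken in the image of `R'`
  have hlift : ∀ {n : ℕ} (b : Fin n → A), ∃ a : Fin n → R',
      Ideal.span (Set.range (ι ∘ a)) = Ideal.span (Set.range b) := fun {n} b => by
    choose w hw using fun k => IsLocalization.surj p'.primeCompl (b k)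
    refine ⟨fun k => (w k).1, le_antisymm ?_ ?_⟩ <;> rw [Ideal.span_le] <;> rintro _ ⟨k, rfl⟩
    · show ι (w k).1 ∈ _
      rw [← hw k]
      exact Ideal.mul_mem_right _ _ (Ideal.subset_span ⟨k, rfl⟩)
    · rw [SetLike.mem_coe, ← Ideal.mul_unit_mem_iff_mem _ (IsLocalization.map_units A (w k).2), hw k]
      exact Ideal.subset_span ⟨k, rfl⟩
  have hex : ∃ n, ∃ a : Fin n → R', Ideal.span (Set.range (ι ∘ a)) = c := by
    obtain ⟨n, b, hb⟩ := Submodule.fg_iff_exists_fin_generating_family.1 hc.1
    obtain ⟨a, ha⟩ := hlift b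
    exact ⟨n, a, ha.trans hb⟩
  obtain ⟨n, hn, hmin⟩ : ∃ n, (∃ a : Fin n → R', Ideal.span (Set.range (ι ∘ a)) = c) ∧
      ∀ m < n, ¬ ∃ a : Fin m → R', Ideal.span (Set.range (ι ∘ a)) = c :=
    ⟨Nat.find hex, Nat.find_spec hex, fun m hm => Nat.find_min hex hm⟩
  obtain ⟨a, ha⟩ := hn
  -- membership of `x` in `c (A ⊗ S)`
  have hkerc : ((1 : A) ⊗ₜ[R] x : A ⊗[R] S) ∈
      c.map (Algebra.TensorProduct.includeLeft : A →ₐ[R] A ⊗[R] S) := by
    have h0 : Vanishes R S x (A ⧸ c) := (hc.2 _ (Ideal.Quotient.mkₐ R c)).2 (by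
      rw [eq_bot_iff, Ideal.map_le_iff_le_comap]
      intro z hz
      simpa [Ideal.Quotient.eq_zero_iff_mem] using hz)
    have := Algebra.TensorProduct.rTensor_ker (R := R) (C := S) (Ideal.Quotient.mkₐ R c)
      (Ideal.Quotient.mkₐ_surjective R c)
    have hk : RingHom.ker (Ideal.Quotient.mkₐ R c) = c := Ideal.Quotient.mkₐ_ker R c
    simp only [hk] at this
    refine (SetLike.ext_iff.1 this _).1 ?_
    rw [RingHom.mem_ker, Algebra.TensorProduct.map_tmul, map_one]
    exact h0
  rw [← ha, Ideal.map_span, ← Set.range_comp, Ideal.mem_span_range_iff_exists_fun] at hkerc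
  obtain ⟨y, hy⟩ := hkerc
  refine ⟨n, a, y, ?_, ?_⟩
  · rw [← hy]
    refine Finset.sum_congr rfl fun k _ => ?_
    rw [smul_eq_mul_left, mul_comm]
    rfl
  rw [Fintype.linearIndependent_iff]
  by_contra hcon
  push_neg at hcon
  obtain ⟨g, hg, k₀, hk₀⟩ := hcon
  let π : A →ₐ[R] p'.ResidueField := IsScalarTower.toAlgHom R A p'.ResidueField
  have hπ : Function.Surjective π := IsLocalRing.residue_surjective
  choose l hl using fun k => hπ (g k / g k₀)
  let z : A ⊗[R] S := ∑ k, l k • y k
  have hz0 : Algebra.TensorProduct.map π (AlgHom.id R S) z = 0 := by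
    have : Algebra.TensorProduct.map π (AlgHom.id R S) z =
        (g k₀)⁻¹ • ∑ k, g k • Algebra.TensorProduct.map π (AlgHom.id R S) (y k) := by
      simp only [z, map_sum, Finset.smul_sum, smul_smul]
      refine Finset.sum_congr rfl fun k _ => ?_
      rw [map_smul_left, hl, div_eq_inv_mul]
    rw [this, hg, smul_zero]
  let m := IsLocalRing.maximalIdeal A
  have hπker : RingHom.ker π = m := IsLocalRing.ker_residue
  have hzmem : z ∈ m.map (Algebra.TensorProduct.includeLeft : A →ₐ[R] A ⊗[R] S) := by
    rw [← hπker, ← Algebra.TensorProduct.rTensor_ker (R := R) (C := S) π hπ]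
    exact hz0
  -- shorten the list of generators
  obtain ⟨n, rfl⟩ := Nat.exists_eq_succ_of_ne_zero (n := n) (by rintro rfl; exact k₀.elim0)
  let α := ι ∘ a
  have hl₀ : π (l k₀) = 1 := by rw [hl, div_self hk₀]
  let b : Fin n → A := fun j => α (k₀.succAbove j) - l (k₀.succAbove j) * α k₀
  let N : Ideal A := Ideal.span (Set.range b)
  let c' : Ideal A := N ⊔ m * c
  let q : A →ₐ[R] A ⧸ c' := Ideal.Quotient.mkₐ R c'
  have hl₁ : α k₀ - l k₀ * α k₀ ∈ m * c := by
    rw [show α k₀ - l k₀ * α k₀ = (1 - l k₀) * α k₀ by ring]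
    refine Ideal.mul_mem_mul ?_ (ha ▸ Ideal.subset_span ⟨k₀, rfl⟩)
    rw [← hπker, RingHom.mem_ker, map_sub, map_one, hl₀, sub_self]
  have hq : ∀ k, q (α k) = q (l k * α k₀) := fun k => by
    refine (Ideal.Quotient.mk_eq_mk_iff_sub_mem _ _).2 ?_
    rcases Fin.eq_self_or_eq_succAbove k₀ k with rfl | ⟨j, rfl⟩
    · exact Ideal.mem_sup_right hl₁
    · exact Ideal.mem_sup_left (Ideal.subset_span ⟨j, rfl⟩)
  let G : A ⊗[R] S →ₐ[R] (A ⧸ c') ⊗[R] S := Algebra.TensorProduct.map q (AlgHom.id R S)
  let J : Ideal (A ⊗[R] S) :=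
    { carrier := {w | G (algebraMap A (A ⊗[R] S) (α k₀) * w) = 0}
      add_mem' := fun {u v} hu hv => by
        show G _ = 0
        rw [mul_add, map_add, hu, hv, add_zero]
      zero_mem' := by show G _ = 0; rw [mul_zero, map_zero]
      smul_mem' := fun u v hv => by
        show G _ = 0
        rw [smul_eq_mul, mul_left_comm, map_mul, hv, mul_zero] }
  have hmJ : m.map (Algebra.TensorProduct.includeLeft : A →ₐ[R] A ⊗[R] S) ≤ J := by
    rw [Ideal.map_le_iff_le_comap]
    intro r hr
    show G (algebraMap A (A ⊗[R] S) (α k₀) * (r ⊗ₜ[R] (1 : S))) = 0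
    rw [Algebra.TensorProduct.algebraMap_apply, Algebra.algebraMap_self_apply,
      Algebra.TensorProduct.tmul_mul_tmul]
    show q (α k₀ * r) ⊗ₜ[R] (AlgHom.id R S) (1 * 1) = 0
    rw [show q (α k₀ * r) = 0 from Ideal.Quotient.eq_zero_iff_mem.2 (Ideal.mem_sup_right (by
      rw [mul_comm (α k₀) r]; exact Ideal.mul_mem_mul hr (by rw [← ha]; exact Ideal.subset_span ⟨k₀, rfl⟩))),
      TensorProduct.zero_tmul]
  have hvan : Vanishes R S x (A ⧸ c') := by
    have h1 : G (algebraMap A (A ⊗[R] S) (α k₀) * z) = 0 := hmJ hzmem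
    have h2 : G ((1 : A) ⊗ₜ[R] x) = G (algebraMap A (A ⊗[R] S) (α k₀) * z) := by
      rw [← hy, map_sum, Finset.mul_sum, map_sum]
      refine Finset.sum_congr rfl fun k _ => ?_
      rw [smul_eq_mul_left (l k), mul_comm (y k), ← mul_assoc, map_mul G, map_mul G]
      congr 1
      show G (α k ⊗ₜ[R] (1 : S)) = G (algebraMap A (A ⊗[R] S) (α k₀) * (l k ⊗ₜ[R] (1 : S)))
      rw [Algebra.TensorProduct.algebraMap_apply, Algebra.algebraMap_self_apply,
        Algebra.TensorProduct.tmul_mul_tmul, one_mul]
      show q (α k) ⊗ₜ[R] (1 : S) = q (α k₀ * l k) ⊗ₜ[R] (1 : S)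
      rw [hq, mul_comm]
    rw [h1] at h2
    simpa [G, Vanishes] using h2
  have hcc' : c ≤ c' := by
    have h1 := (hc.2 _ q).1 hvan
    intro u hu
    have h2 := Ideal.mem_map_of_mem q hu
    rw [h1, Ideal.mem_bot] at h2
    exact Ideal.Quotient.eq_zero_iff_mem.1 h2
  have hNc : N ≤ c := by
    rw [Ideal.span_le]
    rintro _ ⟨j, rfl⟩
    rw [← ha]
    exact sub_mem (Ideal.subset_span ⟨_, rfl⟩) (Ideal.mul_mem_left _ _ (Ideal.subset_span ⟨_, rfl⟩))
  have hcN : c ≤ N := Submodule.le_of_le_smul_of_le_jacobson_bot hc.1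
    (IsLocalRing.maximalIdeal_le_jacobson ⊥) hcc'
  obtain ⟨a', ha'⟩ := hlift b
  exact hmin n (Nat.lt_succ_self n) ⟨a', ha'.trans (le_antisymm hNc hcN)⟩

/-- Near every prime there is a flat finitely presented neighbourhood carrying a content ideal. -/
theorem exists_content_nhd (hdom : ∀ (K : Type u) [Field K] [Algebra R K], IsDomain (K ⊗[R] S))
    (p : Ideal R) [p.IsPrime] (x : S) :
    ∃ (T : Type u) (_ : CommRing T) (_ : Algebra R T) (_ : Module.Flat R T)
      (_ : Algebra.FinitePresentation R T) (P : PrimeSpectrum T),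
      (P.comap (algebraMap R T)).asIdeal = p ∧ ∃ c, IsContent R S x T c := by
  classical
  obtain ⟨R', _, _, het, p', _, hp', c, hc⟩ := exists_content_atPrime hdom p x
  obtain ⟨n, a, y, hxy, hind⟩ := exists_expression R' p' x hc
  let A := Localization.AtPrime p'
  let g : R' ⊗[R] S →ₗ[R'] A ⊗[R] S :=
    TensorProduct.AlgebraTensorModule.map (Algebra.linearMap R' A) LinearMap.id
  have : IsLocalizedModule p'.primeCompl g :=
    (isLocalizedModule_iff_isBaseChange p'.primeCompl A g).2 (IsBaseChange.of_equiv
      (TensorProduct.AlgebraTensorModule.cancelBaseChange R R' A A S) (fun w => by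
        induction w using TensorProduct.induction_on with
        | zero => simp
        | tmul r s => simp [g, Algebra.smul_def]
        | add u v hu hv => simp [TensorProduct.tmul_add, hu, hv]))
  choose w hw using fun k => IsLocalizedModule.surj p'.primeCompl g (y k)
  let u : p'.primeCompl := ∏ k, (w k).2
  let Y : Fin n → R' ⊗[R] S := fun k =>
    ((∏ j ∈ Finset.univ.erase k, (w j).2 : p'.primeCompl) : R') • (w k).1
  have hY : ∀ k, g (Y k) = (u : R') • y k := fun k => by
    rw [map_smul, ← hw k, Submonoid.smul_def, smul_smul, ← Submonoid.coe_mul,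
      Finset.prod_erase_mul _ _ (Finset.mem_univ k)]
  have heq : g ((u : R') • ((1 : R') ⊗ₜ[R] x)) = g (∑ k, a k • Y k) := by
    have h1 : g ((1 : R') ⊗ₜ[R] x) = (1 : A) ⊗ₜ[R] x := by simp [g]
    rw [map_smul, h1, hxy, map_sum, Finset.smul_sum]
    refine Finset.sum_congr rfl fun k _ => ?_
    rw [algebraMap_smul, map_smul, hY, smul_comm]
  obtain ⟨v, hv⟩ := IsLocalizedModule.exists_of_eq (S := p'.primeCompl) heq
  let h : R' := (u : R') * (v : R')
  have hh : h ∉ p' := (p'.primeCompl.mul_mem u.2 v.2)
  let R'' : Type u := Localization.Away h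
  let ι : R' →ₐ[R] R'' := IsScalarTower.toAlgHom R R' R''
  obtain ⟨e, he⟩ := (IsLocalization.Away.algebraMap_isUnit (S := R'') h).exists_left_inv
  have hdisj : Disjoint (Submonoid.powers h : Set R') (p' : Set R') := by
    rw [Set.disjoint_left]
    rintro _ ⟨m, rfl⟩ hm
    exact hh (Ideal.IsPrime.mem_of_pow_mem inferInstance m hm)
  let P'' := p'.map (algebraMap R' R'')
  have hP''p : P''.IsPrime :=
    IsLocalization.isPrime_of_isPrime_disjoint (Submonoid.powers h) R'' p' inferInstance hdisj
  have hP'' : P''.comap (algebraMap R' R'') = p' :=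
    IsLocalization.comap_map_of_isPrime_disjoint (Submonoid.powers h) R'' inferInstance hdisj
  let M : R' ⊗[R] S →ₐ[R] R'' ⊗[R] S := Algebra.TensorProduct.map ι (AlgHom.id R S)
  let Y'' : Fin n → R'' ⊗[R] S := fun k => M (Y k)
  let a'' : Fin n → R'' := fun k => e * algebraMap R' R'' ((v : R') * a k)
  have hMs : ∀ (r : R') (w : R' ⊗[R] S), M (r • w) = algebraMap R' R'' r • M w := fun r w => by
    exact map_smul_left ι r w
  have hx'' : (1 : R'') ⊗ₜ[R] x = ∑ k, a'' k • Y'' k := by
    have h1 := congrArg M hv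
    simp only [Submonoid.smul_def, hMs, map_sum, Finset.smul_sum, smul_smul] at h1
    have h2 := congrArg (fun w => e • w) h1
    simp only [smul_smul, Finset.smul_sum] at h2
    rw [mul_comm (v : R') (u : R'), he, one_smul] at h2
    simpa [M, a'', Y''] using h2
  -- independence
  have hind'' : LinearIndependent P''.ResidueField (fun k => Algebra.TensorProduct.map
      (IsScalarTower.toAlgHom R R'' P''.ResidueField) (AlgHom.id R S) (Y'' k)) := by
    let i₀ := Ideal.ResidueField.mapₐ p' P'' (Algebra.ofId R' R'') hP''.symm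
    have hres : IsUnit (algebraMap R' p'.ResidueField (u : R')) := by
      rw [isUnit_iff_ne_zero, ne_eq, Ideal.algebraMap_residueField_eq_zero]
      exact u.2
    have h1 : LinearIndependent p'.ResidueField (fun k => Algebra.TensorProduct.map
        (IsScalarTower.toAlgHom R R' p'.ResidueField) (AlgHom.id R S) (Y k)) := by
      convert hind.units_smul (fun _ => hres.unit) using 1
      funext k
      rw [Pi.smul_apply', Units.smul_def, IsUnit.unit_spec]
      have e1 : ∀ w, Algebra.TensorProduct.map (IsScalarTower.toAlgHom R R' p'.ResidueField)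
          (AlgHom.id R S) w = Algebra.TensorProduct.map
            (IsScalarTower.toAlgHom R A p'.ResidueField) (AlgHom.id R S) (g w) := fun w => by
        induction w using TensorProduct.induction_on with
        | zero => simp
        | tmul r s =>
          simp only [g, A, Algebra.TensorProduct.map_tmul, IsScalarTower.coe_toAlgHom',
            TensorProduct.AlgebraTensorModule.map_tmul, Algebra.linearMap_apply, LinearMap.id_apply,
            ← IsScalarTower.algebraMap_apply R' (Localization.AtPrime p') p'.ResidueField]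
        | add c d hc hd => simp [hc, hd]
      rw [e1, hY, ← algebraMap_smul A (u : R') (y k), map_smul_left]
      simp only [A, IsScalarTower.coe_toAlgHom', ← IsScalarTower.algebraMap_apply R' (Localization.AtPrime p') p'.ResidueField]
    convert Points.linearIndependent_of_field (i₀.restrictScalars R) h1 using 1
    funext k
    have e2 : (Algebra.TensorProduct.map (IsScalarTower.toAlgHom R R'' P''.ResidueField) (AlgHom.id R S)).comp M
        = (Algebra.TensorProduct.map (i₀.restrictScalars R) (AlgHom.id R S)).comp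
          (Algebra.TensorProduct.map (IsScalarTower.toAlgHom R R' p'.ResidueField) (AlgHom.id R S)) := by
      apply Algebra.TensorProduct.ext'
      intro r s
      simp [M, ι, ← IsScalarTower.algebraMap_apply R' R'' P''.ResidueField]
    exact AlgHom.congr_fun e2 (Y k)
  obtain ⟨T, _, _, _, _, _, _, P, _, hP, σ, hdet⟩ := Points.exists_points hdom R'' P'' Y'' hind''
  have : Module.Flat R' R'' := IsLocalization.flat R'' (Submonoid.powers h)
  have : Module.Flat R R'' := Module.Flat.trans R R' R''
  have : Module.Flat R T := Module.Flat.trans R R'' T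
  have : Algebra.FinitePresentation R' R'' := inferInstance
  have : Algebra.FinitePresentation R R'' := Algebra.FinitePresentation.trans R R' R''
  have : Algebra.FinitePresentation R T := Algebra.FinitePresentation.trans R R'' T
  refine ⟨T, inferInstance, inferInstance, inferInstance, inferInstance, ⟨P, inferInstance⟩, ?_, ?_⟩
  · show P.comap (algebraMap R T) = p
    rw [IsScalarTower.algebraMap_eq R R'' T, ← Ideal.comap_comap, hP,
      IsScalarTower.algebraMap_eq R R' R'', ← Ideal.comap_comap, hP'', hp']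
  let f := IsScalarTower.toAlgHom R R'' T
  refine ⟨Ideal.span (Set.range (f ∘ a'')), ⟨Finset.univ.image (f ∘ a''),
    by rw [Finset.coe_image, Finset.coe_univ, Set.image_univ]⟩, fun B _ _ φ => ?_⟩
  have hB : (1 : B) ⊗ₜ[R] x =
      Algebra.TensorProduct.map (φ.comp f) (AlgHom.id R S) (∑ k, a'' k • Y'' k) := by
    rw [← hx'', Algebra.TensorProduct.map_tmul, map_one, AlgHom.id_apply]
  rw [Content.Vanishes, hB, eq_bot_iff, Ideal.map_le_iff_le_comap, Ideal.span_le]
  constructor
  · rintro h0 _ ⟨k, rfl⟩
    exact Points.map_eq_zero Y'' a'' f σ hdet φ h0 k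
  · intro h0
    rw [map_sum]
    refine Finset.sum_eq_zero fun k _ => ?_
    have : φ (f (a'' k)) = 0 := h0 ⟨k, rfl⟩
    rw [map_smul_left, AlgHom.comp_apply, this, zero_smul]

/-- Every element of a flat finitely presented algebra with geometrically integral fibres has a
content ideal, commuting with base change. -/
theorem exists_content (hdom : ∀ (K : Type u) [Field K] [Algebra R K], IsDomain (K ⊗[R] S)) (x : S) :
    ∃ c, IsContent R S x R c := by
  choose T i1 i2 i3 i4 P hP hc using fun p : PrimeSpectrum R => exists_content_nhd hdom p.asIdeal x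
  have hopen : ∀ p, IsOpen (Set.range (PrimeSpectrum.comap (algebraMap R (T p)))) := fun p =>
    (PrimeSpectrum.isOpenMap_comap_of_hasGoingDown_of_finitePresentation (R := R) (S := T p)).isOpen_range
  obtain ⟨s, hs⟩ := isCompact_univ.elim_finite_subcover _ hopen
    (fun p _ => Set.mem_iUnion.2 ⟨p, P p, PrimeSpectrum.ext (hP p)⟩)
  refine Content.exists_descend (fun k : s => T k.1) (fun p => ?_) (fun k => hc k.1)
  obtain ⟨k, hk, Q, hQ⟩ := Set.mem_iUnion₂.1 (hs (Set.mem_univ p))
  exact ⟨⟨k, hk⟩, Q, hQ⟩

end Groth.Agent.RG.ContentExists
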