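import Groth.Agent.RG.ContentExists
import Groth.Agent.FittLib.StrictExists
import Groth.Agent.BlowUp.AffineChart

/-!
# Making a module free near the generic points of the fibres by an affine blow-up
-/

set_option autoImplicit false
set_option maxHeartbeats 1000000
set_option backward.isDefEq.respectTransparency false

universe u

open TensorProduct

namespace Groth.Agent.RG.FreeBlow

open Content FittLib

variable {R S : Type u} [CommRing R] [CommRing S] [Algebra R S]

/-- Base change of content ideals. -/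
theorem isContent_map {x : S} {c : Ideal R} (hc : IsContent R S x R c) (A : Type u) [CommRing A]
    [Algebra R A] : IsContent R S x A (c.map (algebraMap R A)) :=
  ⟨hc.1.map _, fun B _ _ φ => by
    rw [hc.2 B (φ.comp (Algebra.ofId R A)), ← Ideal.map_coe (f := φ.comp (Algebra.ofId R A)),
      ← Ideal.map_coe (f := φ), Ideal.map_map]
    rfl⟩

/-- An element annihilated by a content generator lies in `c S`. -/
theorem mem_map_of_isContent {x : S} {c : Ideal R} (hc : IsContent R S x R c) :
    x ∈ c.map (algebraMap R S) := by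
  have h : Vanishes R S x (R ⧸ c) := (hc.2 _ (Ideal.Quotient.mkₐ R c)).2 (by
    rw [eq_bot_iff, Ideal.map_le_iff_le_comap]
    intro z hz
    simpa [Ideal.Quotient.eq_zero_iff_mem] using hz)
  rw [← Ideal.Quotient.eq_zero_iff_mem]
  refine (Algebra.TensorProduct.quotIdealMapEquivTensorQuot S c).injective ?_
  rw [map_zero]
  simpa using congrArg (TensorProduct.comm R (R ⧸ c) S) h

variable [Module.Flat R S]

/-- Extensions of primes are prime. -/
theorem isPrime_map (hdom : ∀ (K : Type u) [Field K] [Algebra R K], IsDomain (K ⊗[R] S))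
    (A S' : Type u) [CommRing A] [CommRing S'] [Algebra R A] [Algebra A S'] [Algebra S S']
    [Algebra R S'] [IsScalarTower R A S'] [IsScalarTower R S S'] [Algebra.IsPushout R S A S']
    (P : Ideal A) [P.IsPrime] : (P.map (algebraMap A S')).IsPrime := by
  have : Algebra.IsPushout R A S S' := Algebra.IsPushout.symm inferInstance
  let e : A ⊗[R] S ≃ₐ[A] S' := Algebra.IsPushout.equiv R A S S'
  suffices h : (P.map (algebraMap A (A ⊗[R] S))).IsPrime by
    rw [show P.map (algebraMap A S') =
        (P.map (algebraMap A (A ⊗[R] S))).map e.toRingEquiv.toRingHom by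
      rw [Ideal.map_map]; congr 1; exact RingHom.ext fun a => (e.commutes a).symm]
    exact Ideal.map_isPrime_of_equiv e.toRingEquiv
  have hker := Algebra.TensorProduct.rTensor_ker (R := R) (C := S) (Ideal.Quotient.mkₐ R P)
    (Ideal.Quotient.mkₐ_surjective R P)
  have hk : RingHom.ker (Ideal.Quotient.mkₐ R P) = P := Ideal.Quotient.mkₐ_ker R P
  simp only [hk] at hker
  have := hdom P.ResidueField
  let i : (A ⧸ P) →ₐ[R] P.ResidueField := IsScalarTower.toAlgHom R (A ⧸ P) P.ResidueField
  have hi : Function.Injective (Algebra.TensorProduct.map i (AlgHom.id R S)) :=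
    Module.Flat.rTensor_preserves_injective_linearMap (M := S) i.toLinearMap
      (Ideal.injective_algebraMap_quotient_residueField P)
  have : IsDomain ((A ⧸ P) ⊗[R] S) :=
    hi.isDomain (Algebra.TensorProduct.map i (AlgHom.id R S)).toRingHom
  have e2 : P.map (algebraMap A (A ⊗[R] S)) =
      P.map (Algebra.TensorProduct.includeLeft : A →ₐ[R] A ⊗[R] S) := rfl
  rw [e2, ← hker]
  exact RingHom.ker_isPrime _

variable [Algebra.FinitePresentation R S]

/-- An element killed by something nonzero on the fibre over `p` vanishes near `p`. -/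
theorem exists_smul_eq_zero (hdom : ∀ (K : Type u) [Field K] [Algebra R K], IsDomain (K ⊗[R] S))
    {d g : S} (hgd : g * d = 0) (p : Ideal R) [p.IsPrime] (hg : g ∉ p.map (algebraMap R S)) :
    ∃ h : R, h ∉ p ∧ h • d = 0 := by
  classical
  obtain ⟨c, hc⟩ := ContentExists.exists_content hdom d
  let A := Localization.AtPrime p
  obtain ⟨n, a, y, hdy, hind⟩ := ContentExists.exists_expression R p d (isContent_map hc A)
  let π : A →ₐ[R] p.ResidueField := IsScalarTower.toAlgHom R A p.ResidueField
  let G : A ⊗[R] S := (1 : A) ⊗ₜ g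
  have hG : Algebra.TensorProduct.map π (AlgHom.id R S) G ≠ 0 := by
    intro h0
    simp only [G, Algebra.TensorProduct.map_tmul, map_one, AlgHom.id_apply] at h0
    let i : (R ⧸ p) →ₐ[R] p.ResidueField := IsScalarTower.toAlgHom R (R ⧸ p) p.ResidueField
    have hi : Function.Injective (Algebra.TensorProduct.map i (AlgHom.id R S)) :=
      Module.Flat.rTensor_preserves_injective_linearMap (M := S) i.toLinearMap
        (Ideal.injective_algebraMap_quotient_residueField p)
    have h1 : (1 : R ⧸ p) ⊗ₜ[R] g = 0 := hi (by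
      rw [map_zero, Algebra.TensorProduct.map_tmul, map_one]; exact h0)
    refine hg ?_
    rw [← Ideal.Quotient.eq_zero_iff_mem]
    refine (Algebra.TensorProduct.quotIdealMapEquivTensorQuot S p).injective ?_
    rw [map_zero]
    simpa using congrArg (TensorProduct.comm R (R ⧸ p) S) h1
  let y' : Fin n → A ⊗[R] S := fun k => G * y k
  have := hdom p.ResidueField
  have hind' : LinearIndependent p.ResidueField
      (fun k => Algebra.TensorProduct.map π (AlgHom.id R S) (y' k)) := by
    have h5 := hind.map' (LinearMap.mulLeft p.ResidueField (Algebra.TensorProduct.map π (AlgHom.id R S) G))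
      (LinearMap.ker_eq_bot.2 (mul_right_injective₀ hG))
    have e : (fun k => Algebra.TensorProduct.map π (AlgHom.id R S) (y' k)) =
        LinearMap.mulLeft p.ResidueField (Algebra.TensorProduct.map π (AlgHom.id R S) G) ∘
          fun k => Algebra.TensorProduct.map π (AlgHom.id R S) (y k) := by
      funext k
      simp [y', Function.comp_apply, map_mul]
    rw [e]
    exact h5
  let m := IsLocalRing.maximalIdeal A
  let i₀ : p.ResidueField →ₐ[A] m.ResidueField :=
    ⟨Ideal.Quotient.lift _ (algebraMap A m.ResidueField)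
      (fun a ha => Ideal.algebraMap_residueField_eq_zero.2 ha), fun a => rfl⟩
  have hind'' : LinearIndependent m.ResidueField (fun k => Algebra.TensorProduct.map
      (IsScalarTower.toAlgHom R A m.ResidueField) (AlgHom.id R S) (y' k)) := by
    convert Points.linearIndependent_of_field (i₀.restrictScalars R) hind' using 1
    funext k
    rw [← AlgHom.comp_apply, ← Algebra.TensorProduct.map_comp, AlgHom.id_comp]
    rfl
  obtain ⟨T, _, _, _, _, _, _, P, _, hP, σ, hdet⟩ := Points.exists_points hdom A m y' hind''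
  have hzero : ∑ k, algebraMap R A (a k) • y' k = 0 := by
    simp only [y', ← mul_smul_comm, ← Finset.mul_sum]
    erw [← hdy]
    rw [Algebra.TensorProduct.tmul_mul_tmul, hgd, TensorProduct.tmul_zero]
  have ha : ∀ k, algebraMap R A (a k) = 0 := fun k => by
    refine eq_zero_of_forall (R := A) (fun _ : Unit => T) (fun q => ?_) _ fun _ => ?_
    · haveI : P.LiesOver m := ⟨hP.symm⟩
      obtain ⟨Q, -, hQ, hQo⟩ := Ideal.exists_ideal_le_liesOver_of_le (R := A) (p := q.asIdeal)
        (q := m) P (IsLocalRing.le_maximalIdeal q.2.ne_top)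
      exact ⟨(), ⟨Q, hQ⟩, PrimeSpectrum.ext hQo.over.symm⟩
    · have h6 := Points.map_eq_zero y' (fun k => algebraMap R A (a k))
        (IsScalarTower.toAlgHom R A T) σ hdet (AlgHom.id R T) (by rw [hzero, map_zero]) k
      have : (1 : T) ⊗ₜ[A] algebraMap R A (a k) = algebraMap A T (algebraMap R A (a k)) ⊗ₜ[A] (1 : A) := by
        rw [Algebra.algebraMap_eq_smul_one (A := T), TensorProduct.smul_tmul, smul_eq_mul, mul_one]
      rw [this, show algebraMap A T (algebraMap R A (a k)) = 0 from h6, TensorProduct.zero_tmul]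
  have hd0 : (1 : A) ⊗ₜ[R] d = 0 := by
    rw [hdy]
    exact Finset.sum_eq_zero fun k _ => by erw [ha k, zero_smul]
  have : IsLocalizedModule p.primeCompl (TensorProduct.mk R A S 1) :=
    (isLocalizedModule_iff_isBaseChange p.primeCompl A _).2 (TensorProduct.isBaseChange R S A)
  obtain ⟨h, hh⟩ := IsLocalizedModule.exists_of_eq (S := p.primeCompl)
    (f := TensorProduct.mk R A S 1) (x₁ := d) (x₂ := 0) (by rw [map_zero]; exact hd0)
  exact ⟨h, h.2, by rw [smul_zero] at hh; exact hh⟩

/-- Functions vanishing at the generic points of the fibres over `D(f)` vanish on `D(f)`. -/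
theorem exists_pow_mul_eq_zero (hdom : ∀ (K : Type u) [Field K] [Algebra R K], IsDomain (K ⊗[R] S))
    (f : R) {d : S} (h : ∀ (p : Ideal R) [p.IsPrime], f ∉ p →
      ∃ g : S, g ∉ p.map (algebraMap R S) ∧ g * d = 0) :
    ∃ n : ℕ, algebraMap R S f ^ n * d = 0 := by
  have hf : f ∈ Ideal.radical (LinearMap.ker (LinearMap.toSpanSingleton R S d)) := by
    rw [Ideal.radical_eq_sInf]
    refine Submodule.mem_sInf.2 fun q ⟨hle, hq⟩ => ?_
    by_contra hfq
    obtain ⟨g, hg, hgd⟩ := h q hfq
    obtain ⟨r, hr, hrd⟩ := exists_smul_eq_zero hdom hgd q hg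
    exact hr (hle hrd)
  obtain ⟨n, hn⟩ := hf
  refine ⟨n, ?_⟩
  rw [← map_pow, ← Algebra.smul_def]
  exact hn

omit [Module.Flat R S] [Algebra.FinitePresentation R S] in
/-- A finitely presented cover which is an isomorphism away from `f`. -/
theorem exists_fp_cover (f : S) (M : Type u) [AddCommGroup M] [Module S M] [Module.Finite S M]
    (hfp : Module.FinitePresentation (Localization.Away f) (LocalizedModule (Submonoid.powers f) M)) :
    ∃ (M₂ : Type u) (_ : AddCommGroup M₂) (_ : Module S M₂) (_ : Module.FinitePresentation S M₂)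
      (q : M₂ →ₗ[S] M), Function.Surjective q ∧ ∀ v, q v = 0 → ∃ m : ℕ, f ^ m • v = 0 := by
  classical
  obtain ⟨n, π, hπ⟩ := Module.Finite.exists_fin' S M
  let W := Submonoid.powers f
  let ι := LocalizedModule.mkLinearMap W (Fin n → S)
  let πf := IsLocalizedModule.mapExtendScalars W ι (LocalizedModule.mkLinearMap W M) (Localization.Away f) π
  have hπf : Function.Surjective πf :=
    IsLocalizedModule.map_surjective W ι (LocalizedModule.mkLinearMap W M) π hπ
  haveI : Module.Finite (Localization.Away f) (LocalizedModule W (Fin n → S)) :=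
    Module.Finite.of_isLocalizedModule W ι
  obtain ⟨t, ht⟩ := Module.FinitePresentation.fg_ker πf hπf
  have hlift : ∀ v ∈ t, ∃ w : Fin n → S, π w = 0 ∧ ∃ s : W, s • v = ι w := fun v hv => by
    have hv0 : πf v = 0 := by
      rw [← LinearMap.mem_ker, ← ht]; exact Submodule.subset_span hv
    obtain ⟨⟨w, s⟩, hw⟩ := IsLocalizedModule.surj W ι v
    have h1 : LocalizedModule.mkLinearMap W M (π w) = 0 := by
      rw [← IsLocalizedModule.map_apply W ι (LocalizedModule.mkLinearMap W M) π, ← hw]
      show πf (s • v) = 0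
      rw [Submonoid.smul_def, ← algebraMap_smul (Localization.Away f), map_smul, hv0, smul_zero]
    obtain ⟨u, hu⟩ := IsLocalizedModule.exists_of_eq (S := W)
      (f := LocalizedModule.mkLinearMap W M) (x₁ := π w) (x₂ := 0) (by rw [h1, map_zero])
    refine ⟨u • w, ?_, u * s, ?_⟩
    · rw [Submonoid.smul_def, map_smul, ← Submonoid.smul_def, hu, smul_zero]
    · rw [mul_smul, hw, Submonoid.smul_def, Submonoid.smul_def, map_smul]
  choose w hw0 sv hsv using hlift
  let K₀ : Submodule S (Fin n → S) := Submodule.span S (Set.range fun v : t => w v.1 v.2)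
  have hK₀ : K₀ ≤ LinearMap.ker π :=
    Submodule.span_le.2 (by rintro _ ⟨v, rfl⟩; exact hw0 v.1 v.2)
  refine ⟨(Fin n → S) ⧸ K₀, inferInstance, inferInstance,
    Module.finitePresentation_of_surjective K₀.mkQ K₀.mkQ_surjective (by
      rw [Submodule.ker_mkQ]; exact Submodule.fg_span (Set.finite_range _)),
    K₀.liftQ π hK₀, ?_, ?_⟩
  · intro m
    obtain ⟨z, rfl⟩ := hπ m
    exact ⟨K₀.mkQ z, rfl⟩
  intro v hv
  obtain ⟨z, rfl⟩ := K₀.mkQ_surjective v
  have hz : ι z ∈ LinearMap.ker πf := by
    rw [LinearMap.mem_ker]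
    show IsLocalizedModule.map W ι (LocalizedModule.mkLinearMap W M) π (ι z) = 0
    rw [IsLocalizedModule.map_apply]
    rw [show π z = 0 from hv, map_zero]
  rw [← ht] at hz
  have key : ∀ u ∈ Submodule.span (Localization.Away f) (t : Set (LocalizedModule W (Fin n → S))),
      ∃ (s : W) (k : Fin n → S), k ∈ K₀ ∧ s • u = ι k := by
    intro u hu
    induction hu using Submodule.span_induction with
    | mem x hx => exact ⟨sv x hx, w x hx, Submodule.subset_span ⟨⟨x, hx⟩, rfl⟩, hsv x hx⟩
    | zero => exact ⟨1, 0, K₀.zero_mem, by simp⟩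
    | add x y _ _ hx hy =>
      obtain ⟨s, k, hk, hs⟩ := hx
      obtain ⟨s', k', hk', hs'⟩ := hy
      refine ⟨s * s', (s' : S) • k + (s : S) • k', K₀.add_mem (K₀.smul_mem _ hk) (K₀.smul_mem _ hk'), ?_⟩
      rw [map_add, map_smul, map_smul, ← hs, ← hs', smul_add, mul_comm, mul_smul, mul_comm, mul_smul]
      rfl
    | smul c x _ hx =>
      obtain ⟨s, k, hk, hs⟩ := hx
      obtain ⟨c₀, s₀, rfl⟩ := IsLocalization.exists_mk'_eq W c
      refine ⟨s₀ * s, c₀ • k, K₀.smul_mem _ hk, ?_⟩
      rw [map_smul, ← hs, Submonoid.smul_def, Submonoid.smul_def, Submonoid.coe_mul, mul_smul,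
        smul_comm (s : S) (IsLocalization.mk' _ c₀ s₀) x, ← smul_assoc, Algebra.smul_def,
        IsLocalization.mk'_spec'_mk, algebraMap_smul]
  obtain ⟨s, k, hk, hs⟩ := key _ hz
  obtain ⟨u, hu⟩ := IsLocalizedModule.exists_of_eq (S := W) (f := ι) (x₁ := (s : S) • z) (x₂ := k) (by
    rw [map_smul]; exact hs)
  obtain ⟨m, hm⟩ := (u * s).2
  refine ⟨m, ?_⟩
  rw [show f ^ m = ((u * s : W) : S) from hm, ← map_smul, Submodule.mkQ_apply, Submodule.Quotient.mk_eq_zero]
  rw [Submonoid.coe_mul, mul_smul, ← Submonoid.smul_def u, hu, Submonoid.smul_def]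
  exact K₀.smul_mem _ hk

variable {M : Type u} [AddCommGroup M] [Module S M] [Module.Finite S M]

omit [Module.Flat R S] [Algebra.FinitePresentation R S] in
/-- The Fitting ideal criterion on a chart. -/
theorem exists_free_chart {M₂ : Type u} [AddCommGroup M₂] [Module S M₂] [Module.Finite S M₂]
    (q : M₂ →ₗ[S] M) (hq : Function.Surjective q) (f : S) (hker : ∀ v, q v = 0 → ∃ m : ℕ, f ^ m • v = 0)
    (r : ℕ) (hbot : ∀ j, j < r → ∀ d ∈ Fitt.ideal S M₂ j, ∃ m : ℕ, f ^ m * d = 0)
    (B : Type u) [CommRing B] [Algebra S B] (t : B) (hnzd : t ∈ nonZeroDivisors B)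
    (hmap : (Ideal.span {f} * Fitt.ideal S M₂ r).map (algebraMap S B) = Ideal.span {t})
    (P : Ideal B) [P.IsPrime] :
    ∃ g : B, g ∉ P ∧
      ∃ y : Fin r → (B ⊗[S] M) ⧸ FlatCA.powTorsion B t (B ⊗[S] M), StrictExists.IsPowBasis g y := by
  let φ := algebraMap S B
  have ht : t ∈ (Ideal.span {φ f} * (Fitt.ideal S M₂ r).map φ) := by
    rw [← Set.image_singleton, ← Ideal.map_span, ← Ideal.map_mul, hmap]
    exact Ideal.mem_span_singleton_self t
  obtain ⟨c, hc, hct⟩ := Ideal.mem_span_singleton_mul.1 ht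
  subst hct
  obtain ⟨hfnz, hcnz⟩ := mul_mem_nonZeroDivisors.1 hnzd
  have hfit : Fitt.ideal B (B ⊗[S] M₂) r = Ideal.span {c} := by
    rw [ideal_baseChange (R' := B) r]
    refine le_antisymm (fun y hy => ?_) ((Ideal.span_singleton_le_iff_mem _).2 hc)
    have h1 : φ f * y ∈ (Ideal.span {f} * Fitt.ideal S M₂ r).map φ := by
      rw [Ideal.map_mul, Ideal.map_span, Set.image_singleton]
      exact Ideal.mul_mem_mul (Ideal.mem_span_singleton_self _) hy
    rw [hmap, Ideal.mem_span_singleton'] at h1
    obtain ⟨z, hz⟩ := h1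
    rw [Ideal.mem_span_singleton']
    refine ⟨z, (mul_cancel_left_mem_nonZeroDivisors hfnz).1 ?_⟩
    rw [← hz]
    ring
  have hk : r = 0 ∨ Fitt.ideal B (B ⊗[S] M₂) (r - 1) = ⊥ := by
    rcases r with _ | r
    · exact Or.inl rfl
    · refine Or.inr ?_
      rw [ideal_baseChange (R' := B) (r + 1 - 1), Ideal.map_eq_bot_iff_le_ker]
      intro d hd
      obtain ⟨m, hm⟩ := hbot _ (by omega) d hd
      have := congrArg φ hm
      rw [map_mul, map_pow, map_zero] at this
      exact (mem_nonZeroDivisors_iff_left.1 (pow_mem hfnz m)) _ this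
  obtain ⟨g, hg, hfree, hrk⟩ := Strict.exists_free_away_powTorsion r hcnz hfit hk P
  have hproj := projective_quotient r c hcnz hfit hk
  let qB : B ⊗[S] M₂ →ₗ[B] B ⊗[S] M := q.baseChange B
  have hqB : Function.Surjective qB := LinearMap.lTensor_surjective B hq
  have hK : ∀ v, qB v = 0 → ∃ m : ℕ, φ f ^ m • v = 0 := fun v hv => by
    obtain ⟨w, rfl⟩ := ((lTensor_exact B (LinearMap.exact_subtype_ker_map q) hq) v).1 hv
    clear hv
    induction w using TensorProduct.induction_on with
    | zero => exact ⟨0, by simp⟩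
    | tmul b k =>
      obtain ⟨m, hm⟩ := hker k.1 k.2
      refine ⟨m, ?_⟩
      rw [LinearMap.lTensor_tmul, ← map_pow, algebraMap_smul, ← TensorProduct.tmul_smul,
        Submodule.subtype_apply, hm, TensorProduct.tmul_zero]
    | add w w' hw hw' =>
      obtain ⟨m, hm⟩ := hw
      obtain ⟨m', hm'⟩ := hw'
      refine ⟨m + m', ?_⟩
      rw [map_add, smul_add]
      nth_rw 1 [add_comm m m']
      rw [pow_add, mul_smul, hm, smul_zero, pow_add, mul_smul, hm', smul_zero, add_zero]
  let P₂ := FlatCA.powTorsion B c (B ⊗[S] M₂)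
  let Ψ : B ⊗[S] M₂ →ₗ[B] (B ⊗[S] M) ⧸ FlatCA.powTorsion B (φ f * c) (B ⊗[S] M) :=
    (FlatCA.powTorsion B (φ f * c) (B ⊗[S] M)).mkQ ∘ₗ qB
  have hΨ : LinearMap.ker Ψ = P₂ := by
    ext v
    simp only [LinearMap.mem_ker, Ψ, LinearMap.comp_apply, Submodule.mkQ_apply,
      Submodule.Quotient.mk_eq_zero, P₂, Strict.mem_powTorsion]
    constructor
    · rintro ⟨n, hn⟩
      rw [← map_smul] at hn
      obtain ⟨m, hm⟩ := hK _ hn
      rw [smul_smul] at hm
      have hz : (φ f ^ m * (φ f * c) ^ n) • (Submodule.Quotient.mk v :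
          (B ⊗[S] M₂) ⧸ LinearMap.ker (c • (LinearMap.id : B ⊗[S] M₂ →ₗ[B] B ⊗[S] M₂))) = 0 := by
        rw [← Submodule.Quotient.mk_smul, hm]; rfl
      haveI := hproj.2
      have hreg : IsSMulRegular ((B ⊗[S] M₂) ⧸ LinearMap.ker (c • (LinearMap.id : B ⊗[S] M₂ →ₗ[B] B ⊗[S] M₂)))
          (φ f ^ m * (φ f * c) ^ n) :=
        Module.Flat.isSMulRegular_of_nonZeroDivisors (mul_mem (pow_mem hfnz m) (pow_mem hnzd n))
      have h0 := hreg.right_eq_zero_of_smul hz
      rw [Submodule.Quotient.mk_eq_zero, LinearMap.mem_ker] at h0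
      exact ⟨1, by simpa using h0⟩
    · rintro ⟨n, hn⟩
      refine ⟨n, ?_⟩
      rw [← map_smul, mul_pow, mul_smul, hn, smul_zero, map_zero]
  let e : ((B ⊗[S] M₂) ⧸ P₂) ≃ₗ[B] (B ⊗[S] M) ⧸ FlatCA.powTorsion B (φ f * c) (B ⊗[S] M) :=
    (Submodule.quotEquivOfEq _ _ hΨ.symm).trans
      (LinearMap.quotKerEquivOfSurjective Ψ ((Submodule.mkQ_surjective _).comp hqB))
  have hnt : Nontrivial (Localization.Away g) := by
    refine nontrivial_of_ne 1 0 fun h => ?_
    rw [← map_one (algebraMap B (Localization.Away g)), IsLocalization.map_eq_zero_iff (Submonoid.powers g)] at h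
    obtain ⟨⟨_, n, rfl⟩, hn⟩ := h
    simp only [mul_one] at hn
    exact hg (Ideal.IsPrime.mem_of_pow_mem inferInstance n (by rw [hn]; exact zero_mem P))
  have : Module.Finite (Localization.Away g) (LocalizedModule (Submonoid.powers g) ((B ⊗[S] M₂) ⧸ P₂)) :=
    Module.Finite.of_isLocalizedModule (Submonoid.powers g) (LocalizedModule.mkLinearMap _ _)
  obtain ⟨y, hy1, hy2⟩ := StrictExists.exists_isPowBasis g (Module.finBasisOfFinrankEq _ _ hrk)
  refine ⟨g, hg, e ∘ y, fun v => ?_, fun z hz => hy2 z (e.injective ?_)⟩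
  · obtain ⟨m, hm⟩ := hy1 (e.symm v)
    refine ⟨m, ?_⟩
    rw [Set.range_comp, ← LinearEquiv.coe_toLinearMap, Submodule.span_image]
    exact ⟨_, hm, by simp⟩
  · simpa using hz

end Groth.Agent.RG.FreeBlow
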