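import Groth.Agent.FittLib.StrictSheaf
import Groth.Prelude.Def_HTop3

/-!
# Strict transforms with respect to a locally principal ideal
-/

set_option autoImplicit false
set_option linter.style.haveILetI false

universe u

open CategoryTheory Limits AlgebraicGeometry TopologicalSpace

noncomputable section

namespace Groth.Agent.RG.StrictLP

open Groth.Agent.QCoh

variable {X : Scheme.{u}}

theorem fg_ideal {I : X.IdealSheafData} (hI : HTop.IsLocPrincipal I) (U : X.affineOpens) : (I.ideal U).FG := by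
  refine IdealSh.Extend.fg_of_forall_exists U fun x hx => ?_
  obtain ⟨V, hxV, t, ht⟩ := hI x
  obtain ⟨W, hxW, hW⟩ := IdealSh.Comap.exists_affine_le x (U.1 ⊓ V.1) ⟨hx, hxV⟩
  obtain ⟨g, hg, hxg⟩ := U.2.exists_basicOpen_le ⟨x, hxW⟩ hx
  exact ⟨g, hxg, by rw [IdealSh.EffCartier.restrict_eq (hg.trans (hW.trans inf_le_right)) ht]; exact ⟨{_}, by simp; rfl⟩⟩

variable {N G : X.Modules} {π : N ⟶ G} {E : X.IdealSheafData}

theorem isQuasicoherent_kernel_of_kills [N.IsQuasicoherent] (hE : HTop.IsLocPrincipal E)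
    (h : FittLib.StrictSheaf.KillsTorsion π E) : (kernel π).IsQuasicoherent := by
  have hN := (isQuasicoherent_iff_forall_isAffineOpen N).1 inferInstance
  rw [isQuasicoherent_iff_forall_isAffineOpen]
  intro U hU g
  let S := ShortComplex.mk (kernel.ι π) π (kernel.condition π)
  have hS : S.Exact := ShortComplex.exact_of_f_is_kernel _ (kernelIsKernel π)
  haveI : Mono S.f := inferInstanceAs (Mono (kernel.ι π))
  refine ⟨fun s => ?_, fun t ht => ?_⟩
  · obtain ⟨n, t, ht⟩ := (hN U hU g).surj ((kernel.ι π).app _ s)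
    obtain ⟨l, hl⟩ := (h ⟨_, hU.basicOpen g⟩ ((kernel.ι π).app _ s)).1 (app_app_eq_zero S _ s)
    obtain ⟨T, hT⟩ := fg_ideal hE ⟨U, hU⟩ |>.pow (n := l)
    have hT' : ∀ a ∈ T, ∃ m : ℕ, g ^ m • a • t = 0 := fun a ha => by
      refine (hN U hU g).eq_zero _ ?_
      rw [res_smul, ht]
      refine (smul_smul _ _ _).trans ((congrArg (· • _) (mul_comm _ _)).trans ((smul_smul _ _ _).symm.trans ?_))
      rw [hl _ ?_, smul_zero]
      have ha' : a ∈ (E ^ l).ideal ⟨U, hU⟩ := by
        rw [Scheme.IdealSheafData.ideal_pow, Pi.pow_apply, ← hT]; exact Submodule.subset_span ha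
      rw [← Scheme.IdealSheafData.map_ideal _ (U := ⟨_, hU.basicOpen g⟩) (V := ⟨U, hU⟩) (X.basicOpen_le g)]
      exact Ideal.mem_map_of_mem _ ha'
    choose m hm using hT'
    let M := T.attach.sup fun a => m a.1 a.2
    have hkill : π.app U (g ^ M • t) = 0 := (h ⟨U, hU⟩ _).2 ⟨l, fun a ha => by
      have ha' : a ∈ Submodule.span Γ(X, U) (T : Set Γ(X, U)) := by
        change a ∈ Ideal.span _
        rw [Scheme.IdealSheafData.ideal_pow, Pi.pow_apply, ← hT] at ha
        exact ha
      clear ha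
      induction ha' using Submodule.span_induction with
      | mem z hz =>
        obtain ⟨c, hc⟩ := Nat.exists_eq_add_of_le
          (Finset.le_sup (f := fun a : T => m a.1 a.2) (Finset.mem_attach T ⟨z, hz⟩))
        rw [smul_comm, show M = m z hz + c from hc, pow_add, mul_comm, mul_smul, hm z hz, smul_zero]
      | zero => exact zero_smul _ _
      | add a b _ _ iha ihb => rw [add_smul, iha, ihb, add_zero]
      | smul r b _ ihb => rw [smul_eq_mul, mul_smul, ihb, smul_zero]⟩
    obtain ⟨y, hy⟩ := exists_app_eq_of_app_eq_zero S hS U _ hkill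
    refine ⟨M + n, y, app_injective_of_mono (kernel.ι π) _ ?_⟩
    rw [app_res, show (kernel.ι π).app U y = g ^ M • t from hy, res_smul, ht, map_pow, smul_smul, ← pow_add]
    exact (Scheme.Modules.Hom.app_smul _ _ _).symm
  · obtain ⟨n, hn⟩ := (hN U hU g).eq_zero ((kernel.ι π).app U t) (by rw [← app_res, ht, map_zero])
    refine ⟨n, app_injective_of_mono (kernel.ι π) _ ?_⟩
    rw [Scheme.Modules.Hom.app_smul, hn, map_zero]

theorem isQuasicoherent_of_kills [N.IsQuasicoherent] [Epi π] (hE : HTop.IsLocPrincipal E)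
    (h : FittLib.StrictSheaf.KillsTorsion π E) : G.IsQuasicoherent := by
  haveI := isQuasicoherent_kernel_of_kills hE h
  let e : cokernel (kernel.ι π) ≅ G := IsColimit.coconePointUniqueUpToIso (colimit.isColimit _)
    (Abelian.epiIsCokernelOfKernel _ (kernelIsKernel π))
  exact isQuasicoherent_of_iso e

open FittLib.StrictSheaf in
/-- Sections of the strict transform over a chart. -/
theorem nonempty_sections [N.IsQuasicoherent] [Epi π] (hE : HTop.IsLocPrincipal E)
    (h : FittLib.StrictSheaf.KillsTorsion π E) {V : X.affineOpens} {c : Γ(X, V.1)} (hc : E.ideal V = Ideal.span {c}) :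
    Nonempty ((Γ(N, V.1) ⧸ FlatCA.powTorsion Γ(X, V.1) c Γ(N, V.1)) ≃ₗ[Γ(X, V.1)] Γ(G, V.1)) := by
  haveI := isQuasicoherent_of_kills hE h
  exact ⟨(Submodule.quotEquivOfEq _ _ (ker_appLin hc h).symm).trans
    (LinearMap.quotKerEquivOfSurjective _ (app_surjective_of_epi π V.2))⟩

end Groth.Agent.RG.StrictLP
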