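import Groth.Agent.RG.FTMain

/-!
# The strict transform of a morphism of finite type is flat and finitely presented
-/

set_option autoImplicit false
set_option maxHeartbeats 1600000

universe u

open AlgebraicGeometry CategoryTheory Limits

namespace Groth.Agent.RG.FTStrict

/-- Flattening of a morphism of finite type by an admissible blow-up with centre the whole complement. -/
theorem exists_strict {X S : Scheme.{u}} [CompactSpace S] [QuasiSeparatedSpace S]
    (f : X ⟶ S) [LocallyOfFiniteType f] [QuasiCompact f] [QuasiSeparated f] (U : S.Opens) (hU : IsCompact (U : Set S))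
    [Flat (f ∣_ U)] [LocallyOfFinitePresentation (f ∣_ U)] :
    ∃ (𝓘 : S.IdealSheafData) (S' : Scheme.{u}) (b : S' ⟶ S), BlowUp.IsBlowUp b 𝓘 ∧ BlowUp.IsAdmissibleFor U 𝓘 ∧
      (𝓘.support : Set S) = (U : Set S)ᶜ ∧
      ∀ (X' : Scheme.{u}) (p₁ : X' ⟶ X) (p₂ : X' ⟶ S'), IsPullback p₁ p₂ f b →
      ∀ (𝒥 : X'.IdealSheafData),
        (∀ (V : X'.affineOpens) (a : Γ(X', V.1)), a ∈ 𝒥.ideal V ↔
          BlowUp.KilledByPowerNear ((𝓘.comap f).comap p₁) (Coh.structureModule X') V a) →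
        Flat (𝒥.subschemeι ≫ p₂) ∧ LocallyOfFinitePresentation (𝒥.subschemeι ≫ p₂) ∧
          QuasiCompact (𝒥.subschemeι ≫ p₂) ∧ QuasiSeparated (𝒥.subschemeι ≫ p₂) := by
  obtain ⟨𝓘, S', b, hb, hadm, hsupp, h⟩ := FTMain.exists_flattening f U hU
  refine ⟨𝓘, S', b, hb, hadm, hsupp, fun X' p₁ p₂ hpb 𝒥 hJ => ?_⟩
  haveI : QuasiCompact p₂ := MorphismProperty.of_isPullback hpb ‹QuasiCompact f›
  haveI : QuasiSeparated p₂ := MorphismProperty.of_isPullback hpb ‹QuasiSeparated f›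
  have key : ∀ y : 𝒥.subscheme, ∃ (W : S'.affineOpens) (O : 𝒥.subscheme.affineOpens) (_ : y ∈ O.1)
      (e : O.1 ≤ (𝒥.subschemeι ≫ p₂) ⁻¹ᵁ W.1),
      ((𝒥.subschemeι ≫ p₂).appLE W.1 O.1 e).hom.Flat ∧
      ((𝒥.subschemeι ≫ p₂).appLE W.1 O.1 e).hom.FinitePresentation := by
    intro y
    obtain ⟨W, O, e, c, hyO, hc, hfl, hfp⟩ := h X' p₁ p₂ hpb (𝒥.subschemeι y)
    have hOa : IsAffineOpen (𝒥.subschemeι ⁻¹ᵁ O.1) := O.2.preimage 𝒥.subschemeι
    have e' : 𝒥.subschemeι ⁻¹ᵁ O.1 ≤ (𝒥.subschemeι ≫ p₂) ⁻¹ᵁ W.1 := by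
      rw [Scheme.Hom.comp_preimage]; exact 𝒥.subschemeι.preimage_mono e
    refine ⟨W, ⟨_, hOa⟩, hyO, e', ?_⟩
    letI : Algebra Γ(S', W.1) Γ(X', O.1) := (p₂.appLE W.1 O.1 e).hom.toAlgebra
    let J : Ideal Γ(X', O.1) := FlatCA.powTorsion Γ(X', O.1) c Γ(X', O.1)
    have hJO : J = RingHom.ker (𝒥.subschemeι.app O.1).hom := by
      rw [𝒥.ker_subschemeι_app O]
      ext a
      rw [hJ O a]
      show a ∈ FlatCA.powTorsion Γ(X', O.1) c Γ(X', O.1) ↔ _
      rw [FittLib.Strict.mem_powTorsion]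
      refine exists_congr fun n => ⟨fun ha z hz => ?_, fun ha => ?_⟩
      · rw [Scheme.IdealSheafData.ideal_pow, Pi.pow_apply, hc, Ideal.span_singleton_pow,
          Ideal.mem_span_singleton] at hz
        obtain ⟨d, rfl⟩ := hz
        show (c ^ n * d) * a = 0
        have ha' : c ^ n * a = 0 := ha
        rw [mul_right_comm, ha', zero_mul]
      · have := ha (c ^ n) (by
          rw [Scheme.IdealSheafData.ideal_pow, Pi.pow_apply, hc]
          exact Ideal.pow_mem_pow (Ideal.mem_span_singleton_self c) n)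
        exact this
    let ε : (Γ(X', O.1) ⧸ J) ≃+* Γ(𝒥.subscheme, 𝒥.subschemeι ⁻¹ᵁ O.1) :=
      (Ideal.quotEquivOfEq hJO).trans
        (RingHom.quotientKerEquivOfSurjective (𝒥.subschemeι_app_surjective O))
    have hmap : ((𝒥.subschemeι ≫ p₂).appLE W.1 (𝒥.subschemeι ⁻¹ᵁ O.1) e').hom =
        ε.toRingHom.comp (algebraMap Γ(S', W.1) (Γ(X', O.1) ⧸ J)) := by
      refine RingHom.ext fun a => ?_
      show (𝒥.subschemeι ≫ p₂).appLE W.1 (𝒥.subschemeι ⁻¹ᵁ O.1) e' a = 𝒥.subschemeι.app O.1 (p₂.appLE W.1 O.1 e a)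
      rw [Scheme.Hom.app_eq_appLE, ← CommRingCat.comp_apply, Scheme.Hom.appLE_comp_appLE]
    rw [hmap]
    exact ⟨RingHom.Flat.comp (RingHom.flat_algebraMap_iff.2 hfl) (RingHom.Flat.of_bijective ε.bijective),
      RingHom.FinitePresentation.comp (RingHom.FinitePresentation.of_bijective ε.bijective)
        (RingHom.finitePresentation_algebraMap.2 hfp)⟩
  refine ⟨?_, ?_, inferInstance, inferInstance⟩
  · refine (HasRingHomProperty.iff_exists_appLE (P := @Flat)
      (RingHom.Flat.stableUnderComposition.stableUnderCompositionWithLocalizationAway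
        RingHom.Flat.holdsForLocalizationAway).left).2 fun y => ?_
    obtain ⟨W, O, hy, e, h1, -⟩ := key y
    exact ⟨W, O, hy, e, h1⟩
  · refine (HasRingHomProperty.iff_exists_appLE (P := @LocallyOfFinitePresentation)
      (RingHom.finitePresentation_stableUnderComposition.stableUnderCompositionWithLocalizationAway
        RingHom.finitePresentation_holdsForLocalizationAway).left).2 fun y => ?_
    obtain ⟨W, O, hy, e, -, h2⟩ := key y
    exact ⟨W, O, hy, e, h2⟩

end Groth.Agent.RG.FTStrict
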