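import Groth.Agent.HTopSq.Basic
import Groth.Agent.ModPairLib.Dense
import Groth.Agent.QDom.Global
import Groth.Prelude.Def_BlowUp2
import Groth.Prelude.Def_CohB1

/-!
# Strict transforms of schemes along blow-ups

`isBlowUp_strict`: the strict transform `T ⊆ X ×_S S'` of `X → S` along the blow-up of `S` in `𝓘`
is the blow-up of `X` in `𝓘.comap f`.
-/

set_option autoImplicit false
set_option maxHeartbeats 800000
set_option backward.isDefEq.respectTransparency false
set_option backward.defeqAttrib.useBackward true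

universe u

open CategoryTheory CategoryTheory.Limits AlgebraicGeometry TopologicalSpace Opposite
open Groth.Agent.IdealSh

namespace Groth.Agent.RG.StrictSub

variable {X S S' X' : Scheme.{u}}

lemma isLocPrincipal_of_effCartier {J : X.IdealSheafData} (hJ : BlowUp.IsEffCartierIdeal J) :
    HTop.IsLocPrincipal J := fun x => by
  obtain ⟨U, hxU, f, -, hf⟩ := hJ x
  exact ⟨U, hxU, f, hf⟩

/-- The ideal of functions killed by a power of a locally principal ideal is the ideal of functions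
supported on it. -/
lemma eq_supportedOn {J : X.IdealSheafData} (hJ : HTop.IsLocPrincipal J) {𝒥 : X.IdealSheafData}
    (h : ∀ (W : X.affineOpens) (a : Γ(X, W.1)), a ∈ 𝒥.ideal W ↔
      BlowUp.KilledByPowerNear J (Coh.structureModule X) W a) :
    𝒥 = HTop.supportedOn J := by
  refine Comap.ext_of_forall_exists _ _ fun x => ?_
  obtain ⟨U, hxU, f, hf⟩ := hJ x
  refine ⟨U, hxU, ?_⟩
  ext a
  rw [h, HTopSq.mem_supportedOn hJ hf]
  haveI := U.2.isLocalization_basicOpen f
  show _ ↔ algebraMap Γ(X, U.1) Γ(X, X.basicOpen f) a = 0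
  rw [IsLocalization.map_eq_zero_iff (Submonoid.powers f)]
  constructor
  · rintro ⟨n, hn⟩
    refine ⟨⟨f ^ n, n, rfl⟩, ?_⟩
    exact hn (f ^ n) (by rw [Scheme.IdealSheafData.ideal_pow, Pi.pow_apply, hf]; exact Ideal.pow_mem_pow (Ideal.mem_span_singleton_self f) n)
  · rintro ⟨⟨_, n, rfl⟩, hn⟩
    refine ⟨n, fun b hb => ?_⟩
    rw [Scheme.IdealSheafData.ideal_pow, Pi.pow_apply, hf, Ideal.span_singleton_pow, Ideal.mem_span_singleton] at hb
    obtain ⟨c, rfl⟩ := hb
    show (f ^ n * c) * a = 0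
    rw [mul_right_comm]
    simp only at hn
    rw [hn, zero_mul]

variable {f : X ⟶ S} {b : S' ⟶ S} {p₁ : X' ⟶ X} {p₂ : X' ⟶ S'}

lemma isLocPrincipal_exceptional {𝓘 : S.IdealSheafData} (hb : BlowUp.IsBlowUp b 𝓘)
    (w : p₁ ≫ f = p₂ ≫ b) : HTop.IsLocPrincipal ((𝓘.comap f).comap p₁) := by
  rw [← Scheme.IdealSheafData.comap_comp, w, Scheme.IdealSheafData.comap_comp]
  exact HTopSq.isLocPrincipal_comap p₂ (isLocPrincipal_of_effCartier hb.1)

theorem isBlowUp_strict {𝓘 : S.IdealSheafData} (hb : BlowUp.IsBlowUp b 𝓘)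
    (h : IsPullback p₁ p₂ f b) {𝒥 : X'.IdealSheafData}
    (hJ : ∀ (W : X'.affineOpens) (a : Γ(X', W.1)), a ∈ 𝒥.ideal W ↔
      BlowUp.KilledByPowerNear ((𝓘.comap f).comap p₁) (Coh.structureModule X') W a) :
    BlowUp.IsBlowUp (𝒥.subschemeι ≫ p₁) (𝓘.comap f) := by
  have hloc := isLocPrincipal_exceptional hb h.w
  obtain rfl := eq_supportedOn hloc hJ
  refine ⟨?_, fun Y g hg => ?_⟩
  · rw [Scheme.IdealSheafData.comap_comp]
    exact HTopSq.isEffCartierIdeal_comap_supportedOn hloc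
  · have hg' : BlowUp.IsEffCartierIdeal (𝓘.comap (g ≫ f)) := by
      rwa [Scheme.IdealSheafData.comap_comp]
    obtain ⟨l, hl, huniq⟩ := hb.2 Y (g ≫ f) hg'
    let L : Y ⟶ X' := h.lift g l hl.symm
    have hker : HTop.supportedOn ((𝓘.comap f).comap p₁) ≤ L.ker := HTopSq.supportedOn_le_ker L (by
      rw [← Scheme.IdealSheafData.comap_comp, ← Scheme.IdealSheafData.comap_comp]
      simpa [L] using hg')
    let σ := (HTop.supportedOn ((𝓘.comap f).comap p₁)).subschemeι
    let m := IsClosedImmersion.lift σ L (by rw [Scheme.IdealSheafData.ker_subschemeι]; exact hker)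
    have hm : m ≫ σ = L := IsClosedImmersion.lift_fac _ _ _
    refine ⟨m, by simp [σ, L, reassoc_of% hm], fun m' hm' => ?_⟩
    rw [← cancel_mono σ, hm]
    refine h.hom_ext (by simpa [L, σ] using hm') ?_
    rw [h.lift_snd]
    refine huniq _ ?_
    simp only [Category.assoc, ← h.w]
    rw [← Category.assoc σ, ← Category.assoc m', hm']

/-- Maps into `S'` out of the strict transform which agree over `S` agree. -/
theorem hom_ext_strict {𝓘 : S.IdealSheafData} (hb : BlowUp.IsBlowUp b 𝓘)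
    (h : IsPullback p₁ p₂ f b) {𝒥 : X'.IdealSheafData}
    (hJ : ∀ (W : X'.affineOpens) (a : Γ(X', W.1)), a ∈ 𝒥.ideal W ↔
      BlowUp.KilledByPowerNear ((𝓘.comap f).comap p₁) (Coh.structureModule X') W a)
    {g₁ g₂ : 𝒥.subscheme ⟶ S'} (h₁ : g₁ ≫ b = 𝒥.subschemeι ≫ p₁ ≫ f)
    (h₂ : g₂ ≫ b = 𝒥.subschemeι ≫ p₁ ≫ f) : g₁ = g₂ := by
  refine BlowUp.Basic.hom_ext hb ?_ (h₁.trans h₂.symm)
  rw [h₁, ← Category.assoc, Scheme.IdealSheafData.comap_comp]
  exact (isBlowUp_strict hb h hJ).1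

/-- If the blow-up of `X` in `𝓘.comap f` is `β : B ⟶ X` and lifts to `γ : B ⟶ S'` over `S`, the
strict transform is isomorphic to `B` compatibly. -/
theorem exists_iso_strict {𝓘 : S.IdealSheafData} (hb : BlowUp.IsBlowUp b 𝓘)
    (h : IsPullback p₁ p₂ f b) {𝒥 : X'.IdealSheafData}
    (hJ : ∀ (W : X'.affineOpens) (a : Γ(X', W.1)), a ∈ 𝒥.ideal W ↔
      BlowUp.KilledByPowerNear ((𝓘.comap f).comap p₁) (Coh.structureModule X') W a)
    {B : Scheme.{u}} {β : B ⟶ X} (hβ : BlowUp.IsBlowUp β (𝓘.comap f)) {γ : B ⟶ S'}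
    (hγ : γ ≫ b = β ≫ f) :
    ∃ e : 𝒥.subscheme ≅ B, e.hom ≫ β = 𝒥.subschemeι ≫ p₁ ∧ e.hom ≫ γ = 𝒥.subschemeι ≫ p₂ := by
  obtain ⟨e, he⟩ := BlowUp.Basic.exists_iso hβ (isBlowUp_strict hb h hJ)
  refine ⟨e, he, hom_ext_strict hb h hJ ?_ ?_⟩
  · rw [Category.assoc, hγ, reassoc_of% he]
  · rw [Category.assoc, ← h.w]

/-- Morphisms into a separated scheme over the base agreeing on a schematically dense piece are
equal. -/
theorem ext_of_schDominant {T' T Z Y : Scheme.{u}} (g : Z ⟶ Y) [IsSeparated g] (d : T' ⟶ T)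
    [IsSchemeTheoreticallyDominant d] {a a' : T ⟶ Z} (w : a ≫ g = a' ≫ g) (h : d ≫ a = d ≫ a') :
    a = a' := by
  obtain ⟨l, hl⟩ := QDom.Global.exists_factor (pullback.diagonal g) (pullback.lift a a' w) d
    (d ≫ a) (by apply pullback.hom_ext <;> simp [h])
  have h₁ := hl =≫ pullback.fst g g
  have h₂ := hl =≫ pullback.snd g g
  simp at h₁ h₂
  exact h₁.symm.trans h₂

/-- A section of `X` over an open `W'` of the blow-up makes the strict transform an isomorphism over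
`W'`, provided `X → S` is separated and a monomorphism over the part of `W'` off the centre. -/
theorem isIso_restrict_of_section [IsSeparated f] {𝓘 : S.IdealSheafData}
    (hb : BlowUp.IsBlowUp b 𝓘) (h : IsPullback p₁ p₂ f b) {𝒥 : X'.IdealSheafData}
    (hJ : ∀ (W : X'.affineOpens) (a : Γ(X', W.1)), a ∈ 𝒥.ideal W ↔
      BlowUp.KilledByPowerNear ((𝓘.comap f).comap p₁) (Coh.structureModule X') W a)
    (W' : S'.Opens) (s : W'.toScheme ⟶ X) (hs : s ≫ f = W'.ι ≫ b) (O : S.Opens) [Mono (f ∣_ O)]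
    (hO : ∀ y ∈ W', b y ∉ 𝓘.support → b y ∈ O) : IsIso ((𝒥.subschemeι ≫ p₂) ∣_ W') := by
  set σJ := 𝒥.subschemeι
  set P := (σJ ≫ p₂) ⁻¹ᵁ W'
  let L : W'.toScheme ⟶ X' := h.lift s W'.ι hs
  have hcart : BlowUp.IsEffCartierIdeal (((𝓘.comap f).comap p₁).comap L) := by
    rw [← Scheme.IdealSheafData.comap_comp, h.lift_fst, ← Scheme.IdealSheafData.comap_comp, hs,
      Scheme.IdealSheafData.comap_comp]
    exact EffCartier.comap_of_flat W'.ι hb.1
  have hker : 𝒥 ≤ L.ker := by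
    rw [eq_supportedOn (isLocPrincipal_exceptional hb h.w) hJ]
    exact HTopSq.supportedOn_le_ker L hcart
  let m := IsClosedImmersion.lift σJ L (by rw [Scheme.IdealSheafData.ker_subschemeι]; exact hker)
  have hm : m ≫ σJ = L := IsClosedImmersion.lift_fac _ _ _
  have hm₂ : m ≫ σJ ≫ p₂ = W'.ι := by rw [reassoc_of% hm, h.lift_snd]
  let σ : W'.toScheme ⟶ P.toScheme := IsOpenImmersion.lift P.ι m (by
    rw [Scheme.Opens.range_ι]
    rintro _ ⟨x, rfl⟩
    show (σJ ≫ p₂) (m x) ∈ W'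
    rw [← Scheme.Hom.comp_apply m, hm₂]
    exact x.2)
  have hσ : σ ≫ P.ι = m := IsOpenImmersion.lift_fac _ _ _
  refine ⟨σ, ?_, ?_⟩
  · rw [← cancel_mono P.ι, Category.assoc, hσ, Category.id_comp, ← cancel_mono σJ]
    refine h.hom_ext ?_ ?_
    · simp only [Category.assoc, reassoc_of% hm, h.lift_fst, L]
      have hE : BlowUp.IsEffCartierIdeal ((𝓘.comap f).comap (P.ι ≫ σJ ≫ p₁)) := by
        rw [Scheme.IdealSheafData.comap_comp]
        exact EffCartier.comap_of_flat P.ι (isBlowUp_strict hb h hJ).1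
      let P₀ := ModPair.interior ((𝓘.comap f).comap (P.ι ≫ σJ ≫ p₁))
      have : IsSchemeTheoreticallyDominant P₀.ι :=
        ModPairLib.Dense.isSchemeTheoreticallyDominant_interior hE
      have hw : ((σJ ≫ p₂) ∣_ W') ≫ W'.ι ≫ b = P.ι ≫ σJ ≫ p₁ ≫ f := by
        rw [morphismRestrict_ι_assoc, Category.assoc, ← h.w]
      refine ext_of_schDominant f P₀.ι ?_ ?_
      · simpa [hs] using hw
      · have key : ∀ x : P₀.toScheme, f ((P.ι ≫ σJ ≫ p₁) (P₀.ι x)) ∈ O := by
          intro x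
          have hx : f ((P.ι ≫ σJ ≫ p₁) (P₀.ι x)) ∉ 𝓘.support := fun hx => x.2 (by
            rw [Scheme.IdealSheafData.support_comap, Scheme.IdealSheafData.support_comap]
            exact hx)
          have e : f ((P.ι ≫ σJ ≫ p₁) (P₀.ι x)) = b (W'.ι (((σJ ≫ p₂) ∣_ W') (P₀.ι x))) := by
            have e := congrArg (fun φ : P.toScheme ⟶ S => φ (P₀.ι x)) hw.symm
            simp only [Scheme.Hom.comp_apply] at e ⊢
            exact e
          rw [e] at hx ⊢
          exact hO _ (((σJ ≫ p₂) ∣_ W') (P₀.ι x)).2 hx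
        let l := IsOpenImmersion.lift (f ⁻¹ᵁ O).ι (P₀.ι ≫ P.ι ≫ σJ ≫ p₁) (by
          rw [Scheme.Opens.range_ι]; rintro _ ⟨x, rfl⟩; exact key x)
        let l' := IsOpenImmersion.lift (f ⁻¹ᵁ O).ι (P₀.ι ≫ ((σJ ≫ p₂) ∣_ W') ≫ s) (by
          rw [Scheme.Opens.range_ι]
          rintro _ ⟨x, rfl⟩
          show f _ ∈ O
          have := key x
          rw [← Scheme.Hom.comp_apply, ← Scheme.Hom.comp_apply] at this
          rw [← Scheme.Hom.comp_apply]
          simp only [Category.assoc, hs, hw] at this ⊢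
          exact this)
        have hl : l ≫ (f ⁻¹ᵁ O).ι = P₀.ι ≫ P.ι ≫ σJ ≫ p₁ := IsOpenImmersion.lift_fac _ _ _
        have hl' : l' ≫ (f ⁻¹ᵁ O).ι = P₀.ι ≫ ((σJ ≫ p₂) ∣_ W') ≫ s :=
          IsOpenImmersion.lift_fac _ _ _
        have : l' = l := by
          rw [← cancel_mono (f ∣_ O), ← cancel_mono O.ι, Category.assoc, Category.assoc,
            morphismRestrict_ι, reassoc_of% hl', reassoc_of% hl, hs, hw]
        rw [← hl, ← hl', this]
    · simp only [Category.assoc, reassoc_of% hm, h.lift_snd, L]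
      exact morphismRestrict_ι _ _
  · rw [← cancel_mono W'.ι, Category.assoc, morphismRestrict_ι, reassoc_of% hσ, hm₂,
      Category.id_comp]

end Groth.Agent.RG.StrictSub
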