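import Mathlib.RingTheory.Flat.Basic
import Mathlib.RingTheory.TensorProduct.Maps
import Mathlib.RingTheory.Finiteness.Ideal
import Mathlib.RingTheory.Spectrum.Prime.RingHom
import Mathlib.LinearAlgebra.TensorProduct.Pi
import Mathlib.RingTheory.TensorProduct.Quotient

/-!
# Vanishing ideals (content ideals) of elements under base change, and their descent

`IsContent R S x A c`: `c` is finitely generated and cuts out the `A`-algebras `B` in which
`1 ⊗ x ∈ B ⊗[R] S` vanishes.
-/

set_option autoImplicit false

universe u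

open TensorProduct

namespace Groth.Agent.RG.Content

variable (R : Type u) [CommRing R] (S : Type u) [AddCommGroup S] [Module R S] (x : S)

/-- `x` becomes zero in the base change to `B`. -/
def Vanishes (B : Type u) [CommRing B] [Algebra R B] : Prop := (1 : B) ⊗ₜ[R] x = 0

/-- `c` is the universal content ideal of `x` on the `R`-algebra `A`. -/
def IsContent (A : Type u) [CommRing A] [Algebra R A] (c : Ideal A) : Prop :=
  c.FG ∧ ∀ (B : Type u) [CommRing B] [Algebra R B] (φ : A →ₐ[R] B),
    Vanishes R S x B ↔ c.map φ = ⊥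

variable {R S x}

theorem Vanishes.map {B B' : Type u} [CommRing B] [Algebra R B] [CommRing B'] [Algebra R B']
    (g : B →ₐ[R] B') (h : Vanishes R S x B) : Vanishes R S x B' := by
  have := congrArg (g.toLinearMap.rTensor S) h
  simpa [Vanishes] using this

/-- A family of flat algebras covering the spectrum detects zero. -/
theorem eq_zero_of_forall {ι : Type*} (A : ι → Type u) [∀ k, CommRing (A k)] [∀ k, Algebra R (A k)]
    [∀ k, Module.Flat R (A k)]
    (hcov : ∀ p : PrimeSpectrum R, ∃ k, ∃ P : PrimeSpectrum (A k), P.comap (algebraMap R (A k)) = p)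
    {M : Type u} [AddCommGroup M] [Module R M] (m : M) (h : ∀ k, (1 : A k) ⊗ₜ[R] m = 0) : m = 0 := by
  let I : Ideal R := LinearMap.ker (LinearMap.toSpanSingleton R M m)
  suffices I = ⊤ by
    have h1 : (1 : R) ∈ I := by rw [this]; exact Submodule.mem_top
    simpa [I] using h1
  by_contra hI
  obtain ⟨p, hp, hIp⟩ := Ideal.exists_le_maximal I hI
  obtain ⟨k, P, hP⟩ := hcov ⟨p, hp.isPrime⟩
  let j : (R ⧸ I) →ₗ[R] M :=
    Submodule.liftQ I (LinearMap.toSpanSingleton R M m) le_rfl
  have hj : Function.Injective j := by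
    rw [← LinearMap.ker_eq_bot]; exact Submodule.ker_liftQ_eq_bot _ _ _ le_rfl
  have h1 : (1 : A k) ⊗ₜ[R] (Ideal.Quotient.mk I (1 : R)) = 0 := by
    refine Module.Flat.lTensor_preserves_injective_linearMap j hj ?_
    rw [map_zero, LinearMap.lTensor_tmul, ← h k]
    congr 1
    show LinearMap.toSpanSingleton R M m 1 = m
    simp
  have h2 : (1 : A k) ∈ I.map (algebraMap R (A k)) := by
    rw [← Ideal.Quotient.eq_zero_iff_mem]
    refine (Algebra.TensorProduct.quotIdealMapEquivTensorQuot (A k) I).injective ?_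
    rw [map_zero]
    simpa [Algebra.TensorProduct.one_def] using h1
  refine P.2.ne_top ((Ideal.eq_top_iff_one _).2 ((Ideal.map_le_iff_le_comap.2 ?_) h2))
  exact hIp.trans (le_of_eq (congrArg PrimeSpectrum.asIdeal hP).symm)

/-- Content ideals descend along finite flat covering families. -/
theorem exists_descend {ι : Type*} [Finite ι] (A : ι → Type u) [∀ k, CommRing (A k)]
    [∀ k, Algebra R (A k)] [∀ k, Module.Flat R (A k)]
    (hcov : ∀ p : PrimeSpectrum R, ∃ k, ∃ P : PrimeSpectrum (A k), P.comap (algebraMap R (A k)) = p)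
    (hA : ∀ k, ∃ c, IsContent R S x (A k) c) : ∃ c, IsContent R S x R c := by
  classical
  cases nonempty_fintype ι
  choose c hfg hc using hA
  let c₀ : Ideal R := ⨅ k, (c k).comap (algebraMap R (A k))
  have hq : ∀ k, Vanishes R S x (A k ⧸ c k) := fun k =>
    (hc k _ (Ideal.Quotient.mkₐ R (c k))).2 (by
      rw [eq_bot_iff, Ideal.map_le_iff_le_comap]
      intro a ha
      simpa [Ideal.Quotient.eq_zero_iff_mem] using ha)
  have hmap : ∀ k, c₀.map (algebraMap R (A k)) = c k := by
    intro k
    refine le_antisymm (Ideal.map_le_iff_le_comap.2 (iInf_le _ k)) fun a ha => ?_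
    have hz : ∀ l, a ⊗ₜ[R] (1 : A l ⧸ c l) = 0 := fun l => by
      have h1 : Vanishes R S x (A k ⊗[R] (A l ⧸ c l)) :=
        (hq l).map Algebra.TensorProduct.includeRight
      have h2 := (hc k _ (Algebra.TensorProduct.includeLeft : A k →ₐ[R] A k ⊗[R] (A l ⧸ c l))).1 h1
      have h3 := Ideal.mem_map_of_mem
        (Algebra.TensorProduct.includeLeft : A k →ₐ[R] A k ⊗[R] (A l ⧸ c l)) ha
      rw [h2, Ideal.mem_bot] at h3
      simpa using h3
    let Φ : (R ⧸ c₀) →ₗ[R] ∀ l, A l ⧸ c l :=
      Submodule.liftQ c₀ (LinearMap.pi fun l => Algebra.linearMap R (A l ⧸ c l)) (by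
        intro r hr
        rw [LinearMap.mem_ker]
        funext l
        simp only [c₀, Submodule.mem_iInf, Ideal.mem_comap] at hr
        show algebraMap R (A l ⧸ c l) r = 0
        rw [IsScalarTower.algebraMap_apply R (A l) (A l ⧸ c l)]
        exact Ideal.Quotient.eq_zero_iff_mem.2 (hr l))
    have hΦ : Function.Injective Φ := by
      rw [← LinearMap.ker_eq_bot]
      refine Submodule.ker_liftQ_eq_bot _ _ _ fun r hr => ?_
      simp only [c₀, Submodule.mem_iInf, Ideal.mem_comap]
      intro l
      have := congrFun (LinearMap.mem_ker.1 hr) l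
      rw [LinearMap.pi_apply, Algebra.linearMap_apply, IsScalarTower.algebraMap_apply R (A l) (A l ⧸ c l)] at this
      exact Ideal.Quotient.eq_zero_iff_mem.1 this
    have h4 : a ⊗ₜ[R] (Ideal.Quotient.mk c₀ (1 : R)) = 0 := by
      refine Module.Flat.lTensor_preserves_injective_linearMap Φ hΦ ?_
      rw [map_zero]
      refine (TensorProduct.piRight R R (A k) (fun l => A l ⧸ c l)).injective ?_
      rw [map_zero, LinearMap.lTensor_tmul, TensorProduct.piRight_apply, TensorProduct.piRightHom_tmul]
      funext l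
      refine Eq.trans ?_ (hz l)
      congr 1
      show algebraMap R (A l ⧸ c l) 1 = 1
      exact map_one _
    rw [← Ideal.Quotient.eq_zero_iff_mem]
    refine (Algebra.TensorProduct.quotIdealMapEquivTensorQuot (A k) c₀).injective ?_
    rw [map_zero]
    simpa using h4
  -- finite generation
  have hfin : ∀ k, ∃ s : Finset R, ↑s ⊆ (c₀ : Set R) ∧
      (Ideal.span (s : Set R)).map (algebraMap R (A k)) = c k := fun k => by
    have hk : (Submodule.span (A k) (algebraMap R (A k) '' (c₀ : Set R))).FG := by
      show (Ideal.span _).FG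
      rw [← Ideal.map, hmap k]; exact hfg k
    obtain ⟨t, ht, hts⟩ := (Submodule.fg_span_iff_fg_span_finset_subset _).1 hk
    obtain ⟨s, hs, rfl⟩ := Finset.subset_set_image_iff.1 ht
    refine ⟨s, hs, ?_⟩
    rw [Ideal.map_span, ← Finset.coe_image, ← hmap k]
    exact hts.symm
  choose s hs hsk using hfin
  have hc₀ : c₀ = Ideal.span ((Finset.univ.biUnion s : Finset R) : Set R) := by
    refine le_antisymm (fun a ha => ?_) (Ideal.span_le.2 ?_)
    · rw [← Ideal.Quotient.eq_zero_iff_mem]
      refine eq_zero_of_forall A hcov _ fun k => ?_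
      have h5 : algebraMap R (A k) a ∈ (Ideal.span ((Finset.univ.biUnion s : Finset R) : Set R)).map
          (algebraMap R (A k)) := by
        refine Ideal.map_mono (Ideal.span_mono ?_) (?_ : _ ∈ (Ideal.span (s k : Set R)).map _)
        · exact_mod_cast Finset.subset_biUnion_of_mem s (Finset.mem_univ k)
        · rw [hsk k, ← hmap k]; exact Ideal.mem_map_of_mem _ ha
      rw [← Ideal.Quotient.eq_zero_iff_mem] at h5
      have := congrArg (Algebra.TensorProduct.quotIdealMapEquivTensorQuot (A k)
        (Ideal.span ((Finset.univ.biUnion s : Finset R) : Set R))) h5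
      rw [map_zero] at this
      rw [← this, Algebra.TensorProduct.quotIdealMapEquivTensorQuot_mk,
        Algebra.algebraMap_eq_smul_one, TensorProduct.smul_tmul]
      congr 1
      rw [Algebra.smul_def, mul_one]
      rfl
    · intro a ha
      obtain ⟨k, -, hk⟩ := Finset.mem_biUnion.1 (Finset.mem_coe.1 ha)
      exact hs k hk
  refine ⟨c₀, hc₀ ▸ ⟨_, rfl⟩, fun B _ _ φ => ⟨fun hB => ?_, fun hB => ?_⟩⟩
  · rw [eq_bot_iff, Ideal.map_le_iff_le_comap]
    intro a ha
    rw [Ideal.mem_comap, Ideal.mem_bot, show φ a = algebraMap R B a from φ.commutes a]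
    refine eq_zero_of_forall A hcov _ fun k => ?_
    have h1 : Vanishes R S x (A k ⊗[R] B) := hB.map Algebra.TensorProduct.includeRight
    have h2 := (hc k _ (Algebra.TensorProduct.includeLeft : A k →ₐ[R] A k ⊗[R] B)).1 h1
    have h3 := Ideal.mem_map_of_mem (Algebra.TensorProduct.includeLeft : A k →ₐ[R] A k ⊗[R] B)
      (hmap k ▸ Ideal.mem_map_of_mem (algebraMap R (A k)) ha : algebraMap R (A k) a ∈ c k)
    rw [h2, Ideal.mem_bot] at h3
    rw [Algebra.algebraMap_eq_smul_one a (A := B), TensorProduct.tmul_smul, ← h3]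
    simp [Algebra.algebraMap_eq_smul_one, TensorProduct.smul_tmul']
  · refine eq_zero_of_forall A hcov _ fun k => ?_
    have h1 : Vanishes R S x (A k ⊗[R] B) := by
      refine (hc k _ (Algebra.TensorProduct.includeLeft : A k →ₐ[R] A k ⊗[R] B)).2 ?_
      rw [eq_bot_iff, Ideal.map_le_iff_le_comap, ← hmap k, Ideal.map_le_iff_le_comap]
      intro a ha
      have h2 := Ideal.mem_map_of_mem φ ha
      rw [hB, Ideal.mem_bot, show φ a = algebraMap R B a from φ.commutes a] at h2
      rw [Ideal.mem_comap, Ideal.mem_comap, Ideal.mem_bot, AlgHom.commutes,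
        ← Algebra.TensorProduct.includeRight.commutes a]
      show (1 : A k) ⊗ₜ[R] algebraMap R B a = 0
      rw [show algebraMap R B a = 0 from h2, TensorProduct.tmul_zero]
    have := congrArg (TensorProduct.assoc R (A k) B S) h1
    simpa [Vanishes, Algebra.TensorProduct.one_def] using this

end Groth.Agent.RG.Content
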