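import Groth.Agent.RG.FlatPiece
import Groth.Agent.RG.StrictLP
import Groth.Agent.LimTop.PullSec
import Groth.Agent.QDom.Global
import Groth.Agent.BlowUp.Glue
import Groth.Agent.HTopSq.Basic

/-!
# Flattening by an admissible blow-up on affine charts
-/

set_option autoImplicit false
set_option maxHeartbeats 1600000
set_option linter.style.haveILetI false

universe u

open AlgebraicGeometry CategoryTheory Limits TopologicalSpace
open Groth.Agent.IdealSh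

attribute [local instance] Algebra.TensorProduct.rightAlgebra

namespace Groth.Agent.RG.FlatMain

/-- Radically equal elements have the same power torsion. -/
theorem powTorsion_congr {A : Type u} [CommRing A] {M : Type u} [AddCommGroup M] [Module A M] {a c : A}
    (h₁ : ∃ n : ℕ, a ∣ c ^ n) (h₂ : ∃ n : ℕ, c ∣ a ^ n) :
    FlatCA.powTorsion A a M = FlatCA.powTorsion A c M := by
  have key : ∀ {a c : A}, (∃ n : ℕ, a ∣ c ^ n) →
      FlatCA.powTorsion A a M ≤ FlatCA.powTorsion A c M := by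
    intro a c ⟨n, d, hd⟩ m hm
    obtain ⟨k, hk⟩ := (FittLib.Strict.mem_powTorsion _ _).1 hm
    refine (FittLib.Strict.mem_powTorsion _ _).2 ⟨n * k, ?_⟩
    rw [pow_mul, hd, mul_pow, mul_comm, mul_smul, hk, smul_zero]
  exact le_antisymm (key h₁) (key h₂)

/-- An element invertible wherever another one is divides a power of the other. -/
theorem exists_dvd_pow {T : Scheme.{u}} (W : T.affineOpens) (a c : Γ(T, W.1))
    (h : T.basicOpen c ≤ T.basicOpen a) : ∃ n : ℕ, a ∣ c ^ n := by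
  suffices hc : c ∈ (Ideal.span {a}).radical by
    obtain ⟨n, hn⟩ := hc
    exact ⟨n, Ideal.mem_span_singleton.1 hn⟩
  rw [Ideal.radical_eq_sInf, Submodule.mem_sInf]
  rintro q ⟨hq, hqp⟩
  by_contra hcq
  let p : PrimeSpectrum Γ(T, W.1) := ⟨q, hqp⟩
  have h1 : p ∈ W.2.fromSpec ⁻¹ᵁ T.basicOpen c := by
    rw [W.2.fromSpec_preimage_basicOpen]; exact hcq
  have h2 : p ∈ W.2.fromSpec ⁻¹ᵁ T.basicOpen a := h h1
  rw [W.2.fromSpec_preimage_basicOpen] at h2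
  exact h2 (hq (Ideal.mem_span_singleton_self a))

/-- Flattening by an admissible blow-up, on affine charts. -/
theorem exists_flattening {X S : Scheme.{u}} [CompactSpace S] [QuasiSeparatedSpace S] [CompactSpace X]
    (f : X ⟶ S) [LocallyOfFinitePresentation f] (U : S.Opens) (hU : IsCompact (U : Set S))
    (F : X.Modules) [F.IsQuasicoherent] [F.IsFiniteType]
    (hfpU : Props.QApprox.FPOn F (f ⁻¹ᵁ U))
    (hflU : ∀ x : X, f.base x ∈ U → FlatMod.IsFlatOverAt f F x) :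
    ∃ (𝓘 : S.IdealSheafData) (S' : Scheme.{u}) (b : S' ⟶ S), BlowUp.IsBlowUp b 𝓘 ∧ BlowUp.IsAdmissibleFor U 𝓘 ∧
      ∀ (X' : Scheme.{u}) (p₁ : X' ⟶ X) (p₂ : X' ⟶ S'), IsPullback p₁ p₂ f b → ∀ x : X',
        ∃ (W : S'.affineOpens) (O : X'.affineOpens) (e : O.1 ≤ p₂ ⁻¹ᵁ W.1) (c : Γ(X', O.1)),
          x ∈ O.1 ∧ ((𝓘.comap f).comap p₁).ideal O = Ideal.span {c} ∧
          (letI : Algebra Γ(S', W.1) Γ(X', O.1) := (p₂.appLE W.1 O.1 e).hom.toAlgebra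
           letI : Module Γ(S', W.1) Γ((Scheme.Modules.pullback p₁).obj F, O.1) :=
             Module.compHom _ (p₂.appLE W.1 O.1 e).hom
           haveI : IsScalarTower Γ(S', W.1) Γ(X', O.1) Γ((Scheme.Modules.pullback p₁).obj F, O.1) :=
             IsScalarTower.of_algebraMap_smul fun _ _ => rfl
           Module.Flat Γ(S', W.1) (Γ((Scheme.Modules.pullback p₁).obj F, O.1) ⧸
               FlatCA.powTorsion Γ(X', O.1) c Γ((Scheme.Modules.pullback p₁).obj F, O.1)) ∧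
             Module.FinitePresentation Γ(X', O.1) (Γ((Scheme.Modules.pullback p₁).obj F, O.1) ⧸
               FlatCA.powTorsion Γ(X', O.1) c Γ((Scheme.Modules.pullback p₁).obj F, O.1))) := by
  classical
  obtain ⟨H, hH, hHs⟩ := QDom.Global.exists_support_eq_compl (V := U) hU
  obtain ⟨S₁, b₁, hb₁⟩ := BlowUp.Glue.exists_isBlowUp S H
  haveI hb₁p : IsProper b₁ := BlowUpProper.Basic.isProper hb₁ hH
  haveI : CompactSpace S₁ := QuasiCompact.compactSpace_of_compactSpace b₁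
  haveI : QuasiSeparatedSpace S₁ := quasiSeparatedSpace_of_quasiSeparated b₁
  let D := H.comap b₁
  have hD : BlowUp.IsEffCartierIdeal D := hb₁.1
  have hDft : BlowUp.IsFiniteTypeIdeal D := FinType.comap b₁ hH
  have hDU : (D.support : Set S₁) = (((b₁ ⁻¹ᵁ U) : S₁.Opens) : Set S₁)ᶜ := by
    rw [Scheme.IdealSheafData.support_comap]
    show b₁ ⁻¹' (H.support : Set S) = _
    rw [hHs]
    rfl
  have hU₁ : IsCompact ((b₁ ⁻¹ᵁ U : S₁.Opens) : Set S₁) := b₁.isCompact_preimage hU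
  -- the pieces
  have hch : ∀ x : X, ∃ (R : S.affineOpens) (V : X.affineOpens), x ∈ V.1 ∧ V.1 ≤ f ⁻¹ᵁ R.1 :=
    fun x => Comap.exists_affine_pair f x
  choose R V hxV eV using hch
  obtain ⟨σ, hσ⟩ := isCompact_univ.elim_finite_subcover (fun x : X => ((V x).1 : Set X))
    (fun x => (V x).1.isOpen) (fun x _ => Set.mem_iUnion.2 ⟨x, hxV x⟩)
  haveI : ∀ x, Module.Finite Γ(X, (V x).1) Γ(F, (V x).1) := fun x =>
    QCoh.finite_sections_of_isFiniteType F (V x).2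
  choose K hK using fun x : X =>
    FlatPiece.exists_ideal f b₁ F (R x) (V x) (eV x) U hfpU hflU D hD hDft hDU hU₁
  let 𝓚 : S₁.IdealSheafData := ∏ y ∈ σ, (K y).val
  have hKadm : BlowUp.IsAdmissibleFor (b₁ ⁻¹ᵁ U) 𝓚 := FinType.admissible_prod _ _ σ fun y => (K y).prop
  obtain ⟨S', b₂, hb₂⟩ := BlowUp.Glue.exists_isBlowUp S₁ (D * 𝓚)
  obtain ⟨𝓘, h𝓘, h𝓘s, hb⟩ := BlowComp.Main.exists_comp hb₁ hH (FinType.mul hDft hKadm.1) hb₂
  have h𝓘U : (𝓘.support : Set S) = (U : Set S)ᶜ := by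
    rw [h𝓘s, hHs, Set.union_eq_left]
    rintro _ ⟨y, hy, rfl⟩
    intro hyU
    rw [Scheme.IdealSheafData.support_mul, Closeds.coe_sup, hDU] at hy
    rcases hy with hy | hy
    · exact hy hyU
    · exact Set.disjoint_left.1 hKadm.2 hy hyU
  refine ⟨𝓘, S', b₂ ≫ b₁, hb, ⟨h𝓘, by rw [h𝓘U]; exact disjoint_compl_left⟩, ?_⟩
  intro X' p₁ p₂ hpb x
  obtain ⟨i, hiσ, hxi⟩ := Set.mem_iUnion₂.1 (hσ (Set.mem_univ (p₁ x)))
  have hg : BlowUp.IsEffCartierIdeal ((D * (K i).val).comap b₂) := by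
    have h := hb₂.1
    have hmul : 𝓚 = (K i).val * ∏ y ∈ σ.erase i, (K y).val :=
      (Finset.mul_prod_erase σ (fun y => (K y).val) hiσ).symm
    rw [hmul, ← mul_assoc, Comap.comap_mul] at h
    exact EffCartier.factor_left h
  have hwx : b₁ (b₂ (p₂ x)) = f (p₁ x) := by
    show (p₂ ≫ b₂ ≫ b₁) x = (p₁ ≫ f) x
    rw [hpb.w]
  obtain ⟨W₀, eW₀, t, ht, W₁, eW₁, hxW₁, hgood⟩ := hK i S' b₂ hg (p₂ x) (by rw [hwx]; exact eV i hxi)
  obtain ⟨W, hxW, hWW₁, c₀, -, hc₀⟩ := EffCartier.exists_equation hb.1 (p₂ x) W₁.1 hxW₁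
  have eW : W.1 ≤ b₂ ⁻¹ᵁ W₀.1 := hWW₁.trans eW₁
  have hDc : BlowUp.IsEffCartierIdeal (D.comap b₂) := by
    have h := hb₂.1
    rw [Comap.comap_mul] at h
    exact EffCartier.factor_left h
  let R' := R i
  let V' := V i
  letI : Algebra Γ(S, R'.1) Γ(X, V'.1) := (f.appLE R'.1 V'.1 (eV i)).hom.toAlgebra
  letI : Algebra Γ(S, R'.1) Γ(S₁, W₀.1) := (b₁.appLE R'.1 W₀.1 eW₀).hom.toAlgebra
  letI : Module Γ(S, R'.1) Γ(F, V'.1) := Module.compHom _ (f.appLE R'.1 V'.1 (eV i)).hom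
  haveI : IsScalarTower Γ(S, R'.1) Γ(X, V'.1) Γ(F, V'.1) := IsScalarTower.of_algebraMap_smul fun _ _ => rfl
  have hgood' : Stages.GoodAt (B₀ := TensorProduct Γ(S, R'.1) Γ(S₁, W₀.1) Γ(X, V'.1)) W₀ t
      (TensorProduct Γ(X, V'.1) (TensorProduct Γ(S, R'.1) Γ(S₁, W₀.1) Γ(X, V'.1)) Γ(F, V'.1)) b₂ W eW :=
    Stages.goodAt_of_hom W₀ t _ D ht b₂ (𝟙 S') b₂ (Category.id_comp b₂) hDc W₁ eW₁ W
      (by rw [Scheme.Hom.id_preimage]; exact hWW₁) eW hgood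
  have eR : W.1 ≤ (b₂ ≫ b₁) ⁻¹ᵁ R'.1 := by
    rw [Scheme.Hom.comp_preimage]; exact eW.trans (b₂.preimage_mono eW₀)
  obtain ⟨O, hO⟩ : ∃ O, O = p₁ ⁻¹ᵁ V'.1 ⊓ p₂ ⁻¹ᵁ W.1 := ⟨_, rfl⟩
  have hOV : O ≤ p₁ ⁻¹ᵁ V'.1 := hO.le.trans inf_le_left
  have hOW : O ≤ p₂ ⁻¹ᵁ W.1 := hO.le.trans inf_le_right
  have hOaff : IsAffineOpen O := by
    have : IsAffine R'.1.toScheme := R'.2
    have : IsAffine W.1.toScheme := W.2
    have : IsAffine V'.1.toScheme := V'.2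
    exact .of_isIso (Scheme.Hom.isPullback_resLE hpb eR (eV i) hO).isoPullback.hom
  have hpush : IsPushout (f.appLE R'.1 V'.1 (eV i)) ((b₂ ≫ b₁).appLE R'.1 W.1 eR) (p₁.appLE V'.1 O hOV)
      (p₂.appLE W.1 O hOW) :=
    (isIso_pushoutSection_iff hpb eR (eV i) hO).mp
      (isIso_pushoutSection_of_isAffineOpen hpb eR (eV i) hO R'.2 W.2 V'.2)
  letI : Algebra Γ(S₁, W₀.1) Γ(S', W.1) := Stages.sectAlgebra W₀ b₂ W.1 eW
  letI : Algebra Γ(S, R'.1) Γ(S', W.1) := ((b₂ ≫ b₁).appLE R'.1 W.1 eR).hom.toAlgebra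
  haveI : IsScalarTower Γ(S, R'.1) Γ(S₁, W₀.1) Γ(S', W.1) := IsScalarTower.of_algebraMap_eq fun a => by
    show (b₂ ≫ b₁).appLE R'.1 W.1 eR a = b₂.appLE W₀.1 W.1 eW (b₁.appLE R'.1 W₀.1 eW₀ a)
    rw [← CommRingCat.comp_apply, Scheme.Hom.appLE_comp_appLE]
  letI : Algebra Γ(X, V'.1) Γ(X', O) := (p₁.appLE V'.1 O hOV).hom.toAlgebra
  letI : Algebra Γ(S', W.1) Γ(X', O) := (p₂.appLE W.1 O hOW).hom.toAlgebra
  letI : Algebra Γ(S, R'.1) Γ(X', O) :=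
    ((p₂.appLE W.1 O hOW).hom.comp ((b₂ ≫ b₁).appLE R'.1 W.1 eR).hom).toAlgebra
  haveI : IsScalarTower Γ(S, R'.1) Γ(S', W.1) Γ(X', O) := .of_algebraMap_eq' rfl
  haveI : IsScalarTower Γ(S, R'.1) Γ(X, V'.1) Γ(X', O) := .of_algebraMap_eq' congr($(hpush.w).hom).symm
  haveI : Algebra.IsPushout Γ(S, R'.1) Γ(S', W.1) Γ(X, V'.1) Γ(X', O) :=
    CommRingCat.isPushout_iff_isPushout.mp hpush.flip
  let N := (Scheme.Modules.pullback p₁).obj F
  letI := LimTop.secModule p₁ F hOV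
  haveI : IsScalarTower Γ(X, V'.1) Γ(X', O) Γ(N, O) := IsScalarTower.of_algebraMap_smul fun _ _ => rfl
  letI : Module Γ(S', W.1) Γ(N, O) := Module.compHom _ (p₂.appLE W.1 O hOW).hom
  haveI : IsScalarTower Γ(S', W.1) Γ(X', O) Γ(N, O) := IsScalarTower.of_algebraMap_smul fun _ _ => rfl
  obtain ⟨hflat, hfp⟩ := FlatAlg.of_good (R := Γ(S, R'.1)) (B := Γ(X, V'.1)) (A₀ := Γ(S₁, W₀.1))
    (Mv := Γ(F, V'.1)) t (G := Γ(S', W.1)) (C := Γ(X', O)) Γ(N, O) (LimTop.unitSecLin p₁ F hOV)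
    (LimTop.isBaseChange_unitSec p₁ F hOV V'.2 hOaff) hgood'
  -- the exceptional equation
  let t' : Γ(S', W.1) := b₂.appLE W₀.1 W.1 eW t
  let C₀ := p₂.appLE W.1 O hOW c₀
  have hxO : x ∈ O := by rw [hO]; exact ⟨hxi, hxW⟩
  have hc : ((𝓘.comap f).comap p₁).ideal ⟨O, hOaff⟩ = Ideal.span {C₀} := by
    rw [← Scheme.IdealSheafData.comap_comp, hpb.w, Scheme.IdealSheafData.comap_comp]
    exact Comap.ideal_comap_span_singleton _ p₂ W ⟨O, hOaff⟩ hOW hc₀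
  have hsupp : ((D.comap b₂).support : Set S') = ((𝓘.comap (b₂ ≫ b₁)).support : Set S') := by
    have hmem : ∀ {T₁ T₂ : Scheme.{u}} (g : T₁ ⟶ T₂) (I : T₂.IdealSheafData) (y : T₁),
        y ∈ ((I.comap g).support : Set T₁) ↔ g y ∈ (I.support : Set T₂) := fun g I y => by
      rw [Scheme.IdealSheafData.support_comap]; rfl
    ext y
    rw [hmem b₂ D, hmem (b₂ ≫ b₁) 𝓘, hDU, h𝓘U]
    rfl
  have hbo : S'.basicOpen c₀ = S'.basicOpen t' := by
    refine Opens.ext ?_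
    rw [Regular.basicOpen_eq_compl_support hc₀,
      Regular.basicOpen_eq_compl_support (Comap.ideal_comap_span_singleton D b₂ W₀ W eW ht), hsupp]
  have h1 : ∃ n : ℕ, p₂.appLE W.1 O hOW t' ∣ C₀ ^ n := by
    obtain ⟨n, hn⟩ := exists_dvd_pow W t' c₀ hbo.le
    exact ⟨n, by rw [← map_pow]; exact map_dvd _ hn⟩
  have h2 : ∃ n : ℕ, C₀ ∣ p₂.appLE W.1 O hOW t' ^ n := by
    obtain ⟨n, hn⟩ := exists_dvd_pow W c₀ t' hbo.ge
    exact ⟨n, by rw [← map_pow]; exact map_dvd _ hn⟩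
  refine ⟨W, ⟨O, hOaff⟩, hOW, C₀, hxO, hc, ?_⟩
  have heq : FlatCA.powTorsion Γ(X', O) (algebraMap Γ(S', W.1) Γ(X', O) (algebraMap Γ(S₁, W₀.1) Γ(S', W.1) t)) Γ(N, O) =
      FlatCA.powTorsion Γ(X', O) C₀ Γ(N, O) := powTorsion_congr h1 h2
  rw [heq] at hflat hfp
  exact ⟨hflat, hfp⟩

end Groth.Agent.RG.FlatMain
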