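import Groth.Agent.RG.ModPiece
import Groth.Agent.RG.FlatMain

/-!
# Flattening of a morphism of finite type by an admissible blow-up, on affine charts
-/

set_option autoImplicit false
set_option maxHeartbeats 1600000
set_option linter.style.haveILetI false

universe u

open AlgebraicGeometry CategoryTheory Limits TopologicalSpace TensorProduct
open Groth.Agent.IdealSh

attribute [local instance] Algebra.TensorProduct.rightAlgebra

namespace Groth.Agent.RG.FTMain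

/-- Finite presentation of `appLE` from the restriction to the open. -/
theorem finitePresentation_appLE_of_ι {X Y : Scheme.{u}} (b : X ⟶ Y) {U : Y.Opens} (hU : IsAffineOpen U)
    {W : X.Opens} (hW : IsAffineOpen W) [LocallyOfFinitePresentation (W.ι ≫ b)] (e : W ≤ b ⁻¹ᵁ U) :
    (b.appLE U W e).hom.FinitePresentation := by
  have : IsAffine (W : Scheme.{u}) := hW
  have h1 : (⊤ : (W : Scheme.{u}).Opens) ≤ (W.ι ≫ b) ⁻¹ᵁ U := fun x _ => e x.2
  have h2 : b.appLE U W e ≫ W.ι.appLE W ⊤ W.ι_preimage_self.ge = (W.ι ≫ b).appLE U ⊤ h1 :=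
    Scheme.Hom.appLE_comp_appLE _ _ _ _ _ _ _
  have h3 : b.appLE U W e =
      (W.ι ≫ b).appLE U ⊤ h1 ≫ inv (W.ι.appLE W ⊤ W.ι_preimage_self.ge) := by
    rw [← h2, Category.assoc, IsIso.hom_inv_id, Category.comp_id]
  rw [h3, CommRingCat.hom_comp]
  exact RingHom.FinitePresentation.comp
    (RingHom.FinitePresentation.of_bijective (ConcreteCategory.bijective_of_isIso _))
    (HasRingHomProperty.appLE (P := @LocallyOfFinitePresentation) (W.ι ≫ b) inferInstance ⟨U, hU⟩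
      ⟨⊤, isAffineOpen_top _⟩ h1)

variable {X S : Scheme.{u}} (f : X ⟶ S) (R : S.affineOpens) (V : X.affineOpens) (e : V.1 ≤ f ⁻¹ᵁ R.1)
  (U : S.Opens) [Flat (f ∣_ U)] [LocallyOfFinitePresentation (f ∣_ U)]

set_option backward.isDefEq.respectTransparency false in
/-- The hypotheses of flattening on a piece. -/
theorem flat_fp_piece (B : Type u) [CommRing B] [Algebra Γ(S, R.1) B]
    [Algebra.FinitePresentation Γ(S, R.1) B] [Algebra B Γ(X, V.1)]
    (hπ : Function.Surjective (algebraMap B Γ(X, V.1)))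
    (htw : ∀ a, algebraMap B Γ(X, V.1) (algebraMap Γ(S, R.1) B a) = f.appLE R.1 V.1 e a)
    (r : Γ(S, R.1)) (hr : S.basicOpen r ≤ U) :
    (letI : Algebra Γ(S, R.1) Γ(X, V.1) := (f.appLE R.1 V.1 e).hom.toAlgebra
     Module.Flat Γ(S, R.1) (LocalizedModule (Submonoid.powers r) Γ(X, V.1))) ∧
    Module.FinitePresentation (Localization.Away (algebraMap Γ(S, R.1) B r))
      (LocalizedModule (Submonoid.powers (algebraMap Γ(S, R.1) B r)) Γ(X, V.1)) := by
  letI : Algebra Γ(S, R.1) Γ(X, V.1) := (f.appLE R.1 V.1 e).hom.toAlgebra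
  haveI : IsScalarTower Γ(S, R.1) B Γ(X, V.1) := IsScalarTower.of_algebraMap_eq fun a => (htw a).symm
  let a := f.appLE R.1 V.1 e r
  let O : X.Opens := X.basicOpen a
  have hOaff : IsAffineOpen O := V.2.basicOpen a
  have hOU : O ≤ f ⁻¹ᵁ U := by
    show X.basicOpen a ≤ _
    rw [Scheme.basicOpen_appLE]; exact inf_le_right.trans (f.preimage_mono hr)
  let eR : O ≤ f ⁻¹ᵁ R.1 := (X.basicOpen_le a).trans e
  have hι : O.ι ≫ f = X.homOfLE hOU ≫ (f ∣_ U) ≫ U.ι := by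
    rw [morphismRestrict_ι, ← Category.assoc, Scheme.homOfLE_ι]
  haveI : Flat (O.ι ≫ f) := by rw [hι]; infer_instance
  haveI : LocallyOfFinitePresentation (O.ι ≫ f) := by rw [hι]; infer_instance
  letI : Algebra Γ(S, R.1) Γ(X, O) := (f.appLE R.1 O eR).hom.toAlgebra
  letI : Algebra Γ(X, V.1) Γ(X, O) := (X.presheaf.map (homOfLE (X.basicOpen_le a)).op).hom.toAlgebra
  haveI : IsScalarTower Γ(S, R.1) Γ(X, V.1) Γ(X, O) := IsScalarTower.of_algebraMap_eq fun c => by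
    show f.appLE R.1 O eR c = X.presheaf.map (homOfLE (X.basicOpen_le a)).op (f.appLE R.1 V.1 e c)
    rw [← CommRingCat.comp_apply, Scheme.Hom.appLE_map]
  haveI hloc : IsLocalization.Away a Γ(X, O) := V.2.isLocalization_basicOpen a
  haveI : Module.Flat Γ(S, R.1) Γ(X, O) :=
    RingHom.flat_algebraMap_iff.1 (IdealSh.Regular.flat_appLE_of_flat_ι f R.2 hOaff eR)
  haveI : Algebra.FinitePresentation Γ(S, R.1) Γ(X, O) :=
    RingHom.finitePresentation_algebraMap.1 (finitePresentation_appLE_of_ι f R.2 hOaff eR)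
  haveI hlm : IsLocalizedModule (Submonoid.powers a) (Algebra.linearMap Γ(X, V.1) Γ(X, O)) :=
    isLocalizedModule_iff_isLocalization.2 (by rw [Algebra.algebraMapSubmonoid_self]; exact hloc)
  constructor
  · haveI : IsLocalizedModule (Submonoid.powers (algebraMap Γ(S, R.1) Γ(X, V.1) r))
        (Algebra.linearMap Γ(X, V.1) Γ(X, O)) := hlm
    haveI := IsLocalizedModule.restrictScalars_powers (R := Γ(S, R.1)) r (Algebra.linearMap Γ(X, V.1) Γ(X, O))
    exact Module.Flat.of_linearEquiv (IsLocalizedModule.iso (Submonoid.powers r)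
      ((Algebra.linearMap Γ(X, V.1) Γ(X, O)).restrictScalars Γ(S, R.1)))
  · let b := algebraMap Γ(S, R.1) B r
    letI : Algebra B Γ(X, O) := ((algebraMap Γ(X, V.1) Γ(X, O)).comp (algebraMap B Γ(X, V.1))).toAlgebra
    haveI : IsScalarTower B Γ(X, V.1) Γ(X, O) := IsScalarTower.of_algebraMap_eq fun _ => rfl
    haveI : IsScalarTower Γ(S, R.1) B Γ(X, O) := IsScalarTower.of_algebraMap_eq fun c => by
      show _ = algebraMap Γ(X, V.1) Γ(X, O) (algebraMap B Γ(X, V.1) (algebraMap Γ(S, R.1) B c))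
      rw [← IsScalarTower.algebraMap_apply Γ(S, R.1) B Γ(X, V.1), ← IsScalarTower.algebraMap_apply]
    have hb : algebraMap B Γ(X, V.1) b = a := htw r
    haveI : IsLocalizedModule (Submonoid.powers (algebraMap B Γ(X, V.1) b))
        (Algebra.linearMap Γ(X, V.1) Γ(X, O)) := by rw [hb]; exact hlm
    haveI := IsLocalizedModule.restrictScalars_powers (R := B) b (Algebra.linearMap Γ(X, V.1) Γ(X, O))
    let Bb := Localization.Away b
    have hu : IsUnit (algebraMap B Γ(X, O) b) := by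
      show IsUnit (algebraMap Γ(X, V.1) Γ(X, O) (algebraMap B Γ(X, V.1) b))
      rw [hb]
      exact IsLocalization.Away.algebraMap_isUnit a
    letI : Algebra Bb Γ(X, O) := (IsLocalization.Away.lift b hu).toAlgebra
    haveI : IsScalarTower B Bb Γ(X, O) :=
      IsScalarTower.of_algebraMap_eq fun c => (IsLocalization.Away.lift_eq b hu c).symm
    haveI : IsScalarTower Γ(S, R.1) Bb Γ(X, O) := IsScalarTower.of_algebraMap_eq fun c => by
      rw [IsScalarTower.algebraMap_apply Γ(S, R.1) B Bb, ← IsScalarTower.algebraMap_apply B Bb Γ(X, O),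
        ← IsScalarTower.algebraMap_apply]
    haveI : Algebra.FinitePresentation B Bb := IsLocalization.Away.finitePresentation b
    haveI : Algebra.FinitePresentation Γ(S, R.1) Bb := Algebra.FinitePresentation.trans _ B _
    have hsurj : Function.Surjective (algebraMap Bb Γ(X, O)) := fun y => by
      obtain ⟨⟨v, _, k, rfl⟩, hv⟩ := IsLocalization.surj (Submonoid.powers a) y
      obtain ⟨v, rfl⟩ := hπ v
      let bk : Submonoid.powers b := ⟨b ^ k, Submonoid.pow_mem _ (Submonoid.mem_powers b) k⟩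
      refine ⟨IsLocalization.mk' Bb v bk, ?_⟩
      refine (hu.pow k).mul_left_injective ?_
      have e1 : algebraMap Bb Γ(X, O) (IsLocalization.mk' Bb v bk) * algebraMap B Γ(X, O) (b ^ k) =
          algebraMap B Γ(X, O) v := by
        have e0 := congrArg (algebraMap Bb Γ(X, O)) (IsLocalization.mk'_spec Bb v bk)
        rw [map_mul, ← IsScalarTower.algebraMap_apply B Bb, ← IsScalarTower.algebraMap_apply B Bb] at e0
        exact e0
      show _ * algebraMap B Γ(X, O) b ^ k = y * algebraMap B Γ(X, O) b ^ k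
      rw [← map_pow, e1]
      show algebraMap Γ(X, V.1) Γ(X, O) (algebraMap B Γ(X, V.1) v) =
        y * algebraMap Γ(X, V.1) Γ(X, O) (algebraMap B Γ(X, V.1) (b ^ k))
      rw [map_pow, hb]
      exact hv.symm
    let q : Bb →ₗ[Bb] Γ(X, O) := Algebra.linearMap Bb Γ(X, O)
    haveI : Module.FinitePresentation Bb Γ(X, O) := by
      refine Module.finitePresentation_of_surjective q hsurj ?_
      have := Algebra.FinitePresentation.ker_fG_of_surjective (IsScalarTower.toAlgHom Γ(S, R.1) Bb Γ(X, O)) hsurj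
      exact this
    let ε := (IsLocalizedModule.iso (Submonoid.powers b)
      ((Algebra.linearMap Γ(X, V.1) Γ(X, O)).restrictScalars B)).extendScalarsOfIsLocalization
      (Submonoid.powers b) Bb
    exact @Module.FinitePresentation.of_equiv Bb Γ(X, O)
      (LocalizedModule (Submonoid.powers b) Γ(X, V.1)) _ _ _ _ _ ε.symm inferInstance

/-- Flattening of a morphism of finite type by an admissible blow-up, on affine charts. -/
theorem exists_flattening [CompactSpace S] [QuasiSeparatedSpace S] [LocallyOfFiniteType f] [QuasiCompact f]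
    (hU : IsCompact (U : Set S)) :
    ∃ (𝓘 : S.IdealSheafData) (S' : Scheme.{u}) (b : S' ⟶ S), BlowUp.IsBlowUp b 𝓘 ∧ BlowUp.IsAdmissibleFor U 𝓘 ∧
      (𝓘.support : Set S) = (U : Set S)ᶜ ∧
      ∀ (X' : Scheme.{u}) (p₁ : X' ⟶ X) (p₂ : X' ⟶ S'), IsPullback p₁ p₂ f b → ∀ x : X',
        ∃ (W : S'.affineOpens) (O : X'.affineOpens) (e : O.1 ≤ p₂ ⁻¹ᵁ W.1) (c : Γ(X', O.1)),
          x ∈ O.1 ∧ ((𝓘.comap f).comap p₁).ideal O = Ideal.span {c} ∧
          (letI : Algebra Γ(S', W.1) Γ(X', O.1) := (p₂.appLE W.1 O.1 e).hom.toAlgebra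
           Module.Flat Γ(S', W.1) (Γ(X', O.1) ⧸ (FlatCA.powTorsion Γ(X', O.1) c Γ(X', O.1) : Ideal Γ(X', O.1))) ∧
             Algebra.FinitePresentation Γ(S', W.1)
               (Γ(X', O.1) ⧸ (FlatCA.powTorsion Γ(X', O.1) c Γ(X', O.1) : Ideal Γ(X', O.1)))) := by
  classical
  haveI : CompactSpace X := QuasiCompact.compactSpace_of_compactSpace f
  obtain ⟨H, hH, hHs⟩ := QDom.Global.exists_support_eq_compl (V := U) hU
  obtain ⟨S₁, b₁, hb₁⟩ := BlowUp.Glue.exists_isBlowUp S H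
  haveI hb₁p : IsProper b₁ := BlowUpProper.Basic.isProper hb₁ hH
  haveI : CompactSpace S₁ := QuasiCompact.compactSpace_of_compactSpace b₁
  haveI : QuasiSeparatedSpace S₁ := quasiSeparatedSpace_of_quasiSeparated b₁
  let D := H.comap b₁
  have hD : BlowUp.IsEffCartierIdeal D := hb₁.1
  have hDft : BlowUp.IsFiniteTypeIdeal D := FinType.comap b₁ hH
  have hDU : (D.support : Set S₁) = (((b₁ ⁻¹ᵁ U) : S₁.Opens) : Set S₁)ᶜ := by
    rw [Scheme.IdealSheafData.support_comap]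
    show b₁ ⁻¹' (H.support : Set S) = _
    rw [hHs]
    rfl
  have hU₁ : IsCompact ((b₁ ⁻¹ᵁ U : S₁.Opens) : Set S₁) := b₁.isCompact_preimage hU
  -- the pieces
  have hch : ∀ x : X, ∃ (R : S.affineOpens) (V : X.affineOpens), x ∈ V.1 ∧ V.1 ≤ f ⁻¹ᵁ R.1 :=
    fun x => Comap.exists_affine_pair f x
  choose R V hxV eV using hch
  obtain ⟨σ, hσ⟩ := isCompact_univ.elim_finite_subcover (fun x : X => ((V x).1 : Set X))
    (fun x => (V x).1.isOpen) (fun x _ => Set.mem_iUnion.2 ⟨x, hxV x⟩)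
  have hπ : ∀ x : X, ∃ (n : ℕ) (π : MvPolynomial (Fin n) Γ(S, (R x).1) →+* Γ(X, (V x).1)),
      Function.Surjective π ∧ π.comp MvPolynomial.C = (f.appLE (R x).1 (V x).1 (eV x)).hom := fun x => by
    letI : Algebra Γ(S, (R x).1) Γ(X, (V x).1) := (f.appLE (R x).1 (V x).1 (eV x)).hom.toAlgebra
    have hft : Algebra.FiniteType Γ(S, (R x).1) Γ(X, (V x).1) :=
      HasRingHomProperty.appLE (P := @LocallyOfFiniteType) f inferInstance (R x) (V x) (eV x)
    obtain ⟨n, π, hπ⟩ := Algebra.FiniteType.iff_quotient_mvPolynomial''.1 hft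
    exact ⟨n, π.toRingHom, hπ, RingHom.ext fun c => π.commutes c⟩
  choose n π hπs hπC using hπ
  letI halg : ∀ x, Algebra (MvPolynomial (Fin (n x)) Γ(S, (R x).1)) Γ(X, (V x).1) := fun x => (π x).toAlgebra
  have key : ∀ x : X, ∃ K : Stages.Idx (b₁ ⁻¹ᵁ U),
      letI : Algebra Γ(S, (R x).1) Γ(X, (V x).1) := (f.appLE (R x).1 (V x).1 (eV x)).hom.toAlgebra
      haveI : IsScalarTower Γ(S, (R x).1) (MvPolynomial (Fin (n x)) Γ(S, (R x).1)) Γ(X, (V x).1) :=
        IsScalarTower.of_algebraMap_eq fun c => (RingHom.congr_fun (hπC x) c).symm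
      ∀ (T : Scheme.{u}) (g : T ⟶ S₁), BlowUp.IsEffCartierIdeal ((D * K.val).comap g) → ∀ y, b₁ (g y) ∈ (R x).1 →
        ∃ (W₀ : S₁.affineOpens) (eW₀ : W₀.1 ≤ b₁ ⁻¹ᵁ (R x).1) (t : Γ(S₁, W₀.1)),
          D.ideal W₀ = Ideal.span {t} ∧ ∃ (W : T.affineOpens) (eW : W.1 ≤ g ⁻¹ᵁ W₀.1),
            y ∈ W.1 ∧ ModPiece.GoodPiece b₁ (R x) (MvPolynomial (Fin (n x)) Γ(S, (R x).1)) Γ(X, (V x).1)
              W₀ eW₀ t g W eW := by
    intro x
    letI : Algebra Γ(S, (R x).1) Γ(X, (V x).1) := (f.appLE (R x).1 (V x).1 (eV x)).hom.toAlgebra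
    haveI : IsScalarTower Γ(S, (R x).1) (MvPolynomial (Fin (n x)) Γ(S, (R x).1)) Γ(X, (V x).1) :=
      IsScalarTower.of_algebraMap_eq fun c => (RingHom.congr_fun (hπC x) c).symm
    haveI : Module.Finite (MvPolynomial (Fin (n x)) Γ(S, (R x).1)) Γ(X, (V x).1) :=
      Module.Finite.of_surjective (Algebra.linearMap _ _) (hπs x)
    exact ModPiece.exists_ideal b₁ (R x) (MvPolynomial (Fin (n x)) Γ(S, (R x).1)) Γ(X, (V x).1) U
      (fun r hr => (flat_fp_piece f (R x) (V x) (eV x) U _ (hπs x) (RingHom.congr_fun (hπC x)) r hr).1)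
      (fun r hr => (flat_fp_piece f (R x) (V x) (eV x) U _ (hπs x) (RingHom.congr_fun (hπC x)) r hr).2)
      D hD hDft hDU hU₁
  choose K hK using key
  let 𝓚 : S₁.IdealSheafData := ∏ y ∈ σ, (K y).val
  have hKadm : BlowUp.IsAdmissibleFor (b₁ ⁻¹ᵁ U) 𝓚 := FinType.admissible_prod _ _ σ fun y => (K y).prop
  obtain ⟨S', b₂, hb₂⟩ := BlowUp.Glue.exists_isBlowUp S₁ (D * 𝓚)
  obtain ⟨𝓘, h𝓘, h𝓘s, hb⟩ := BlowComp.Main.exists_comp hb₁ hH (FinType.mul hDft hKadm.1) hb₂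
  have h𝓘U : (𝓘.support : Set S) = (U : Set S)ᶜ := by
    rw [h𝓘s, hHs, Set.union_eq_left]
    rintro _ ⟨y, hy, rfl⟩
    intro hyU
    rw [Scheme.IdealSheafData.support_mul, Closeds.coe_sup, hDU] at hy
    rcases hy with hy | hy
    · exact hy hyU
    · exact Set.disjoint_left.1 hKadm.2 hy hyU
  refine ⟨𝓘, S', b₂ ≫ b₁, hb, ⟨h𝓘, by rw [h𝓘U]; exact disjoint_compl_left⟩, h𝓘U, ?_⟩
  intro X' p₁ p₂ hpb x
  obtain ⟨i, hiσ, hxi⟩ := Set.mem_iUnion₂.1 (hσ (Set.mem_univ (p₁ x)))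
  have hg : BlowUp.IsEffCartierIdeal ((D * (K i).val).comap b₂) := by
    have h := hb₂.1
    have hmul : 𝓚 = (K i).val * ∏ y ∈ σ.erase i, (K y).val :=
      (Finset.mul_prod_erase σ (fun y => (K y).val) hiσ).symm
    rw [hmul, ← mul_assoc, Comap.comap_mul] at h
    exact EffCartier.factor_left h
  have hwx : b₁ (b₂ (p₂ x)) = f (p₁ x) := by
    show (p₂ ≫ b₂ ≫ b₁) x = (p₁ ≫ f) x
    rw [hpb.w]
  obtain ⟨W₀, eW₀, t, ht, W₁, eW₁, hxW₁, hgood⟩ := hK i S' b₂ hg (p₂ x) (by rw [hwx]; exact eV i hxi)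
  obtain ⟨W, hxW, hWW₁, c₀, -, hc₀⟩ := EffCartier.exists_equation hb.1 (p₂ x) W₁.1 hxW₁
  have eW : W.1 ≤ b₂ ⁻¹ᵁ W₀.1 := hWW₁.trans eW₁
  have hDc : BlowUp.IsEffCartierIdeal (D.comap b₂) := by
    have h := hb₂.1
    rw [Comap.comap_mul] at h
    exact EffCartier.factor_left h
  let R' := R i
  let V' := V i
  let B := MvPolynomial (Fin (n i)) Γ(S, R'.1)
  letI : Algebra Γ(S, R'.1) Γ(X, V'.1) := (f.appLE R'.1 V'.1 (eV i)).hom.toAlgebra
  haveI : IsScalarTower Γ(S, R'.1) B Γ(X, V'.1) :=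
    IsScalarTower.of_algebraMap_eq fun c => (RingHom.congr_fun (hπC i) c).symm
  letI : Algebra Γ(S, R'.1) Γ(S₁, W₀.1) := (b₁.appLE R'.1 W₀.1 eW₀).hom.toAlgebra
  have hgood' : Stages.GoodAt (B₀ := Γ(S₁, W₀.1) ⊗[Γ(S, R'.1)] B) W₀ t
      ((Γ(S₁, W₀.1) ⊗[Γ(S, R'.1)] B) ⊗[B] Γ(X, V'.1)) b₂ W eW :=
    Stages.goodAt_of_hom W₀ t _ D ht b₂ (𝟙 S') b₂ (Category.id_comp b₂) hDc W₁ eW₁ W
      (by rw [Scheme.Hom.id_preimage]; exact hWW₁) eW hgood
  have eR : W.1 ≤ (b₂ ≫ b₁) ⁻¹ᵁ R'.1 := by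
    rw [Scheme.Hom.comp_preimage]; exact eW.trans (b₂.preimage_mono eW₀)
  obtain ⟨O, hO⟩ : ∃ O, O = p₁ ⁻¹ᵁ V'.1 ⊓ p₂ ⁻¹ᵁ W.1 := ⟨_, rfl⟩
  have hOV : O ≤ p₁ ⁻¹ᵁ V'.1 := hO.le.trans inf_le_left
  have hOW : O ≤ p₂ ⁻¹ᵁ W.1 := hO.le.trans inf_le_right
  have hOaff : IsAffineOpen O := by
    have : IsAffine R'.1.toScheme := R'.2
    have : IsAffine W.1.toScheme := W.2
    have : IsAffine V'.1.toScheme := V'.2
    exact .of_isIso (Scheme.Hom.isPullback_resLE hpb eR (eV i) hO).isoPullback.hom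
  have hpush : IsPushout (f.appLE R'.1 V'.1 (eV i)) ((b₂ ≫ b₁).appLE R'.1 W.1 eR) (p₁.appLE V'.1 O hOV)
      (p₂.appLE W.1 O hOW) :=
    (isIso_pushoutSection_iff hpb eR (eV i) hO).mp
      (isIso_pushoutSection_of_isAffineOpen hpb eR (eV i) hO R'.2 W.2 V'.2)
  letI : Algebra Γ(S₁, W₀.1) Γ(S', W.1) := Stages.sectAlgebra W₀ b₂ W.1 eW
  letI : Algebra Γ(S, R'.1) Γ(S', W.1) := ((b₂ ≫ b₁).appLE R'.1 W.1 eR).hom.toAlgebra
  haveI : IsScalarTower Γ(S, R'.1) Γ(S₁, W₀.1) Γ(S', W.1) := IsScalarTower.of_algebraMap_eq fun a => by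
    show (b₂ ≫ b₁).appLE R'.1 W.1 eR a = b₂.appLE W₀.1 W.1 eW (b₁.appLE R'.1 W₀.1 eW₀ a)
    rw [← CommRingCat.comp_apply, Scheme.Hom.appLE_comp_appLE]
  letI : Algebra Γ(X, V'.1) Γ(X', O) := (p₁.appLE V'.1 O hOV).hom.toAlgebra
  letI : Algebra Γ(S', W.1) Γ(X', O) := (p₂.appLE W.1 O hOW).hom.toAlgebra
  letI : Algebra Γ(S, R'.1) Γ(X', O) :=
    ((p₂.appLE W.1 O hOW).hom.comp ((b₂ ≫ b₁).appLE R'.1 W.1 eR).hom).toAlgebra
  haveI : IsScalarTower Γ(S, R'.1) Γ(S', W.1) Γ(X', O) := .of_algebraMap_eq' rfl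
  haveI : IsScalarTower Γ(S, R'.1) Γ(X, V'.1) Γ(X', O) := .of_algebraMap_eq' congr($(hpush.w).hom).symm
  haveI : Algebra.IsPushout Γ(S, R'.1) Γ(S', W.1) Γ(X, V'.1) Γ(X', O) :=
    CommRingCat.isPushout_iff_isPushout.mp hpush.flip
  letI : Algebra B Γ(X', O) := ((algebraMap Γ(X, V'.1) Γ(X', O)).comp (algebraMap B Γ(X, V'.1))).toAlgebra
  haveI : IsScalarTower B Γ(X, V'.1) Γ(X', O) := IsScalarTower.of_algebraMap_eq fun _ => rfl
  haveI : IsScalarTower Γ(S, R'.1) B Γ(X', O) := IsScalarTower.of_algebraMap_eq fun c => by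
    show _ = algebraMap Γ(X, V'.1) Γ(X', O) (algebraMap B Γ(X, V'.1) (algebraMap Γ(S, R'.1) B c))
    rw [← IsScalarTower.algebraMap_apply Γ(S, R'.1) B Γ(X, V'.1), ← IsScalarTower.algebraMap_apply]
  -- `G ⊗ B → Γ(O)`
  let C := Γ(S', W.1) ⊗[Γ(S, R'.1)] B
  let ψ : C →ₐ[Γ(S', W.1)] Γ(X', O) := Algebra.TensorProduct.lift (Algebra.ofId _ _)
    (IsScalarTower.toAlgHom Γ(S, R'.1) B Γ(X', O)) (fun _ _ => Commute.all _ _)
  have hψ : ∀ (s : Γ(S', W.1)) (p : B), ψ (s ⊗ₜ p) = algebraMap _ Γ(X', O) s * algebraMap B Γ(X', O) p :=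
    fun s p => Algebra.TensorProduct.lift_tmul _ _ _ _ _
  letI : Algebra C Γ(X', O) := ψ.toRingHom.toAlgebra
  haveI : IsScalarTower Γ(S', W.1) C Γ(X', O) := IsScalarTower.of_algebraMap_eq fun s => (ψ.commutes s).symm
  haveI : IsScalarTower B C Γ(X', O) := IsScalarTower.of_algebraMap_eq fun p => by
    show _ = ψ ((1 : Γ(S', W.1)) ⊗ₜ p)
    rw [hψ, map_one, one_mul]
  let μ : C ⊗[B] Γ(X, V'.1) ≃ₗ[Γ(S', W.1)] Γ(X', O) :=
    (Algebra.IsPushout.cancelBaseChange Γ(S, R'.1) Γ(S', W.1) B C Γ(X, V'.1)).trans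
      (Algebra.IsPushout.out (R := Γ(S, R'.1)) (S := Γ(S', W.1)) (R' := Γ(X, V'.1)) (S' := Γ(X', O))).equiv
  let g : Γ(X, V'.1) →ₗ[B] Γ(X', O) := (IsScalarTower.toAlgHom B Γ(X, V'.1) Γ(X', O)).toLinearMap
  have hg : IsBaseChange C g := by
    have hμ : ∀ z, g.liftBaseChange C z = μ z := fun z => by
      induction z using TensorProduct.induction_on with
      | zero => simp
      | tmul c m =>
        induction c using TensorProduct.induction_on with
        | zero => simp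
        | tmul s p =>
          rw [LinearMap.liftBaseChange_tmul]
          have h0 : (s ⊗ₜ[Γ(S, R'.1)] p : C) ⊗ₜ[B] m = (s ⊗ₜ[Γ(S, R'.1)] (1 : B) : C) ⊗ₜ[B] (p • m) := by
            rw [TensorProduct.tmul_smul, TensorProduct.smul_tmul']
            congr 1
            rw [Algebra.smul_def]
            show _ = ((1 : Γ(S', W.1)) ⊗ₜ[Γ(S, R'.1)] p) * (s ⊗ₜ[Γ(S, R'.1)] (1 : B))
            rw [Algebra.TensorProduct.tmul_mul_tmul, one_mul, mul_one]
          rw [h0]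
          have h1 : Algebra.IsPushout.cancelBaseChange Γ(S, R'.1) Γ(S', W.1) B C Γ(X, V'.1)
              ((s ⊗ₜ[Γ(S, R'.1)] (1 : B) : C) ⊗ₜ[B] (p • m)) = s ⊗ₜ (p • m) := by
            rw [← LinearEquiv.eq_symm_apply]
            simp [Algebra.TensorProduct.algebraMap_apply]; rfl
          show _ = (Algebra.IsPushout.out (R := Γ(S, R'.1)) (S := Γ(S', W.1)) (R' := Γ(X, V'.1))
            (S' := Γ(X', O))).equiv _
          refine Eq.trans ?_ (congrArg _ h1.symm)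
          rw [IsBaseChange.equiv_tmul]
          show ψ (s ⊗ₜ p) * algebraMap Γ(X, V'.1) Γ(X', O) m = _
          rw [hψ, Algebra.smul_def, Algebra.smul_def]
          show _ = algebraMap Γ(S', W.1) Γ(X', O) s * algebraMap Γ(X, V'.1) Γ(X', O) (algebraMap B Γ(X, V'.1) p * m)
          rw [map_mul, mul_assoc]
          rfl
        | add a a' ha ha' => simp only [TensorProduct.add_tmul, map_add, ha, ha']
      | add a a' ha ha' => simp only [map_add, ha, ha']
    exact IsBaseChange.of_equiv (LinearEquiv.ofBijective (g.liftBaseChange C)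
      (by rw [show ⇑(g.liftBaseChange C) = ⇑μ from funext hμ]; exact μ.bijective)) fun m => by
        rw [LinearEquiv.ofBijective_apply, LinearMap.liftBaseChange_tmul, one_smul]
  obtain ⟨hflat, hfp⟩ := FlatAlg.of_good (R := Γ(S, R'.1)) (B := B) (A₀ := Γ(S₁, W₀.1))
    (Mv := Γ(X, V'.1)) t (G := Γ(S', W.1)) (C := C) Γ(X', O) g hg hgood'
  -- the exceptional equation
  let t' : Γ(S', W.1) := b₂.appLE W₀.1 W.1 eW t
  let C₀ := p₂.appLE W.1 O hOW c₀
  have hxO : x ∈ O := by rw [hO]; exact ⟨hxi, hxW⟩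
  have hc : ((𝓘.comap f).comap p₁).ideal ⟨O, hOaff⟩ = Ideal.span {C₀} := by
    rw [← Scheme.IdealSheafData.comap_comp, hpb.w, Scheme.IdealSheafData.comap_comp]
    exact Comap.ideal_comap_span_singleton _ p₂ W ⟨O, hOaff⟩ hOW hc₀
  have hsupp : ((D.comap b₂).support : Set S') = ((𝓘.comap (b₂ ≫ b₁)).support : Set S') := by
    have hmem : ∀ {T₁ T₂ : Scheme.{u}} (g : T₁ ⟶ T₂) (I : T₂.IdealSheafData) (y : T₁),
        y ∈ ((I.comap g).support : Set T₁) ↔ g y ∈ (I.support : Set T₂) := fun g I y => by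
      rw [Scheme.IdealSheafData.support_comap]; rfl
    ext y
    rw [hmem b₂ D, hmem (b₂ ≫ b₁) 𝓘, hDU, h𝓘U]
    rfl
  have hbo : S'.basicOpen c₀ = S'.basicOpen t' := by
    refine Opens.ext ?_
    rw [Regular.basicOpen_eq_compl_support hc₀,
      Regular.basicOpen_eq_compl_support (Comap.ideal_comap_span_singleton D b₂ W₀ W eW ht), hsupp]
  let u' : Γ(X', O) := p₂.appLE W.1 O hOW t'
  have h1 : ∃ n : ℕ, u' ∣ C₀ ^ n := by
    obtain ⟨n, hn⟩ := FlatMain.exists_dvd_pow W t' c₀ hbo.le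
    exact ⟨n, by rw [← map_pow]; exact map_dvd _ hn⟩
  have h2 : ∃ n : ℕ, C₀ ∣ u' ^ n := by
    obtain ⟨n, hn⟩ := FlatMain.exists_dvd_pow W c₀ t' hbo.ge
    exact ⟨n, by rw [← map_pow]; exact map_dvd _ hn⟩
  refine ⟨W, ⟨O, hOaff⟩, hOW, C₀, hxO, hc, ?_⟩
  let tC : C := algebraMap Γ(S', W.1) C t'
  have htC : ψ tC = u' := ψ.commutes t'
  let J : Ideal Γ(X', O) := FlatCA.powTorsion Γ(X', O) C₀ Γ(X', O)
  let T := FlatCA.powTorsion C tC Γ(X', O)
  have hT : ∀ y, y ∈ T ↔ y ∈ J := fun y => by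
    show _ ↔ y ∈ FlatCA.powTorsion Γ(X', O) C₀ Γ(X', O)
    rw [← FlatMain.powTorsion_congr h1 h2, FittLib.Strict.mem_powTorsion, FittLib.Strict.mem_powTorsion]
    refine exists_congr fun k => ?_
    rw [← algebraMap_smul Γ(X', O) (tC ^ k), map_pow]
    show ψ tC ^ k • y = 0 ↔ _
    rw [htC]
  let q : Γ(X', O) →ₗ[C] Γ(X', O) ⧸ J := (Ideal.Quotient.mkₐ C J).toLinearMap
  have hq : LinearMap.ker q = T := by
    ext y
    rw [hT y]
    exact Ideal.Quotient.eq_zero_iff_mem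
  let eQ : (Γ(X', O) ⧸ T) ≃ₗ[C] Γ(X', O) ⧸ J :=
    (Submodule.quotEquivOfEq _ _ hq.symm).trans
      (LinearMap.quotKerEquivOfSurjective q Ideal.Quotient.mk_surjective)
  constructor
  · haveI : Module.Flat Γ(S', W.1) (Γ(X', O) ⧸ T) := hflat
    exact Module.Flat.of_linearEquiv (eQ.restrictScalars Γ(S', W.1)).symm
  · haveI : Module.FinitePresentation C (Γ(X', O) ⧸ T) := hfp
    haveI : Module.FinitePresentation C (Γ(X', O) ⧸ J) := Module.FinitePresentation.of_equiv eQ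
    let ω : C →ₐ[Γ(S', W.1)] Γ(X', O) ⧸ J := (Ideal.Quotient.mkₐ Γ(S', W.1) J).comp ψ
    have hωs : Function.Surjective ω := by
      intro y
      obtain ⟨z, rfl⟩ := Ideal.Quotient.mk_surjective y
      obtain ⟨w, rfl⟩ := hg.equiv.surjective z
      induction w using TensorProduct.induction_on with
      | zero => exact ⟨0, by rw [map_zero, map_zero, map_zero]⟩
      | tmul c m =>
        obtain ⟨p, rfl⟩ := hπs i m
        refine ⟨c * ((1 : Γ(S', W.1)) ⊗ₜ p), ?_⟩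
        rw [IsBaseChange.equiv_tmul, Algebra.smul_def, map_mul, map_mul]
        congr 1
        show Ideal.Quotient.mk J (ψ ((1 : Γ(S', W.1)) ⊗ₜ p)) = _
        rw [hψ, map_one, one_mul]
        rfl
      | add a a' ha ha' =>
        obtain ⟨u, hu⟩ := ha
        obtain ⟨v, hv⟩ := ha'
        exact ⟨u + v, by rw [map_add, map_add, map_add, hu, hv]⟩
    refine Algebra.FinitePresentation.of_surjective (f := ω) hωs ?_
    exact Module.FinitePresentation.fg_ker (Algebra.linearMap C (Γ(X', O) ⧸ J)) hωs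

end Groth.Agent.RG.FTMain
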