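import Groth.Agent.RG.EtFlat
import Groth.Agent.RG.FTMain
import Groth.Agent.RG.StrictSub
import Groth.Agent.AlgSp.InfFlat
import Groth.Agent.BlowUp.Basic

/-!
# Admissible centres on étale neighbourhoods become invertible after an admissible blow-up
-/

set_option autoImplicit false
set_option maxHeartbeats 800000
set_option linter.style.haveILetI false

universe u

open AlgebraicGeometry CategoryTheory CategoryTheory.Limits TopologicalSpace TensorProduct
open Groth.Agent.IdealSh FlatMor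

attribute [local instance] Algebra.TensorProduct.rightAlgebra

namespace Groth.Agent.RG.EtCartier

variable {S : Scheme.{u}} (U : S.Opens) {k : ℕ} (Si : Fin k → Scheme.{u}) (e : ∀ i, Si i ⟶ S)
  [∀ i, Etale (e i)] [∀ i, QuasiCompact (e i)] (𝓘 : ∀ i, (Si i).IdealSheafData)
  (Sst : Fin k → Scheme.{u}) (b : ∀ i, Sst i ⟶ Si i)
  (hb : ∀ i, BlowUp.IsBlowUp (b i) (𝓘 i) ∧ BlowUp.IsAdmissibleFor ((e i) ⁻¹ᵁ U) (𝓘 i))

include hb in
theorem isIso_b (i : Fin k) : IsIso (b i ∣_ ((e i) ⁻¹ᵁ U)) :=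
  BlowUp.Basic.isIso_restrict (hb i).1 _ (hb i).2.2.symm

include hb in
theorem isProper_b (i : Fin k) : IsProper (b i) :=
  BlowUpProper.Basic.isProper (hb i).1 (hb i).2.1

include hb in
/-- A blow-up making all the given centres invertible. -/
theorem exists_cartier [CompactSpace S] [QuasiSeparatedSpace S] (hU : IsCompact (U : Set S)) :
    ∃ (𝓙 : S.IdealSheafData) (S' : Scheme.{u}) (b' : S' ⟶ S),
      BlowUp.IsBlowUp b' 𝓙 ∧ BlowUp.IsAdmissibleFor U 𝓙 ∧ (𝓙.support : Set S) = (U : Set S)ᶜ ∧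
      ∀ i, BlowUp.IsEffCartierIdeal ((𝓘 i).comap (pullback.fst (e i) b')) := by
  haveI : ∀ i, IsProper (b i) := isProper_b U Si e 𝓘 Sst b hb
  let φ : (∐ Sst) ⟶ S := Sigma.desc fun i => b i ≫ e i
  haveI : CompactSpace S := inferInstance
  haveI hqc : ∀ i, CompactSpace (Sst i) := fun i => QuasiCompact.compactSpace_of_compactSpace (b i ≫ e i)
  haveI : CompactSpace (∐ Sst : Scheme.{u}) := by
    haveI : Finite (sigmaOpenCover Sst).I₀ := inferInstanceAs (Finite (Fin k))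
    haveI : ∀ i, CompactSpace ((sigmaOpenCover Sst).X i) := fun i => hqc i
    exact (sigmaOpenCover Sst).compactSpace
  haveI : QuasiCompact φ := inferInstance
  haveI : LocallyOfFiniteType φ := IsZariskiLocalAtSource.sigmaDesc (fun i => inferInstance)
  have hloc : ∀ (P : MorphismProperty Scheme.{u}) [IsZariskiLocalAtSource P],
      (∀ i, P ((b i ≫ e i) ∣_ U)) → P (φ ∣_ U) := fun P _ hP => by
    refine IsZariskiLocalAtSource.of_openCover
      ((sigmaOpenCover Sst).pullback₁ (φ ⁻¹ᵁ U).ι) fun i => ?_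
    have key : ∀ ψ, ψ = b i ≫ e i → P (ψ ∣_ U) := by rintro ψ rfl; exact hP i
    have h2 := key (Sigma.ι Sst i ≫ φ) (Sigma.ι_desc _ _)
    rw [morphismRestrict_comp] at h2
    let θ := (isPullback_morphismRestrict (Sigma.ι Sst i) (φ ⁻¹ᵁ U)).isoPullback
    have h1 : θ.hom ≫ pullback.fst (φ ⁻¹ᵁ U).ι (Sigma.ι Sst i) = Sigma.ι Sst i ∣_ (φ ⁻¹ᵁ U) :=
      IsPullback.isoPullback_hom_fst _
    rw [← h1, Category.assoc] at h2
    exact (MorphismProperty.cancel_left_of_respectsIso P θ.hom _).1 h2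
  have hpiece : ∀ i, Flat ((b i ≫ e i) ∣_ U) ∧ LocallyOfFinitePresentation ((b i ≫ e i) ∣_ U) := fun i => by
    haveI : IsIso (b i ∣_ (e i) ⁻¹ᵁ U) := isIso_b U Si e 𝓘 Sst b hb i
    haveI h1 : Etale (e i ∣_ U) := IsZariskiLocalAtTarget.restrict (P := @Etale) (show Etale (e i) from inferInstance) U
    have h2 : Flat (b i ∣_ (e i) ⁻¹ᵁ U) := inferInstance
    have h3 : LocallyOfFinitePresentation (b i ∣_ (e i) ⁻¹ᵁ U) := inferInstance
    have h4 : Flat (e i ∣_ U) := inferInstance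
    have h5 : LocallyOfFinitePresentation (e i ∣_ U) := inferInstance
    rw [morphismRestrict_comp]
    exact ⟨MorphismProperty.comp_mem @Flat _ _ h2 h4,
      MorphismProperty.comp_mem @LocallyOfFinitePresentation _ _ h3 h5⟩
  haveI : Flat (φ ∣_ U) := hloc @Flat fun i => (hpiece i).1
  haveI : LocallyOfFinitePresentation (φ ∣_ U) := hloc @LocallyOfFinitePresentation fun i => (hpiece i).2
  obtain ⟨𝓙, S', b', hb', hadm, hsupp, hflat⟩ := FTMain.exists_flattening φ U hU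
  refine ⟨𝓙, S', b', hb', hadm, hsupp, fun i => ?_⟩
  let T := pullback (e i) b'
  let tf : T ⟶ Si i := pullback.fst (e i) b'
  let ts : T ⟶ S' := pullback.snd (e i) b'
  intro t
  -- the component of the strict transform over `t`
  let P := pullback (b i) tf
  let π : P ⟶ T := pullback.snd (b i) tf
  let Y := pullback φ b'
  let κ : P ⟶ Y := pullback.lift (pullback.fst (b i) tf ≫ Sigma.ι Sst i) (π ≫ ts) (by
    rw [Category.assoc, Category.assoc, Sigma.ι_desc, reassoc_of% (pullback.condition (f := b i) (g := tf))]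
    simp [π, tf, ts, pullback.condition])
  haveI : IsOpenImmersion κ := by
    have h0 : IsPullback (pullback.fst (b i) tf) (π ≫ ts) (b i ≫ e i) b' :=
      (IsPullback.of_hasPullback (b i) tf).paste_vert (IsPullback.of_hasPullback (e i) b')
    have h1 : IsPullback (pullback.fst (b i) tf) κ (Sigma.ι Sst i) (pullback.fst φ b') := by
      have hκ1 : κ ≫ pullback.fst φ b' = pullback.fst (b i) tf ≫ Sigma.ι Sst i := pullback.lift_fst _ _ _
      have hκ2 : κ ≫ pullback.snd φ b' = π ≫ ts := pullback.lift_snd _ _ _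
      refine IsPullback.of_bot ?_ hκ1.symm (IsPullback.of_hasPullback φ b')
      rw [hκ2, Sigma.ι_desc]
      exact h0
    exact MorphismProperty.of_isPullback h1 inferInstance
  let E := 𝓙.comap b'
  have hE : BlowUp.IsEffCartierIdeal E := hb'.1
  let PU : P.Opens := (π ≫ ts ≫ b') ⁻¹ᵁ U
  have hdense : t ∈ π '' closure (PU : Set P) := by
    have hcl : IsClosed (π '' closure (PU : Set P)) := π.isClosedMap _ isClosed_closure
    obtain ⟨W, htW, τ₀, hτ₀, hτE⟩ : ∃ (W : S'.affineOpens), ts t ∈ W.1 ∧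
        ∃ τ₀ ∈ nonZeroDivisors Γ(S', W.1), E.ideal W = Ideal.span {τ₀} := by
      obtain ⟨W, h1, -, τ₀, h2, h3⟩ := EffCartier.exists_equation hE (ts t) ⊤ trivial
      exact ⟨W, h1, τ₀, h2, h3⟩
    obtain ⟨WT, htWT, hWT⟩ := Comap.exists_affine_le t (ts ⁻¹ᵁ W.1) htW
    let τ := ts.appLE W.1 WT.1 hWT τ₀
    have hτ : τ ∈ nonZeroDivisors Γ(T, WT.1) :=
      IdealSh.EffCartier.map_mem_nonZeroDivisors_of_flat _
        (HasRingHomProperty.appLE (P := @Flat) ts inferInstance W WT hWT) hτ₀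
    have hsub : (T.basicOpen τ : Set T) ⊆ π '' closure (PU : Set P) := by
      intro z hz
      rw [SetLike.mem_coe, Scheme.basicOpen_appLE] at hz
      have h4 : ts z ∈ ((E.support : Set S')ᶜ : Set S') := by
        have := (Regular.basicOpen_eq_compl_support hτE).le hz.2
        exact this.2
      have hzU : b' (ts z) ∈ U := by
        rw [Set.mem_compl_iff, Scheme.IdealSheafData.support_comap] at h4
        by_contra hzU
        exact h4 (show b' (ts z) ∈ (𝓙.support : Set S) by rw [hsupp]; exact hzU)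
      have hz' : e i (tf z) = b' (ts z) := by
        rw [← Scheme.Hom.comp_apply, ← Scheme.Hom.comp_apply, pullback.condition]
      haveI := isIso_b U Si e 𝓘 Sst b hb i
      obtain ⟨⟨s, hs⟩, hsz⟩ := (b i ∣_ ((e i) ⁻¹ᵁ U)).homeomorph.surjective
        ⟨tf z, show e i (tf z) ∈ U by rw [hz']; exact hzU⟩
      have hsz' : b i s = tf z := by
        have := congrArg Subtype.val hsz
        simpa using this
      obtain ⟨w, -, hw⟩ := Scheme.Pullback.exists_preimage_pullback s z hsz'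
      refine ⟨w, subset_closure ?_, hw⟩
      show b' (ts (π w)) ∈ U
      rw [show π w = z from hw]; exact hzU
    by_contra ht
    obtain ⟨g, hg, htg⟩ := WT.2.exists_basicOpen_le (V := ⟨_, hcl.isOpen_compl⟩) ⟨t, ht⟩ htWT
    have hemp : T.basicOpen (g * τ) = ⊥ := by
      rw [Scheme.basicOpen_mul, eq_bot_iff]
      exact fun z hz => (hg hz.1 (hsub hz.2)).elim
    have hnil : IsNilpotent (g * τ) := (Scheme.isNilpotent_iff_basicOpen_eq_bot_of_isCompact WT.2.isCompact _).2 hemp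
    obtain ⟨n, hn⟩ := hnil
    rw [mul_pow] at hn
    have hgn : g ^ n = 0 := (mul_right_mem_nonZeroDivisors_eq_zero_iff (pow_mem hτ n)).1 hn
    have : T.basicOpen g = ⊥ := (Scheme.isNilpotent_iff_basicOpen_eq_bot_of_isCompact WT.2.isCompact _).1 ⟨n, hgn⟩
    rw [this] at htg
    exact htg
  obtain ⟨y, hy, hyt⟩ := hdense
  -- a chart of the flattened strict transform at `κ y`
  obtain ⟨W, O, eO, c, hyO, hc, hfl, -⟩ := hflat Y (pullback.fst φ b') (pullback.snd φ b')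
    (IsPullback.of_hasPullback φ b') (κ y)
  have hty : ts t ∈ W.1 := by
    have := eO hyO
    have h3 : pullback.snd φ b' (κ y) = ts t := by
      rw [← Scheme.Hom.comp_apply]
      rw [← hyt, ← Scheme.Hom.comp_apply]
      exact congrArg (fun m : P ⟶ S' => m y) (pullback.lift_snd _ _ _)
    rwa [Scheme.Hom.mem_preimage, h3] at this
  obtain ⟨Ri, htR, -⟩ := Comap.exists_affine_le (tf t) ⊤ trivial
  obtain ⟨WT, htWT, hWT⟩ := Comap.exists_affine_le t (ts ⁻¹ᵁ W.1 ⊓ tf ⁻¹ᵁ Ri.1) ⟨hty, htR⟩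
  obtain ⟨Ws, hys, hWs, a, ha, hEa⟩ := EffCartier.exists_equation (hb i).1.1 (pullback.fst (b i) tf y)
    (b i ⁻¹ᵁ Ri.1) (by
      show b i (pullback.fst (b i) tf y) ∈ Ri.1
      rw [← Scheme.Hom.comp_apply, pullback.condition, Scheme.Hom.comp_apply, show π y = t from hyt]
      exact htR)
  obtain ⟨Q, hyQ, hQ⟩ := Comap.exists_affine_le y
    (κ ⁻¹ᵁ O.1 ⊓ π ⁻¹ᵁ WT.1 ⊓ pullback.fst (b i) tf ⁻¹ᵁ Ws.1)
    ⟨⟨hyO, show π y ∈ WT.1 by rw [hyt]; exact htWT⟩, hys⟩
  have hQO : Q.1 ≤ κ ⁻¹ᵁ O.1 := hQ.trans (inf_le_left.trans inf_le_left)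
  have hQT : Q.1 ≤ π ⁻¹ᵁ WT.1 := hQ.trans (inf_le_left.trans inf_le_right)
  have hQs : Q.1 ≤ pullback.fst (b i) tf ⁻¹ᵁ Ws.1 := hQ.trans inf_le_right
  have hWTW : WT.1 ≤ ts ⁻¹ᵁ W.1 := hWT.trans inf_le_left
  have hWTR : WT.1 ≤ tf ⁻¹ᵁ Ri.1 := hWT.trans inf_le_right
  letI : Algebra Γ(Y, O.1) Γ(P, Q.1) := (κ.appLE O.1 Q.1 hQO).hom.toAlgebra
  letI : Algebra Γ(S', W.1) Γ(Y, O.1) := ((pullback.snd φ b').appLE W.1 O.1 eO).hom.toAlgebra
  letI : Algebra Γ(S', W.1) Γ(T, WT.1) := (ts.appLE W.1 WT.1 hWTW).hom.toAlgebra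
  letI : Algebra Γ(T, WT.1) Γ(P, Q.1) := (π.appLE WT.1 Q.1 hQT).hom.toAlgebra
  letI : Algebra Γ(S', W.1) Γ(P, Q.1) :=
    ((κ.appLE O.1 Q.1 hQO).hom.comp ((pullback.snd φ b').appLE W.1 O.1 eO).hom).toAlgebra
  haveI : IsScalarTower Γ(S', W.1) Γ(Y, O.1) Γ(P, Q.1) := .of_algebraMap_eq' rfl
  haveI : IsScalarTower Γ(S', W.1) Γ(T, WT.1) Γ(P, Q.1) := .of_algebraMap_eq fun z => by
    show κ.appLE O.1 Q.1 hQO ((pullback.snd φ b').appLE W.1 O.1 eO z) = π.appLE WT.1 Q.1 hQT (ts.appLE W.1 WT.1 hWTW z)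
    rw [← CommRingCat.comp_apply, ← CommRingCat.comp_apply, Scheme.Hom.appLE_comp_appLE, Scheme.Hom.appLE_comp_appLE]
    simp only [show κ ≫ pullback.snd φ b' = π ≫ ts from pullback.lift_snd _ _ _]
  haveI : Algebra.Etale Γ(S', W.1) Γ(T, WT.1) :=
    HasRingHomProperty.appLE (P := @Etale) ts inferInstance W WT hWTW
  haveI : Module.Flat Γ(Y, O.1) Γ(P, Q.1) :=
    HasRingHomProperty.appLE (P := @Flat) κ inferInstance O Q hQO
  let C := algebraMap Γ(Y, O.1) Γ(P, Q.1) c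
  obtain ⟨ε⟩ := EtFlat.nonempty_quot_equiv_of_flat (IsBaseChange.linearMap Γ(Y, O.1) Γ(P, Q.1)) c
  let I : Ideal Γ(P, Q.1) := FlatCA.powTorsion Γ(P, Q.1) C Γ(P, Q.1)
  haveI hflI : Module.Flat Γ(S', W.1) (Γ(P, Q.1) ⧸ I) := by
    haveI := hfl
    haveI := FlatMor.FlatAtBC.flat_tensor Γ(S', W.1) Γ(Y, O.1) Γ(P, Q.1)
      (Γ(Y, O.1) ⧸ (FlatCA.powTorsion Γ(Y, O.1) c Γ(Y, O.1) : Ideal Γ(Y, O.1)))
    exact Module.Flat.of_linearEquiv (ε.restrictScalars Γ(S', W.1))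
  haveI : Module.Flat Γ(T, WT.1) (Γ(P, Q.1) ⧸ I) :=
    RingHom.flat_algebraMap_iff.1
      (AlgSp.InfFlat.flat_of_etale_source (IsScalarTower.toAlgHom Γ(S', W.1) Γ(T, WT.1) (Γ(P, Q.1) ⧸ I)))
  -- the exceptional equations on `Q`
  let A₀ := (pullback.fst (b i) tf).appLE Ws.1 Q.1 hQs a
  let Eq : P.IdealSheafData := 𝓙.comap (π ≫ ts ≫ b')
  have hEQ : Eq.ideal Q = Ideal.span {C} := by
    have h3 : π ≫ ts ≫ b' = κ ≫ pullback.fst φ b' ≫ φ := by
      rw [pullback.condition, ← Category.assoc κ, ← Category.assoc π]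
      congr 1
      exact (pullback.lift_snd _ _ _).symm
    show (𝓙.comap (π ≫ ts ≫ b')).ideal Q = _
    rw [h3, Scheme.IdealSheafData.comap_comp, Scheme.IdealSheafData.comap_comp]
    exact Comap.ideal_comap_span_singleton _ κ O Q hQO hc
  have hJQ : (((𝓘 i).comap tf).ideal WT).map (algebraMap Γ(T, WT.1) Γ(P, Q.1)) = Ideal.span {A₀} := by
    rw [show algebraMap Γ(T, WT.1) Γ(P, Q.1) = (π.appLE WT.1 Q.1 hQT).hom from rfl, ← Comap.ideal_comap,
      ← Scheme.IdealSheafData.comap_comp, ← pullback.condition, Scheme.IdealSheafData.comap_comp]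
    exact Comap.ideal_comap_span_singleton _ _ Ws Q hQs hEa
  have hmemE : ∀ z : P, z ∈ Q.1 → (z ∈ P.basicOpen C ↔ z ∈ PU) := fun z hz => by
    rw [← SetLike.mem_coe, Regular.basicOpen_eq_compl_support hEQ]
    show z ∈ (Q.1 : Set P) ∧ z ∉ (Eq.support : Set P) ↔ (π ≫ ts ≫ b') z ∈ U
    rw [Scheme.IdealSheafData.support_comap]
    show z ∈ (Q.1 : Set P) ∧ (π ≫ ts ≫ b') z ∉ (𝓙.support : Set S) ↔ _
    rw [hsupp]
    simp [hz]
  have hCA : P.basicOpen C ≤ P.basicOpen A₀ := by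
    intro z hz
    have hzQ : z ∈ Q.1 := P.basicOpen_le C hz
    have hzU := (hmemE z hzQ).1 hz
    rw [Scheme.basicOpen_appLE]
    refine ⟨hzQ, ?_⟩
    show pullback.fst (b i) tf z ∈ (Sst i).basicOpen a
    rw [← SetLike.mem_coe, Regular.basicOpen_eq_compl_support hEa]
    refine ⟨hQs hzQ, fun hs => ?_⟩
    rw [Scheme.IdealSheafData.support_comap] at hs
    refine Set.disjoint_left.1 (hb i).2.2 hs ?_
    show e i (b i (pullback.fst (b i) tf z)) ∈ U
    have h9 : (pullback.fst (b i) tf ≫ b i) ≫ e i = π ≫ ts ≫ b' := by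
      rw [pullback.condition, Category.assoc]
      exact congrArg (π ≫ ·) pullback.condition
    rw [← Scheme.Hom.comp_apply, ← Scheme.Hom.comp_apply, ← Category.assoc, h9]
    exact hzU
  obtain ⟨n, d, hd⟩ := FlatMain.exists_dvd_pow Q A₀ C hCA
  have hAnz : Ideal.Quotient.mk I A₀ ∈ nonZeroDivisors (Γ(P, Q.1) ⧸ I) := by
    rw [mem_nonZeroDivisors_iff_right]
    intro x hx
    obtain ⟨x, rfl⟩ := Ideal.Quotient.mk_surjective x
    rw [← map_mul, Ideal.Quotient.eq_zero_iff_mem, FittLib.Strict.mem_powTorsion] at hx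
    obtain ⟨m, hm⟩ := hx
    rw [Ideal.Quotient.eq_zero_iff_mem, FittLib.Strict.mem_powTorsion]
    refine ⟨n + m, ?_⟩
    calc C ^ (n + m) * x = d * (C ^ m * (x * A₀)) := by rw [pow_add, hd]; ring
      _ = 0 := by rw [show C ^ m * (x * A₀) = 0 from hm, mul_zero]
  have hJC : (((𝓘 i).comap tf).ideal WT).map (algebraMap Γ(T, WT.1) (Γ(P, Q.1) ⧸ I)) =
      Ideal.span {Ideal.Quotient.mk I A₀} := by
    rw [IsScalarTower.algebraMap_eq Γ(T, WT.1) Γ(P, Q.1) (Γ(P, Q.1) ⧸ I), ← Ideal.map_map, hJQ,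
      Ideal.map_span, Set.image_singleton]
    rfl
  let yQ := Q.2.primeIdealOf ⟨y, hyQ⟩
  have hI : I ≤ yQ.asIdeal := fun x hx => by
    by_contra hxy
    obtain ⟨m, hm⟩ := (FittLib.Strict.mem_powTorsion C x).1 hx
    have hyx : y ∈ P.basicOpen x := (AssSch.Stalk.mem_basicOpen_iff Q.2 y hyQ x).2 hxy
    obtain ⟨z, hz, hzU⟩ := mem_closure_iff.1 hy (P.basicOpen x) (P.basicOpen x).2 hyx
    have hzC : z ∈ P.basicOpen C := (hmemE z (P.basicOpen_le x hz)).2 hzU
    have hm' : C ^ (m + 1) * x = 0 := by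
      rw [pow_succ', mul_assoc, show C ^ m * x = 0 from hm, mul_zero]
    have : z ∈ P.basicOpen (C ^ (m + 1) * x) := by
      rw [Scheme.basicOpen_mul, Scheme.basicOpen_pow _ _ (Nat.succ_pos m)]
      exact ⟨hzC, hz⟩
    rw [hm', Scheme.basicOpen_zero] at this
    exact this
  let pI : Ideal (Γ(P, Q.1) ⧸ I) := yQ.asIdeal.map (Ideal.Quotient.mk I)
  haveI hpI : pI.IsPrime := Ideal.map_isPrime_of_surjective Ideal.Quotient.mk_surjective (by rw [Ideal.mk_ker]; exact hI)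
  have hJfg : (((𝓘 i).comap tf).ideal WT).FG := FinType.comap tf (hb i).2.1 WT
  obtain ⟨β, hβ, h, hh, hgen⟩ := EtFlat.exists_generator _ hJfg hAnz hJC pI
  have hth : t ∈ T.basicOpen h := by
    rw [AssSch.Stalk.mem_basicOpen_iff WT.2 t htWT]
    intro h4
    refine hh ?_
    rw [Ideal.mem_comap, IsScalarTower.algebraMap_apply Γ(T, WT.1) Γ(P, Q.1) (Γ(P, Q.1) ⧸ I)]
    refine Ideal.mem_map_of_mem _ ?_
    by_contra h5
    have h6 : y ∈ P.basicOpen (π.appLE WT.1 Q.1 hQT h) := (AssSch.Stalk.mem_basicOpen_iff Q.2 y hyQ _).2 h5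
    rw [Scheme.basicOpen_appLE] at h6
    have h7 : t ∈ T.basicOpen h := by rw [← hyt]; exact h6.2
    exact (AssSch.Stalk.mem_basicOpen_iff WT.2 t htWT h).1 h7 h4
  let W' : T.affineOpens := T.affineBasicOpen h
  let ρ := T.presheaf.map (homOfLE (T.basicOpen_le h)).op
  have hideal : ((𝓘 i).comap tf).ideal W' = Ideal.span {ρ β} := by
    rw [← Scheme.IdealSheafData.map_ideal _ (U := W') (V := WT) (T.basicOpen_le h)]
    refine le_antisymm (Ideal.map_le_iff_le_comap.2 fun x hx => ?_)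
      ((Ideal.span_singleton_le_iff_mem _).2 (Ideal.mem_map_of_mem _ hβ))
    rw [Ideal.mem_comap]
    have h8 := Ideal.mem_map_of_mem ρ.hom (hgen x hx)
    rw [map_mul, Ideal.map_span, Set.image_singleton] at h8
    exact (Ideal.unit_mul_mem_iff_mem _ (T.toRingedSpace.isUnit_res_basicOpen h)).1 h8
  -- `β` divides a power of the regular equation of the exceptional divisor
  obtain ⟨W₀, hW₀t, hW₀W, τ₀, hτ₀, hτE⟩ := EffCartier.exists_equation hE (ts t) W.1 hty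
  obtain ⟨W₂, htW₂, hW₂⟩ := Comap.exists_affine_le t (W'.1 ⊓ ts ⁻¹ᵁ W₀.1) ⟨hth, hW₀t⟩
  have hW₂' : W₂.1 ≤ W'.1 := hW₂.trans inf_le_left
  have hW₂s : W₂.1 ≤ ts ⁻¹ᵁ W₀.1 := hW₂.trans inf_le_right
  let β₂ := T.presheaf.map (homOfLE hW₂').op (ρ β)
  have hideal₂ : ((𝓘 i).comap tf).ideal W₂ = Ideal.span {β₂} := EffCartier.restrict_eq hW₂' hideal
  let τ := ts.appLE W₀.1 W₂.1 hW₂s τ₀
  have hτ : τ ∈ nonZeroDivisors Γ(T, W₂.1) :=
    IdealSh.EffCartier.map_mem_nonZeroDivisors_of_flat _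
      (HasRingHomProperty.appLE (P := @Flat) ts inferInstance W₀ W₂ hW₂s) hτ₀
  have hτβ : T.basicOpen τ ≤ T.basicOpen β₂ := by
    intro z hz
    rw [← SetLike.mem_coe, Regular.basicOpen_eq_compl_support
      (Comap.ideal_comap_span_singleton E ts W₀ W₂ hW₂s hτE)] at hz
    rw [← SetLike.mem_coe, Regular.basicOpen_eq_compl_support hideal₂]
    refine ⟨hz.1, fun hs => hz.2 ?_⟩
    rw [Scheme.IdealSheafData.support_comap] at hs ⊢
    rw [Scheme.IdealSheafData.support_comap]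
    show b' (ts z) ∈ (𝓙.support : Set S)
    rw [hsupp]
    intro hzU
    refine Set.disjoint_left.1 (hb i).2.2 hs ?_
    show e i (tf z) ∈ U
    rw [← Scheme.Hom.comp_apply, pullback.condition, Scheme.Hom.comp_apply]
    exact hzU
  obtain ⟨m, d', hd'⟩ := FlatMain.exists_dvd_pow W₂ β₂ τ hτβ
  refine ⟨W₂, htW₂, β₂, ?_, hideal₂⟩
  have h10 := pow_mem hτ m
  rw [hd'] at h10
  exact (mul_mem_nonZeroDivisors.1 h10).1

end Groth.Agent.RG.EtCartier
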