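import Groth.Agent.RG.FlatMain
import Groth.Agent.AlgSp.CartierDesc
import Groth.Agent.FDesc.Algebra
import Groth.Agent.FlatMor.FlatAtBC

/-!
# Étale localization of strict transforms: algebra
-/

set_option autoImplicit false
set_option maxHeartbeats 800000

universe u

open TensorProduct FlatMor

namespace Groth.Agent.RG.EtFlat

section Torsion

variable {B B' : Type u} [CommRing B] [CommRing B'] [Algebra B B'] {N N' : Type u} [AddCommGroup N]
  [Module B N] [AddCommGroup N'] [Module B' N'] [Module B N'] [IsScalarTower B B' N'] {φ : N →ₗ[B] N'}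

/-- The strict transform of a base change is the base change of the strict transform, as soon as the
latter has no torsion. -/
theorem nonempty_quot_equiv (hφ : IsBaseChange B' φ) (c : B) (τ : B') (n : ℕ)
    (hdvd : algebraMap B B' c ∣ τ ^ n)
    (hreg : IsSMulRegular (B' ⊗[B] (N ⧸ FlatCA.powTorsion B c N)) τ) :
    Nonempty ((N' ⧸ FlatCA.powTorsion B' τ N') ≃ₗ[B'] B' ⊗[B] (N ⧸ FlatCA.powTorsion B c N)) := by
  let T := FlatCA.powTorsion B c N
  let π₀ : B' ⊗[B] N →ₗ[B'] B' ⊗[B] (N ⧸ T) := T.mkQ.baseChange B'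
  have hπ₀ : Function.Surjective π₀ := LinearMap.lTensor_surjective B' T.mkQ_surjective
  let π : N' →ₗ[B'] B' ⊗[B] (N ⧸ T) := π₀ ∘ₗ hφ.equiv.symm.toLinearMap
  have hπ : Function.Surjective π := hπ₀.comp hφ.equiv.symm.surjective
  have hex : Function.Exact T.subtype T.mkQ := LinearMap.exact_subtype_mkQ T
  have hker : LinearMap.ker π = FlatCA.powTorsion B' τ N' := by
    ext v
    rw [LinearMap.mem_ker, FittLib.Strict.mem_powTorsion]
    constructor
    · intro hv
      obtain ⟨w, hw⟩ := ((lTensor_exact B' hex T.mkQ_surjective) _).1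
        (show T.mkQ.lTensor B' (hφ.equiv.symm v) = 0 from hv)
      have hkill : ∀ w : B' ⊗[B] T, ∃ m : ℕ, τ ^ m • (T.subtype.lTensor B' w) = 0 := by
        intro w
        induction w using TensorProduct.induction_on with
        | zero => exact ⟨0, by simp⟩
        | tmul b k =>
          obtain ⟨m, hm⟩ := (FittLib.Strict.mem_powTorsion c k.1).1 k.2
          obtain ⟨d, hd⟩ := hdvd
          refine ⟨n * m, ?_⟩
          rw [pow_mul, hd, mul_pow, LinearMap.lTensor_tmul, TensorProduct.smul_tmul', smul_eq_mul,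
            Submodule.subtype_apply, mul_assoc, ← map_pow, ← Algebra.smul_def, TensorProduct.smul_tmul, hm,
            TensorProduct.tmul_zero]
        | add x y hx hy =>
          obtain ⟨m, hm⟩ := hx
          obtain ⟨m', hm'⟩ := hy
          refine ⟨m + m', ?_⟩
          rw [map_add, smul_add]
          nth_rw 1 [add_comm m m']
          rw [pow_add, mul_smul, hm, smul_zero, pow_add, mul_smul, hm', smul_zero, add_zero]
      obtain ⟨m, hm⟩ := hkill w
      refine ⟨m, hφ.equiv.symm.injective ?_⟩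
      rw [map_smul, map_zero, ← hw, hm]
    · rintro ⟨m, hm⟩
      exact (hreg.pow m) (show τ ^ m • π v = τ ^ m • (0 : B' ⊗[B] (N ⧸ T)) by
        rw [smul_zero, ← map_smul, hm, map_zero])
  exact ⟨(Submodule.quotEquivOfEq _ _ hker.symm).trans (π.quotKerEquivOfSurjective hπ)⟩

/-- Strict transforms commute with flat base change. -/
theorem nonempty_quot_equiv_of_flat [Module.Flat B B'] (hφ : IsBaseChange B' φ) (τ : B) :
    Nonempty ((N' ⧸ FlatCA.powTorsion B' (algebraMap B B' τ) N') ≃ₗ[B'] B' ⊗[B] (N ⧸ FlatCA.powTorsion B τ N)) := by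
  refine nonempty_quot_equiv hφ τ _ 1 (by rw [pow_one]) ?_
  let T := FlatCA.powTorsion B τ N
  have h : Function.Injective (LinearMap.lsmul B (N ⧸ T) τ) := by
    rw [← LinearMap.ker_eq_bot, LinearMap.ker_eq_bot']
    intro v hv
    obtain ⟨w, rfl⟩ := T.mkQ_surjective v
    have hv' : T.mkQ (τ • w) = 0 := by rw [map_smul]; exact hv
    rw [Submodule.mkQ_apply, Submodule.Quotient.mk_eq_zero, FittLib.Strict.mem_powTorsion] at hv'
    obtain ⟨m, hm⟩ := hv'
    rw [Submodule.mkQ_apply, Submodule.Quotient.mk_eq_zero, FittLib.Strict.mem_powTorsion]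
    exact ⟨m + 1, by rw [pow_succ, mul_smul, hm]⟩
  have h' := Module.Flat.lTensor_preserves_injective_linearMap (M := B') _ h
  have e : ∀ z : B' ⊗[B] (N ⧸ T), (LinearMap.lsmul B (N ⧸ T) τ).lTensor B' z = algebraMap B B' τ • z := by
    intro z
    rw [algebraMap_smul]
    induction z using TensorProduct.induction_on with
    | zero => simp
    | tmul b x => simp [TensorProduct.tmul_smul]
    | add x y hx hy => simp [map_add, hx, hy]
  intro a b hab
  exact h' (by rw [e, e]; exact hab)

end Torsion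

/-- The strict transform after a base change along which the old centre becomes a regular element's
divisor. -/
theorem nonempty_quot_equiv_pushout {As AT Bs B' : Type u} [CommRing As] [CommRing AT] [CommRing Bs] [CommRing B']
    [Algebra As AT] [Algebra As Bs] [Algebra AT B'] [Algebra Bs B'] [Algebra As B']
    [IsScalarTower As AT B'] [IsScalarTower As Bs B'] [Algebra.IsPushout As AT Bs B']
    {N N' : Type u} [AddCommGroup N] [Module Bs N] [Module As N] [IsScalarTower As Bs N]
    [AddCommGroup N'] [Module B' N'] [Module Bs N'] [IsScalarTower Bs B' N']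
    {φ : N →ₗ[Bs] N'} (hφ : IsBaseChange B' φ) (c : Bs) (τ : AT) (hτ : τ ∈ nonZeroDivisors AT) (n : ℕ)
    (hdvd : algebraMap Bs B' c ∣ algebraMap AT B' τ ^ n)
    [Module.Flat As (N ⧸ FlatCA.powTorsion Bs c N)] :
    Module.Flat AT (B' ⊗[Bs] (N ⧸ FlatCA.powTorsion Bs c N)) ∧
    Nonempty ((N' ⧸ FlatCA.powTorsion B' (algebraMap AT B' τ) N') ≃ₗ[B'] B' ⊗[Bs] (N ⧸ FlatCA.powTorsion Bs c N)) := by
  let Q := N ⧸ FlatCA.powTorsion Bs c N
  have hfl : Module.Flat AT (B' ⊗[Bs] Q) :=
    Module.Flat.of_linearEquiv (Algebra.IsPushout.cancelBaseChange As AT Bs B' Q)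
  refine ⟨hfl, nonempty_quot_equiv hφ c _ n hdvd ?_⟩
  intro x y hxy
  have h := Module.Flat.isSMulRegular_of_nonZeroDivisors (M := B' ⊗[Bs] Q) hτ
  refine h ?_
  show τ • x = τ • y
  rw [← algebraMap_smul B' τ x, ← algebraMap_smul B' τ y]
  exact hxy

/-- Flatness over the base at a prime descends along a flat algebra. -/
theorem flatAt_of_flat_tensor {A B B' : Type u} [CommRing A] [CommRing B] [CommRing B'] [Algebra A B]
    [Algebra B B'] [Algebra A B'] [IsScalarTower A B B'] [Module.Flat B B']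
    (Q : Type u) [AddCommGroup Q] [Module B Q] [Module A Q] [IsScalarTower A B Q]
    [Module.Flat A (B' ⊗[B] Q)] (q' : Ideal B') [q'.IsPrime] :
    FlatCA.FlatAt A (q'.comap (algebraMap B B')) Q := by
  let q := q'.comap (algebraMap B B')
  let L := Localization.AtPrime q
  let C := Localization.AtPrime q'
  have hu : ∀ t : q.primeCompl, IsUnit (algebraMap B C t) := fun t => by
    rw [IsScalarTower.algebraMap_apply B B' C]
    exact IsLocalization.map_units C (⟨algebraMap B B' t, t.2⟩ : q'.primeCompl)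
  let ψ : L →+* C := IsLocalization.lift hu
  letI : Algebra L C := ψ.toAlgebra
  haveI : IsScalarTower B L C := .of_algebraMap_eq fun x => (IsLocalization.lift_eq hu x).symm
  haveI : IsScalarTower A L C := .of_algebraMap_eq fun x => by
    rw [IsScalarTower.algebraMap_apply A B L, ← IsScalarTower.algebraMap_apply B L C,
      ← IsScalarTower.algebraMap_apply A B C]
  haveI : Module.Flat B' C := IsLocalization.flat C q'.primeCompl
  haveI : Module.Flat B C := Module.Flat.trans B B' C
  haveI : Module.Flat L C := by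
    rw [Module.flat_iff_of_isLocalization L q.primeCompl]
    infer_instance
  haveI : IsLocalHom (algebraMap L C) := by
    refine ⟨fun z hz => ?_⟩
    obtain ⟨x, s, rfl⟩ := IsLocalization.exists_mk'_eq q.primeCompl z
    rw [IsLocalization.AtPrime.isUnit_mk'_iff]
    intro hx
    have h1 : IsUnit (algebraMap B C x) := by
      have h2 : algebraMap L C (IsLocalization.mk' L x s) * algebraMap B C s = algebraMap B C x := by
        rw [IsScalarTower.algebraMap_apply B L C, IsScalarTower.algebraMap_apply B L C, ← map_mul,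
          IsLocalization.mk'_spec]
      rw [← h2]
      exact hz.mul (hu s)
    rw [IsScalarTower.algebraMap_apply B B' C, IsLocalization.AtPrime.isUnit_to_map_iff C q'] at h1
    exact h1 hx
  haveI : Module.FaithfullyFlat L C := Module.FaithfullyFlat.of_flat_of_isLocalHom
  haveI : Module.Flat A (C ⊗[B'] (B' ⊗[B] Q)) := FlatMor.FlatAtBC.flat_tensor A B' C _
  have e1 : C ⊗[L] LocalizedModule q.primeCompl Q ≃ₗ[C] C ⊗[B'] (B' ⊗[B] Q) :=
    AlgebraTensorModule.congr (LinearEquiv.refl C C) (LocalizedModule.equivTensorProduct q.primeCompl Q) ≪≫ₗ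
      AlgebraTensorModule.cancelBaseChange B L C C Q ≪≫ₗ
      (AlgebraTensorModule.cancelBaseChange B B' C C Q).symm
  haveI : Module.Flat A (C ⊗[L] LocalizedModule q.primeCompl Q) :=
    Module.Flat.of_linearEquiv (e1.restrictScalars A)
  exact FDesc.Algebra.flat_of_faithfullyFlat_baseChange (A := A) (B := L) (C := C)
    (LocalizedModule q.primeCompl Q)

/-- Flatness of a strict transform from flatness of an étale local one. -/
theorem flatAt_main {A' AT As B₀ B Bs B' : Type u} [CommRing A'] [CommRing AT] [CommRing As] [CommRing B₀]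
    [CommRing B] [CommRing Bs] [CommRing B']
    [Algebra B₀ B] [Algebra B₀ Bs] [Algebra B₀ B'] [Algebra B B'] [Algebra Bs B']
    [IsScalarTower B₀ B B'] [IsScalarTower B₀ Bs B']
    [Algebra As AT] [Algebra As Bs] [Algebra AT B'] [Algebra As B'] [IsScalarTower As AT B']
    [IsScalarTower As Bs B'] [Algebra.IsPushout As AT Bs B']
    [Algebra A' AT] [Algebra A' B] [Algebra A' B'] [IsScalarTower A' AT B'] [IsScalarTower A' B B']
    [Module.Flat A' AT] [Module.Flat B B']
    {M N Ns : Type u} [AddCommGroup M] [Module B₀ M] [AddCommGroup N] [Module B N] [Module B₀ N]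
    [IsScalarTower B₀ B N] [Module A' N] [IsScalarTower A' B N] [AddCommGroup Ns] [Module Bs Ns] [Module B₀ Ns]
    [IsScalarTower B₀ Bs Ns] [Module As Ns] [IsScalarTower As Bs Ns]
    {φ : M →ₗ[B₀] N} (hφ : IsBaseChange B φ) {φs : M →ₗ[B₀] Ns} (hφs : IsBaseChange Bs φs)
    (τ : A') (hτ : algebraMap A' AT τ ∈ nonZeroDivisors AT) (c : Bs) (n : ℕ)
    (hdvd : algebraMap Bs B' c ∣ algebraMap A' B' τ ^ n)
    [Module.Flat As (Ns ⧸ FlatCA.powTorsion Bs c Ns)] (q' : Ideal B') [q'.IsPrime] :
    FlatCA.FlatAt A' (q'.comap (algebraMap B B')) (N ⧸ FlatCA.powTorsion B (algebraMap A' B τ) N) := by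
  let N' := B' ⊗[B] N
  haveI : IsScalarTower Bs B' N' := inferInstance
  let φ₀ : N →ₗ[B] N' := TensorProduct.mk B B' N 1
  have hφ₀ : IsBaseChange B' φ₀ := TensorProduct.isBaseChange B N B'
  haveI : IsScalarTower B₀ Bs N' := IsScalarTower.of_algebraMap_smul fun r z => by
    rw [← algebraMap_smul B' (algebraMap B₀ Bs r) z]
    rw [← IsScalarTower.algebraMap_apply B₀ Bs B', algebraMap_smul]
  let ψ : M →ₗ[B₀] N' := φ₀.restrictScalars B₀ ∘ₗ φ
  have hψ : IsBaseChange B' ψ := hφ.comp hφ₀
  let ψs : Ns →ₗ[Bs] N' := hφs.lift ψ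
  have hψs : IsBaseChange B' ψs := hφs.of_comp (h := ψs) (by
    have : ((ψs : Ns →ₗ[B₀] N') ∘ₗ φs) = ψ := LinearMap.ext fun m => hφs.lift_eq ψ m
    rw [this]
    exact hψ)
  obtain ⟨hflT, ⟨ε⟩⟩ := nonempty_quot_equiv_pushout (As := As) (AT := AT) (Bs := Bs) (B' := B') hψs c
    (algebraMap A' AT τ) hτ n (by rwa [← IsScalarTower.algebraMap_apply])
  obtain ⟨ε'⟩ := nonempty_quot_equiv_of_flat hφ₀ (algebraMap A' B τ)
  let τ' := algebraMap AT B' (algebraMap A' AT τ)
  have e1 : FlatCA.powTorsion B' τ' N' = FlatCA.powTorsion B' (algebraMap B B' (algebraMap A' B τ)) N' := by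
    simp only [τ', ← IsScalarTower.algebraMap_apply]
  haveI : Module.Flat A' (B' ⊗[Bs] (Ns ⧸ FlatCA.powTorsion Bs c Ns)) := by
    haveI := hflT
    exact Module.Flat.trans A' AT _
  let Q := N ⧸ FlatCA.powTorsion B (algebraMap A' B τ) N
  let e2 : B' ⊗[Bs] (Ns ⧸ FlatCA.powTorsion Bs c Ns) ≃ₗ[B'] B' ⊗[B] Q :=
    ε.symm ≪≫ₗ Submodule.quotEquivOfEq _ _ e1 ≪≫ₗ ε'
  haveI : Module.Flat A' (B' ⊗[B] Q) := Module.Flat.of_linearEquiv (e2.symm.restrictScalars A')
  exact flatAt_of_flat_tensor Q q'

/-- An ideal becoming principal on a flat algebra is principal near the image. -/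
theorem exists_generator {A C : Type u} [CommRing A] [CommRing C] [Algebra A C] [Module.Flat A C]
    (J : Ideal A) (hJ : J.FG) {a : C} (ha : a ∈ nonZeroDivisors C) (hJC : J.map (algebraMap A C) = Ideal.span {a})
    (P : Ideal C) [P.IsPrime] :
    ∃ b ∈ J, ∃ h : A, h ∉ P.comap (algebraMap A C) ∧ ∀ x ∈ J, h * x ∈ Ideal.span {b} := by
  classical
  obtain ⟨b, hb, u, hu, huP⟩ := AlgSp.CartierDesc.exists_candidate (algebraMap A C) J ha hJC P
  let q := P.comap (algebraMap A C)
  have key : ∀ x ∈ J, ∃ h : A, h ∉ q ∧ h * x ∈ Ideal.span {b} := by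
    intro x hx
    by_contra hall
    push Not at hall
    let K : Ideal A := Submodule.comap (LinearMap.mulRight A x) (Ideal.span {b})
    have hK : K ≤ q := fun h hh => by
      by_contra hq
      exact hall h hq hh
    -- flatness: the colon ideal commutes with extension
    obtain ⟨d, hd⟩ : ∃ d, algebraMap A C x * u = d * algebraMap A C b := by
      have hx' : algebraMap A C x ∈ Ideal.span {a} := hJC ▸ Ideal.mem_map_of_mem _ hx
      obtain ⟨d, hd⟩ := Ideal.mem_span_singleton'.1 hx'
      exact ⟨d, by rw [← hd, hu]; ring⟩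
    let μ : A →ₗ[A] A ⧸ Ideal.span {b} := (Ideal.span {b}).mkQ ∘ₗ LinearMap.mulRight A x
    have hμ : LinearMap.ker μ = K := by
      rw [LinearMap.ker_comp, Submodule.ker_mkQ]
    have hex : Function.Exact (K.subtype.lTensor C) (μ.lTensor C) :=
      Module.Flat.lTensor_exact C (LinearMap.exact_iff.2 (by rw [hμ, Submodule.range_subtype]))
    have h0 : μ.lTensor C (u ⊗ₜ[A] (1 : A)) = 0 := by
      rw [LinearMap.lTensor_tmul]
      show u ⊗ₜ[A] (Submodule.Quotient.mk ((1 : A) * x) : A ⧸ Ideal.span {b}) = 0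
      have h1 : (Submodule.Quotient.mk ((1 : A) * x) : A ⧸ Ideal.span {b}) = x • Submodule.Quotient.mk 1 := by
        rw [← Submodule.Quotient.mk_smul, smul_eq_mul, one_mul, mul_one]
      have h2 : (b • (Submodule.Quotient.mk 1 : A ⧸ Ideal.span {b})) = 0 := by
        rw [← Submodule.Quotient.mk_smul, Submodule.Quotient.mk_eq_zero, smul_eq_mul, mul_one]
        exact Ideal.mem_span_singleton_self b
      rw [h1, ← TensorProduct.smul_tmul, Algebra.smul_def, hd, mul_comm, ← Algebra.smul_def,
        TensorProduct.smul_tmul, h2, TensorProduct.tmul_zero]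
    obtain ⟨w, hw⟩ := (hex _).1 h0
    have hmem : ∀ w : C ⊗[A] K, TensorProduct.rid A C (K.subtype.lTensor C w) ∈ K.map (algebraMap A C) := by
      intro w
      induction w using TensorProduct.induction_on with
      | zero => simp
      | tmul c k =>
        simp only [LinearMap.lTensor_tmul, Submodule.subtype_apply, TensorProduct.rid_tmul, Algebra.smul_def]
        exact Ideal.mul_mem_right _ _ (Ideal.mem_map_of_mem _ k.2)
      | add w w' hw hw' => rw [map_add, map_add]; exact add_mem hw hw'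
    have h3 : u ∈ K.map (algebraMap A C) := by
      have := hmem w
      rwa [hw, TensorProduct.rid_tmul, one_smul] at this
    exact huP (Ideal.map_le_iff_le_comap.2 hK h3)
  obtain ⟨T, hT⟩ := hJ
  choose h hh hmem using fun x : T => key x.1 (hT ▸ Ideal.subset_span x.2)
  refine ⟨b, hb, ∏ x : T, h x, fun hp => ?_, fun x hx => ?_⟩
  · obtain ⟨y, -, hy⟩ := (Ideal.IsPrime.prod_mem_iff (p := q)).1 hp
    exact hh y hy
  · rw [← hT] at hx
    induction hx using Submodule.span_induction with
    | mem a ha' =>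
      rw [← Finset.mul_prod_erase _ _ (Finset.mem_univ (⟨a, ha'⟩ : T)), mul_comm (h _), mul_assoc]
      exact Ideal.mul_mem_left _ _ (hmem ⟨a, ha'⟩)
    | zero => rw [mul_zero]; exact zero_mem _
    | add a c _ _ iha ihc => rw [mul_add]; exact add_mem iha ihc
    | smul c a _ iha => rw [smul_eq_mul, mul_left_comm]; exact Ideal.mul_mem_left _ _ iha

end Groth.Agent.RG.EtFlat
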