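import Groth.Agent.RG.GoodRing
import Mathlib.RingTheory.LocalProperties.FinitePresentation
import Mathlib.RingTheory.Flat.Localization

/-!
# Algebra for flattening on charts

* `flat_fp_baseChange`: the base change of a module which is flat and finitely presented away from
  the zero locus of `t` is so after inverting `t`.
* `of_good`: goodness on a chart gives the properties of the strict transform.
-/

set_option autoImplicit false
set_option maxHeartbeats 800000
set_option linter.style.haveILetI false

universe u

open TensorProduct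

attribute [local instance] Algebra.TensorProduct.rightAlgebra

namespace Groth.Agent.RG.FlatAlg

variable {R B A₀ : Type u} [CommRing R] [CommRing B] [CommRing A₀] [Algebra R B] [Algebra R A₀]
  (Mv : Type u) [AddCommGroup Mv] [Module B Mv] [Module R Mv] [IsScalarTower R B Mv]

/-- A localization of a base change which factors through a localization of the source. -/
theorem flat_tensor_of_flat_localized (r : R) (L : Type u) [CommRing L] [Algebra R L]
    (hr : IsUnit (algebraMap R L r))
    (hfl : Module.Flat R (LocalizedModule (Submonoid.powers r) Mv)) : Module.Flat L (L ⊗[R] Mv) := by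
  let Rr := Localization.Away r
  letI : Algebra Rr L := (IsLocalization.Away.lift r hr).toAlgebra
  haveI : IsScalarTower R Rr L :=
    IsScalarTower.of_algebraMap_eq fun a => (IsLocalization.Away.lift_eq r hr a).symm
  have h1 : Module.Flat Rr (LocalizedModule (Submonoid.powers r) Mv) :=
    (Module.flat_iff_of_isLocalization Rr (Submonoid.powers r) _).2 hfl
  haveI : Module.Flat Rr (Rr ⊗[R] Mv) :=
    Module.Flat.of_linearEquiv (LocalizedModule.equivTensorProduct (Submonoid.powers r) Mv).symm
  exact Module.Flat.of_linearEquiv (AlgebraTensorModule.cancelBaseChange R Rr L L Mv).symm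

/-- A localization of a base change which factors through a localization of the source. -/
theorem fp_tensor_of_fp_localized (b : B) (L : Type u) [CommRing L] [Algebra B L]
    (hb : IsUnit (algebraMap B L b))
    (hfp : Module.FinitePresentation (Localization.Away b) (LocalizedModule (Submonoid.powers b) Mv)) :
    Module.FinitePresentation L (L ⊗[B] Mv) := by
  let Bb := Localization.Away b
  letI : Algebra Bb L := (IsLocalization.Away.lift b hb).toAlgebra
  haveI : IsScalarTower B Bb L :=
    IsScalarTower.of_algebraMap_eq fun a => (IsLocalization.Away.lift_eq b hb a).symm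
  haveI : Module.FinitePresentation Bb (Bb ⊗[B] Mv) := by
    haveI := hfp
    exact Module.FinitePresentation.of_equiv (LocalizedModule.equivTensorProduct (Submonoid.powers b) Mv)
  haveI : Module.FinitePresentation L (L ⊗[Bb] (Bb ⊗[B] Mv)) :=
    FinitePresentation.of_isBaseChange (TensorProduct.mk Bb L _ 1) (TensorProduct.isBaseChange _ _ _)
  exact Module.FinitePresentation.of_equiv (AlgebraTensorModule.cancelBaseChange B Bb L L Mv)

/-- Finite presentation of a localized module through the tensor product. -/
theorem fp_localized_of_fp_tensor {A : Type u} [CommRing A] (g : A) (W : Type u) [AddCommGroup W] [Module A W]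
    (h : Module.FinitePresentation (Localization.Away g) (Localization.Away g ⊗[A] W)) :
    Module.FinitePresentation (Localization.Away g) (LocalizedModule (Submonoid.powers g) W) := by
  haveI := h
  exact Module.FinitePresentation.of_equiv (LocalizedModule.equivTensorProduct (Submonoid.powers g) W).symm

/-- Flatness is local on a cover of `D(t)` for modules on which `t` is bijective. -/
theorem flat_of_cover {A : Type u} [CommRing A] (W : Type u) [AddCommGroup W] [Module A W] (t : A)
    (hbij : ∀ k : ℕ, Function.Bijective (fun w : W => t ^ k • w)) (s : Set A) {n : ℕ}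
    (hs : t ^ n ∈ Ideal.span s)
    (h : ∀ r ∈ s, Module.Flat A (LocalizedModule (Submonoid.powers r) W)) : Module.Flat A W := by
  rw [Module.Flat.iff_rTensor_injective]
  intro I _
  rw [injective_iff_map_eq_zero]
  intro z hz
  let ann : Ideal A := LinearMap.ker (LinearMap.toSpanSingleton A _ z)
  have hrad : Ideal.span s ≤ ann.radical := by
    refine Ideal.span_le.2 fun r hr => ?_
    obtain ⟨k, hk⟩ := ValFlat.exists_pow_smul_eq_zero (t := r) (h r hr) I z hz
    exact ⟨k, hk⟩
  obtain ⟨m, hm⟩ := hrad hs
  let e := (LinearEquiv.ofBijective (LinearMap.lsmul A W (t ^ (n * m))) (hbij _)).lTensor I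
  have he : ∀ w, e w = t ^ (n * m) • w := fun w => by
    induction w using TensorProduct.induction_on with
    | zero => simp
    | tmul x y => simp [e]
    | add a b ha hb => simp only [map_add, smul_add, ha, hb]
  apply e.injective
  rw [map_zero, he, pow_mul]
  exact hm

set_option backward.isDefEq.respectTransparency false in
/-- Flat and finitely presented away from the zero locus of `t`. -/
theorem flat_fp_baseChange (t : A₀) (s : Set R) {n : ℕ}
    (hs : t ^ n ∈ Ideal.span (algebraMap R A₀ '' s))
    (hfl : ∀ r ∈ s, Module.Flat R (LocalizedModule (Submonoid.powers r) Mv))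
    (hfp : ∀ r ∈ s, Module.FinitePresentation (Localization.Away (algebraMap R B r))
      (LocalizedModule (Submonoid.powers (algebraMap R B r)) Mv)) :
    Module.Flat A₀ (LocalizedModule (Submonoid.powers t) ((A₀ ⊗[R] B) ⊗[B] Mv)) ∧
      Module.FinitePresentation (Localization.Away (algebraMap A₀ (A₀ ⊗[R] B) t))
        (LocalizedModule (Submonoid.powers (algebraMap A₀ (A₀ ⊗[R] B) t)) ((A₀ ⊗[R] B) ⊗[B] Mv)) := by
  classical
  let B₀ := A₀ ⊗[R] B
  let M := B₀ ⊗[B] Mv
  constructor
  · let W := LocalizedModule (Submonoid.powers t) M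
    let mu : M ≃ₗ[A₀] A₀ ⊗[R] Mv := Algebra.IsPushout.cancelBaseChange R A₀ B B₀ Mv
    have hWr : ∀ r ∈ s, Module.Flat A₀ (LocalizedModule (Submonoid.powers (algebraMap R A₀ r)) W) := by
      intro r hr
      let Lr := Localization.Away (algebraMap R A₀ r)
      let Lt := Localization (Submonoid.powers t)
      have h1 : Module.Flat Lr (Lr ⊗[R] Mv) :=
        flat_tensor_of_flat_localized Mv r Lr (by
          rw [IsScalarTower.algebraMap_apply R A₀ Lr]
          exact IsLocalization.Away.algebraMap_isUnit _) (hfl r hr)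
      haveI : Module.Flat A₀ Lr := IsLocalization.flat Lr (Submonoid.powers (algebraMap R A₀ r))
      haveI : Module.Flat A₀ Lt := IsLocalization.flat Lt (Submonoid.powers t)
      haveI : Module.Flat A₀ (Lr ⊗[R] Mv) := by
        haveI := h1
        exact Module.Flat.trans A₀ Lr _
      haveI : Module.Flat A₀ (Lr ⊗[A₀] M) :=
        Module.Flat.of_linearEquiv (((TensorProduct.congr (LinearEquiv.refl A₀ Lr) mu).trans
          ((AlgebraTensorModule.cancelBaseChange R A₀ A₀ Lr Mv).restrictScalars A₀)))
      let eW : W ≃ₗ[A₀] Lt ⊗[A₀] M :=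
        (LocalizedModule.equivTensorProduct (Submonoid.powers t) M).restrictScalars A₀
      exact Module.Flat.of_linearEquiv
        ((((LocalizedModule.equivTensorProduct (Submonoid.powers (algebraMap R A₀ r)) W).restrictScalars A₀).trans
          (TensorProduct.congr (LinearEquiv.refl A₀ Lr) eW)).trans (TensorProduct.leftComm A₀ Lr Lt M))
    exact flat_of_cover W t (fun k => (Module.End.isUnit_iff _).1 (IsLocalizedModule.map_units
        (LocalizedModule.mkLinearMap (Submonoid.powers t) M) (⟨t ^ k, k, rfl⟩ : Submonoid.powers t)))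
      (algebraMap R A₀ '' s) hs (by rintro _ ⟨r, hr, rfl⟩; exact hWr r hr)
  · let tB := algebraMap A₀ B₀ t
    let Bt := Localization.Away tB
    let WB := LocalizedModule (Submonoid.powers tB) M
    let S' : Set Bt := (fun r => algebraMap B₀ Bt (algebraMap A₀ B₀ (algebraMap R A₀ r))) '' s
    have hS' : Ideal.span S' = ⊤ := by
      have hu : IsUnit (algebraMap B₀ Bt (algebraMap A₀ B₀ (t ^ n))) := by
        rw [map_pow, map_pow]; exact (IsLocalization.Away.algebraMap_isUnit tB).pow n
      refine Ideal.eq_top_of_isUnit_mem _ ?_ hu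
      have : (Ideal.span (algebraMap R A₀ '' s)).map ((algebraMap B₀ Bt).comp (algebraMap A₀ B₀)) ≤ Ideal.span S' := by
        rw [Ideal.map_span, ← Set.image_comp]; rfl
      exact this (Ideal.mem_map_of_mem _ hs)
    refine @Module.FinitePresentation.of_localizationSpan Bt _ WB _ _ S' hS' ?_
    rintro ⟨g, r, hr, rfl⟩
    dsimp only
    let g := algebraMap B₀ Bt (algebraMap A₀ B₀ (algebraMap R A₀ r))
    let P := Localization.Away g
    have hunit : IsUnit (algebraMap B P (algebraMap R B r)) := by
      have hgr : algebraMap B B₀ (algebraMap R B r) = algebraMap A₀ B₀ (algebraMap R A₀ r) := by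
        show (1 : A₀) ⊗ₜ[R] algebraMap R B r = algebraMap R A₀ r ⊗ₜ[R] (1 : B)
        rw [Algebra.algebraMap_eq_smul_one, TensorProduct.tmul_smul, TensorProduct.smul_tmul',
          ← Algebra.algebraMap_eq_smul_one]
      rw [IsScalarTower.algebraMap_apply B Bt P, IsScalarTower.algebraMap_apply B B₀ Bt]
      rw [hgr]
      exact IsLocalization.Away.algebraMap_isUnit g
    haveI : Module.FinitePresentation P (P ⊗[B] Mv) :=
      fp_tensor_of_fp_localized Mv (algebraMap R B r) P hunit (hfp r hr)
    let e₁ : Bt ⊗[B] Mv ≃ₗ[Bt] WB :=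
      (AlgebraTensorModule.cancelBaseChange B B₀ Bt Bt Mv).symm.trans
        (LocalizedModule.equivTensorProduct (Submonoid.powers tB) M).symm
    let e₂ : P ⊗[B] Mv ≃ₗ[P] P ⊗[Bt] WB :=
      (AlgebraTensorModule.cancelBaseChange B Bt P P Mv).symm.trans
        (AlgebraTensorModule.congr (LinearEquiv.refl P P) e₁)
    exact fp_localized_of_fp_tensor g WB (Module.FinitePresentation.of_equiv (M := P ⊗[B] Mv) (N := P ⊗[Bt] WB) e₂)

open GoodRing ValStage in
/-- From goodness to the strict transform on a chart. -/
theorem of_good (t : A₀) {G C : Type u} [CommRing G] [CommRing C] [Algebra A₀ G] [Algebra R G]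
    [IsScalarTower R A₀ G] [Algebra G C] [Algebra B C] [Algebra R C] [IsScalarTower R G C]
    [IsScalarTower R B C] [Algebra.IsPushout R G B C] (N' : Type u) [AddCommGroup N'] [Module C N']
    [Module B N'] [IsScalarTower B C N'] [Module G N'] [IsScalarTower G C N'] (g : Mv →ₗ[B] N')
    (hg : IsBaseChange C g)
    (h : Good (B₀ := A₀ ⊗[R] B) t ((A₀ ⊗[R] B) ⊗[B] Mv) G) :
    Module.Flat G (N' ⧸ FlatCA.powTorsion C (algebraMap G C (algebraMap A₀ G t)) N') ∧
      Module.FinitePresentation C (N' ⧸ FlatCA.powTorsion C (algebraMap G C (algebraMap A₀ G t)) N') := by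
  classical
  let B₀ := A₀ ⊗[R] B
  let M := B₀ ⊗[B] Mv
  letI : Algebra A₀ C := ((algebraMap G C).comp (algebraMap A₀ G)).toAlgebra
  haveI : IsScalarTower A₀ G C := IsScalarTower.of_algebraMap_eq fun _ => rfl
  haveI : IsScalarTower R A₀ C := IsScalarTower.of_algebraMap_eq fun a => by
    show _ = algebraMap G C (algebraMap A₀ G (algebraMap R A₀ a))
    rw [← IsScalarTower.algebraMap_apply R A₀ G, ← IsScalarTower.algebraMap_apply R G C]
  let φ : B₀ →ₐ[A₀] C := Algebra.TensorProduct.lift (Algebra.ofId A₀ C) (IsScalarTower.toAlgHom R B C)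
    (fun _ _ => Commute.all _ _)
  letI : Algebra B₀ C := φ.toRingHom.toAlgebra
  haveI : IsScalarTower A₀ B₀ C := IsScalarTower.of_algebraMap_eq fun a => (φ.commutes a).symm
  haveI : IsScalarTower B B₀ C := IsScalarTower.of_algebraMap_eq fun b => by
    show _ = φ ((1 : A₀) ⊗ₜ b)
    rw [Algebra.TensorProduct.lift_tmul, map_one, one_mul]; rfl
  haveI : IsScalarTower R B₀ C := IsScalarTower.of_algebraMap_eq fun a => by
    rw [IsScalarTower.algebraMap_apply R B C, IsScalarTower.algebraMap_apply B B₀ C,
      ← IsScalarTower.algebraMap_apply R B B₀]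
  haveI : Algebra.IsPushout A₀ G B₀ C := (Algebra.IsPushout.comp_iff (R := R) (S := A₀) (R' := B)
    (S' := B₀) (T := G) (T' := C)).1 inferInstance
  let S := G ⊗[A₀] B₀
  let e : S ≃ₐ[G] C := Algebra.IsPushout.equiv A₀ G B₀ C
  have he : ∀ (x : G) (b : B₀), e (x ⊗ₜ b) = algebraMap G C x * algebraMap B₀ C b := fun x b => by
    show (Algebra.IsPushout.out (R := A₀) (S := G) (R' := B₀) (S' := C)).equiv (x ⊗ₜ b) = _
    rw [IsBaseChange.equiv_tmul, Algebra.smul_def]
    rfl
  -- `N'` over `B₀`
  letI : Module B₀ N' := Module.compHom N' (algebraMap B₀ C)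
  haveI : IsScalarTower B₀ C N' := IsScalarTower.of_algebraMap_smul fun _ _ => rfl
  haveI : IsScalarTower B B₀ N' := IsScalarTower.of_algebraMap_smul fun b x => by
    show algebraMap B₀ C (algebraMap B B₀ b) • x = b • x
    rw [← IsScalarTower.algebraMap_apply B B₀ C, algebraMap_smul]
  let g₁ : M →ₗ[B₀] N' := g.liftBaseChange B₀
  have hg₁ : IsBaseChange C g₁ := by
    refine IsBaseChange.of_comp (TensorProduct.isBaseChange B Mv B₀) ?_
    convert hg using 1
    refine LinearMap.ext fun m => ?_
    simp [g₁]
  let eB : S ≃ₗ[B₀] C :=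
    { e.toRingEquiv.toAddEquiv with
      map_smul' := fun b s => by
        show e (b • s) = b • e s
        rw [Algebra.smul_def, Algebra.smul_def, map_mul]
        congr 1
        show e ((1 : G) ⊗ₜ b) = _
        rw [he, map_one, one_mul] }
  let ε : ValStage.N (A₀ := A₀) (B₀ := B₀) M G ≃ₗ[B₀] N' :=
    (eB.rTensor M).trans (hg₁.equiv.restrictScalars B₀)
  have hε : ∀ (s : S) (m : M), ε (s ⊗ₜ m) = e s • g₁ m := fun s m => by
    simp [ε, IsBaseChange.equiv_tmul]; rfl
  have hεs : ∀ (s : S) (x : ValStage.N (A₀ := A₀) (B₀ := B₀) M G), ε (s • x) = e s • ε x := by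
    intro s x
    induction x using TensorProduct.induction_on with
    | zero => simp
    | tmul r m => rw [TensorProduct.smul_tmul', hε, hε, smul_eq_mul, map_mul, mul_smul]
    | add a b ha hb => simp only [smul_add, map_add, ha, hb]
  letI : Algebra S C := e.toRingEquiv.toRingHom.toAlgebra
  letI : Module S N' := Module.compHom N' e.toRingEquiv.toRingHom
  haveI : IsScalarTower S C N' := IsScalarTower.of_algebraMap_smul fun _ _ => rfl
  let εS : ValStage.N (A₀ := A₀) (B₀ := B₀) M G ≃ₗ[S] N' :=
    { ε.toAddEquiv with map_smul' := hεs }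
  let tC := algebraMap G C (algebraMap A₀ G t)
  let tS := algebraMap A₀ S t
  have htS : e tS = tC := by
    show e (algebraMap A₀ S t) = _
    rw [IsScalarTower.algebraMap_apply A₀ G S, AlgEquiv.commutes]
  let T := FlatCA.powTorsion S tS (ValStage.N (A₀ := A₀) (B₀ := B₀) M G)
  let T' := FlatCA.powTorsion C tC N'
  have hT : ∀ x, x ∈ T ↔ εS x ∈ T' := fun x => by
    rw [FittLib.Strict.mem_powTorsion, FittLib.Strict.mem_powTorsion]
    refine exists_congr fun k => ?_
    show _ ↔ tC ^ k • ε x = 0
    rw [← htS, show e tS ^ k = e (tS ^ k) from (map_pow e tS k).symm, ← hεs,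
      LinearEquiv.map_eq_zero_iff]
  let q : ValStage.N (A₀ := A₀) (B₀ := B₀) M G →ₗ[S] N' ⧸ T' :=
    (T'.mkQ.restrictScalars S) ∘ₗ εS.toLinearMap
  have hq : LinearMap.ker q = T := by
    ext x
    rw [hT x]
    simp only [LinearMap.mem_ker, q, LinearMap.comp_apply]
    exact Submodule.Quotient.mk_eq_zero T'
  let eQ : (ValStage.N (A₀ := A₀) (B₀ := B₀) M G ⧸ T) ≃ₗ[S] N' ⧸ T' :=
    (Submodule.quotEquivOfEq _ _ hq.symm).trans
      (LinearMap.quotKerEquivOfSurjective q (T'.mkQ_surjective.comp εS.surjective))
  obtain ⟨hfl, hfp⟩ := h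
  constructor
  · let eG : (ValStage.N (A₀ := A₀) (B₀ := B₀) M G ⧸ T) ≃ₗ[G] N' ⧸ T' :=
      { eQ.toAddEquiv with
        map_smul' := fun c x => by
          show eQ (c • x) = c • eQ x
          rw [← algebraMap_smul S c x, map_smul]
          generalize eQ x = y
          obtain ⟨y, rfl⟩ := Submodule.Quotient.mk_surjective _ y
          show Submodule.Quotient.mk (e (algebraMap G S c) • y) = Submodule.Quotient.mk (c • y)
          rw [AlgEquiv.commutes, algebraMap_smul] }
    haveI := hfl
    exact Module.Flat.of_linearEquiv eG.symm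
  · haveI := hfp
    haveI : Module.FinitePresentation S (N' ⧸ T') := Module.FinitePresentation.of_equiv eQ
    refine FinitePresentation.of_isBaseChange (R := S)
      (LinearMap.id (R := S) (M := N' ⧸ T')) ?_
    refine IsBaseChange.of_equiv (LinearEquiv.ofBijective
      ((LinearMap.id (R := S) (M := N' ⧸ T')).liftBaseChange C) ?_) fun x => by
        rw [LinearEquiv.ofBijective_apply]; simp
    have hsurj : ∀ z : C ⊗[S] (N' ⧸ T'), ∃ y, z = 1 ⊗ₜ y := fun z => by
      induction z using TensorProduct.induction_on with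
      | zero => exact ⟨0, by simp⟩
      | tmul c y =>
        obtain ⟨s, rfl⟩ := e.toRingEquiv.surjective c
        refine ⟨s • y, ?_⟩
        show algebraMap S C s ⊗ₜ[S] y = _
        rw [Algebra.algebraMap_eq_smul_one]
        exact TensorProduct.smul_tmul s (1 : C) y
      | add a b ha hb =>
        obtain ⟨x, rfl⟩ := ha
        obtain ⟨y, rfl⟩ := hb
        exact ⟨x + y, by rw [TensorProduct.tmul_add]⟩
    refine ⟨fun a b hab => ?_, fun y => ⟨1 ⊗ₜ y, by simp⟩⟩
    obtain ⟨x, rfl⟩ := hsurj a
    obtain ⟨y, rfl⟩ := hsurj b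
    simp only [LinearMap.liftBaseChange_tmul, one_smul, LinearMap.id_apply] at hab
    rw [hab]

end Groth.Agent.RG.FlatAlg
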