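import Groth.Agent.RG.Stages
import Groth.Agent.RG.FlatAlg
import Groth.Agent.FlatSect.Basic
import Groth.Agent.Props.QApproxMain
import Groth.Agent.LimTop.ModSys

/-!
# Flattening over one affine piece
-/

set_option autoImplicit false
set_option maxHeartbeats 800000
set_option linter.style.haveILetI false

universe u

open AlgebraicGeometry CategoryTheory TopologicalSpace
open Groth.Agent.IdealSh

attribute [local instance] Algebra.TensorProduct.rightAlgebra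

namespace Groth.Agent.RG.FlatPiece

variable {X S S₁ : Scheme.{u}} (f : X ⟶ S) (b₁ : S₁ ⟶ S) (F : X.Modules) (R : S.affineOpens)
  (V : X.affineOpens) (e : V.1 ≤ f ⁻¹ᵁ R.1)

/-- Goodness on an affine piece. -/
def GoodPiece (W₀ : S₁.affineOpens) (eW₀ : W₀.1 ≤ b₁ ⁻¹ᵁ R.1) (t : Γ(S₁, W₀.1)) {T : Scheme.{u}}
    (g : T ⟶ S₁) (W : T.affineOpens) (eW : W.1 ≤ g ⁻¹ᵁ W₀.1) : Prop :=
  letI : Algebra Γ(S, R.1) Γ(X, V.1) := (f.appLE R.1 V.1 e).hom.toAlgebra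
  letI : Algebra Γ(S, R.1) Γ(S₁, W₀.1) := (b₁.appLE R.1 W₀.1 eW₀).hom.toAlgebra
  letI : Module Γ(S, R.1) Γ(F, V.1) := Module.compHom _ (f.appLE R.1 V.1 e).hom
  haveI : IsScalarTower Γ(S, R.1) Γ(X, V.1) Γ(F, V.1) := IsScalarTower.of_algebraMap_smul fun _ _ => rfl
  Stages.GoodAt (B₀ := TensorProduct Γ(S, R.1) Γ(S₁, W₀.1) Γ(X, V.1)) W₀ t
    (TensorProduct Γ(X, V.1) (TensorProduct Γ(S, R.1) Γ(S₁, W₀.1) Γ(X, V.1)) Γ(F, V.1)) g W eW

variable [LocallyOfFinitePresentation f] (U : S.Opens)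
  [F.IsQuasicoherent] [Module.Finite Γ(X, V.1) Γ(F, V.1)]
  (hfpU : Props.QApprox.FPOn F (f ⁻¹ᵁ U)) (hflU : ∀ x : X, f.base x ∈ U → FlatMod.IsFlatOverAt f F x)

include hflU in
/-- Sections are flat away from the bad locus. -/
theorem flat_localized (r : Γ(S, R.1)) (hr : S.basicOpen r ≤ U) :
    letI : Module Γ(S, R.1) Γ(F, V.1) := Module.compHom _ (f.appLE R.1 V.1 e).hom
    Module.Flat Γ(S, R.1) (LocalizedModule (Submonoid.powers r) Γ(F, V.1)) := by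
  letI : Algebra Γ(S, R.1) Γ(X, V.1) := (f.appLE R.1 V.1 e).hom.toAlgebra
  letI : Module Γ(S, R.1) Γ(F, V.1) := Module.compHom _ (f.appLE R.1 V.1 e).hom
  haveI : IsScalarTower Γ(S, R.1) Γ(X, V.1) Γ(F, V.1) := IsScalarTower.of_algebraMap_smul fun _ _ => rfl
  let a := f.appLE R.1 V.1 e r
  have hle : X.basicOpen a ≤ f ⁻¹ᵁ S.basicOpen r := by
    rw [Scheme.basicOpen_appLE]; exact inf_le_right
  let eR : X.basicOpen a ≤ f ⁻¹ᵁ R.1 := (X.basicOpen_le a).trans e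
  have hflat : letI : Module Γ(S, R.1) Γ(F, X.basicOpen a) := Module.compHom _ (f.appLE R.1 (X.basicOpen a) eR).hom
      Module.Flat Γ(S, R.1) Γ(F, X.basicOpen a) :=
    FlatSect.flat_sections_of_isFlatOverAt f R.2 (V.2.basicOpen a) eR F fun x hx => hflU x (hr (hle hx))
  letI : Module Γ(S, R.1) Γ(F, X.basicOpen a) := Module.compHom _ (f.appLE R.1 (X.basicOpen a) eR).hom
  letI := LimTop.resModule F a
  haveI : IsScalarTower Γ(S, R.1) Γ(X, V.1) Γ(F, X.basicOpen a) := IsScalarTower.of_algebraMap_smul fun c m => by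
    show QCoh.rres (X.basicOpen_le a) (f.appLE R.1 V.1 e c) • m = f.appLE R.1 (X.basicOpen a) eR c • m
    congr 1
    rw [← Scheme.Hom.appLE_map (f := f) e (homOfLE (X.basicOpen_le a)).op]
    rfl
  haveI : IsLocalizedModule (Submonoid.powers (algebraMap Γ(S, R.1) Γ(X, V.1) r)) (LimTop.resLin F a) :=
    LimTop.isLocalizedModule_resLin F V.2 a
  haveI := IsLocalizedModule.restrictScalars_powers (R := Γ(S, R.1)) r (LimTop.resLin F a)
  haveI : Module.Flat Γ(S, R.1) Γ(F, X.basicOpen a) := hflat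
  exact Module.Flat.of_linearEquiv
    (IsLocalizedModule.iso (Submonoid.powers r) ((LimTop.resLin F a).restrictScalars Γ(S, R.1)))

include hfpU in
/-- Sections are finitely presented away from the bad locus. -/
theorem fp_localized (r : Γ(S, R.1)) (hr : S.basicOpen r ≤ U) :
    Module.FinitePresentation (Localization.Away (f.appLE R.1 V.1 e r))
      (LocalizedModule (Submonoid.powers (f.appLE R.1 V.1 e r)) Γ(F, V.1)) := by
  let a := f.appLE R.1 V.1 e r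
  have hle : X.basicOpen a ≤ f ⁻¹ᵁ U := by
    rw [Scheme.basicOpen_appLE]; exact inf_le_right.trans (f.preimage_mono hr)
  haveI hfp : Module.FinitePresentation Γ(X, X.basicOpen a) Γ(F, X.basicOpen a) :=
    hfpU _ (V.2.basicOpen a) hle
  letI := LimTop.resModule F a
  letI : Algebra Γ(X, V.1) Γ(X, X.basicOpen a) := (QCoh.rres (X.basicOpen_le a)).hom.toAlgebra
  haveI : IsLocalization (Submonoid.powers a) Γ(X, X.basicOpen a) := (V.2.isLocalization_basicOpen a : IsLocalization.Away a _)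
  haveI : IsLocalizedModule (Submonoid.powers a) (LimTop.resLin F a) := LimTop.isLocalizedModule_resLin F V.2 a
  let L := Localization.Away a
  let σ : L ≃ₐ[Γ(X, V.1)] Γ(X, X.basicOpen a) :=
    IsLocalization.algEquiv (Submonoid.powers a) L Γ(X, X.basicOpen a)
  letI : Module L Γ(F, X.basicOpen a) := Module.compHom _ σ.toRingEquiv.toRingHom
  haveI : IsScalarTower Γ(X, V.1) L Γ(F, X.basicOpen a) := IsScalarTower.of_algebraMap_smul fun c m => by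
    haveI : IsScalarTower Γ(X, V.1) Γ(X, X.basicOpen a) Γ(F, X.basicOpen a) :=
      IsScalarTower.of_algebraMap_smul fun _ _ => rfl
    show σ (algebraMap Γ(X, V.1) L c) • m = c • m
    rw [AlgEquiv.commutes, algebraMap_smul]
  haveI : Module.FinitePresentation L Γ(F, X.basicOpen a) :=
    Props.QTilde.finitePresentation_of_ringEquiv (M := Γ(F, X.basicOpen a)) σ.toRingEquiv fun c m => rfl
  let ε := (IsLocalizedModule.iso (Submonoid.powers a) (LimTop.resLin F a)).extendScalarsOfIsLocalization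
    (Submonoid.powers a) L
  exact @Module.FinitePresentation.of_equiv L Γ(F, X.basicOpen a)
    (LocalizedModule (Submonoid.powers a) Γ(F, V.1)) _ _ _ _ _ ε.symm inferInstance

variable [CompactSpace S₁] [QuasiSeparatedSpace S₁] (D : S₁.IdealSheafData)
  (hD : BlowUp.IsEffCartierIdeal D) (hDft : BlowUp.IsFiniteTypeIdeal D)
  (hDU : (D.support : Set S₁) = (((b₁ ⁻¹ᵁ U) : S₁.Opens) : Set S₁)ᶜ)

include hfpU hflU hD hDft hDU in
/-- One admissible ideal for a small chart. -/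
theorem exists_ideal_small (hU : IsCompact ((b₁ ⁻¹ᵁ U : S₁.Opens) : Set S₁)) (W₀ : S₁.affineOpens)
    (eW₀ : W₀.1 ≤ b₁ ⁻¹ᵁ R.1) (t : Γ(S₁, W₀.1)) (ht : D.ideal W₀ = Ideal.span {t}) :
    ∃ K : Stages.Idx (b₁ ⁻¹ᵁ U), ∀ (T : Scheme.{u}) (g : T ⟶ S₁),
      BlowUp.IsEffCartierIdeal ((D * K.val).comap g) → ∀ x, g x ∈ W₀.1 →
        ∃ (W : T.affineOpens) (eW : W.1 ≤ g ⁻¹ᵁ W₀.1), x ∈ W.1 ∧ GoodPiece f b₁ F R V e W₀ eW₀ t g W eW := by
  letI : Algebra Γ(S, R.1) Γ(X, V.1) := (f.appLE R.1 V.1 e).hom.toAlgebra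
  letI : Algebra Γ(S, R.1) Γ(S₁, W₀.1) := (b₁.appLE R.1 W₀.1 eW₀).hom.toAlgebra
  letI : Module Γ(S, R.1) Γ(F, V.1) := Module.compHom _ (f.appLE R.1 V.1 e).hom
  haveI : IsScalarTower Γ(S, R.1) Γ(X, V.1) Γ(F, V.1) := IsScalarTower.of_algebraMap_smul fun _ _ => rfl
  haveI : Algebra.FinitePresentation Γ(S, R.1) Γ(X, V.1) :=
    HasRingHomProperty.appLE (P := @LocallyOfFinitePresentation) f inferInstance R V e
  let s : Set Γ(S, R.1) := {r | S.basicOpen r ≤ U}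
  obtain ⟨n, hn⟩ : t ∈ (Ideal.span (algebraMap Γ(S, R.1) Γ(S₁, W₀.1) '' s)).radical := by
    rw [Ideal.radical_eq_sInf, Submodule.mem_sInf]
    rintro q ⟨hq, hqp⟩
    by_contra htq
    let p : PrimeSpectrum Γ(S₁, W₀.1) := ⟨q, hqp⟩
    let y : S₁ := W₀.2.fromSpec p
    have hy : y ∈ S₁.basicOpen t := by
      have : p ∈ W₀.2.fromSpec ⁻¹ᵁ S₁.basicOpen t := by
        rw [W₀.2.fromSpec_preimage_basicOpen]; exact htq
      exact this
    have hy' : y ∈ (W₀.1 : Set S₁) \ (D.support : Set S₁) := by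
      rw [← Regular.basicOpen_eq_compl_support ht]; exact hy
    have hyU : b₁ y ∈ U := by
      have h2 := hy'.2
      rw [hDU] at h2
      exact not_not.1 h2
    obtain ⟨r, hrU, hyr⟩ := R.2.exists_basicOpen_le (V := U) ⟨b₁ y, hyU⟩ (eW₀ hy'.1)
    have h3 : y ∈ S₁.basicOpen (b₁.appLE R.1 W₀.1 eW₀ r) := by
      rw [Scheme.basicOpen_appLE]; exact ⟨hy'.1, hyr⟩
    have h4 : p ∈ W₀.2.fromSpec ⁻¹ᵁ S₁.basicOpen (b₁.appLE R.1 W₀.1 eW₀ r) := h3
    rw [W₀.2.fromSpec_preimage_basicOpen] at h4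
    exact h4 (hq (Ideal.subset_span ⟨r, hrU, rfl⟩))
  obtain ⟨hfl, hfp⟩ := FlatAlg.flat_fp_baseChange (A₀ := Γ(S₁, W₀.1)) (B := Γ(X, V.1)) Γ(F, V.1) t s hn
    (fun r hr => flat_localized f F R V e U hflU r hr)
    (fun r hr => fp_localized f F R V e U hfpU r hr)
  obtain ⟨𝓚, hK, h⟩ := Stages.exists_flattening
    (B₀ := TensorProduct Γ(S, R.1) Γ(S₁, W₀.1) Γ(X, V.1)) W₀ t
    (TensorProduct Γ(X, V.1) (TensorProduct Γ(S, R.1) Γ(S₁, W₀.1) Γ(X, V.1)) Γ(F, V.1)) D ht hD hDft hDU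
    hU hfl hfp
  exact ⟨⟨𝓚, hK⟩, fun T g hg x hx => h T g hg x hx⟩

include hfpU hflU hD hDft hDU in
/-- One admissible ideal for an affine piece. -/
theorem exists_ideal [QuasiCompact b₁] (hU : IsCompact ((b₁ ⁻¹ᵁ U : S₁.Opens) : Set S₁)) :
    ∃ K : Stages.Idx (b₁ ⁻¹ᵁ U), ∀ (T : Scheme.{u}) (g : T ⟶ S₁),
      BlowUp.IsEffCartierIdeal ((D * K.val).comap g) → ∀ x, b₁ (g x) ∈ R.1 →
        ∃ (W₀ : S₁.affineOpens) (eW₀ : W₀.1 ≤ b₁ ⁻¹ᵁ R.1) (t : Γ(S₁, W₀.1)),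
          D.ideal W₀ = Ideal.span {t} ∧ ∃ (W : T.affineOpens) (eW : W.1 ≤ g ⁻¹ᵁ W₀.1),
            x ∈ W.1 ∧ GoodPiece f b₁ F R V e W₀ eW₀ t g W eW := by
  classical
  have hch : ∀ y : (b₁ ⁻¹ᵁ R.1 : S₁.Opens), ∃ W₀ : S₁.affineOpens, (y : S₁) ∈ W₀.1 ∧ W₀.1 ≤ b₁ ⁻¹ᵁ R.1 ∧
      ∃ t, D.ideal W₀ = Ideal.span {t} := fun y => by
    obtain ⟨W₀, h1, h2, t, -, h3⟩ := EffCartier.exists_equation hD y.1 (b₁ ⁻¹ᵁ R.1) y.2
    exact ⟨W₀, h1, h2, t, h3⟩
  choose W₀ hy hW₀ t ht using hch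
  obtain ⟨σ, hσ⟩ := (b₁.isCompact_preimage R.2.isCompact).elim_finite_subcover
    (fun y : (b₁ ⁻¹ᵁ R.1 : S₁.Opens) => ((W₀ y).1 : Set S₁)) (fun y => (W₀ y).1.isOpen)
    (fun y hy' => Set.mem_iUnion.2 ⟨⟨y, hy'⟩, hy ⟨y, hy'⟩⟩)
  choose K hK using fun y : (b₁ ⁻¹ᵁ R.1 : S₁.Opens) =>
    exists_ideal_small f b₁ F R V e U hfpU hflU D hD hDft hDU hU (W₀ y) (hW₀ y) (t y) (ht y)
  refine ⟨⟨∏ y ∈ σ, (K y).val, FinType.admissible_prod _ _ σ fun y => (K y).prop⟩, fun T g hg x hx => ?_⟩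
  obtain ⟨y, hyσ, hxy⟩ := Set.mem_iUnion₂.1 (hσ hx)
  have hg' : BlowUp.IsEffCartierIdeal ((D * (K y).val).comap g) := by
    have hmul := (Finset.mul_prod_erase σ (fun y => (K y).val) hyσ).symm
    have hg2 : BlowUp.IsEffCartierIdeal ((D * ∏ y ∈ σ, (K y).val).comap g) := hg
    rw [hmul, ← mul_assoc, Comap.comap_mul] at hg2
    exact EffCartier.factor_left hg2
  obtain ⟨W, eW, hxW, hgood⟩ := hK y T g hg' x hxy
  exact ⟨W₀ y, hW₀ y, t y, ht y, W, eW, hxW, hgood⟩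

end Groth.Agent.RG.FlatPiece
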