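import Groth.Agent.RG.FreeBlow
import Groth.Prelude.Def_FlatCA
import Mathlib.RingTheory.LocalRing.Module

/-!
# Making a module free at the generic points of the fibres by blowing up

The contents of the Fitting ideals, twisted by an element killing the lower ones, give for every
prime `p` outside the bad locus an ideal of the base, not contained in `p`, whose blow-up makes the
strict transform free near the generic points of all fibres of the corresponding chart.
-/

set_option autoImplicit false
set_option maxHeartbeats 1600000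
set_option backward.isDefEq.respectTransparency false

universe u

open TensorProduct FlatMor

namespace Groth.Agent.RG.GenFree

/-- A finitely presented module over a local ring whose maximal ideal comes from the base and which
is flat over the base is free. -/
theorem free_of_flat_of_map_eq {R L : Type u} [CommRing R] [CommRing L] [IsLocalRing L] [Algebra R L]
    (p : Ideal R) (hp : p.map (algebraMap R L) = IsLocalRing.maximalIdeal L)
    (N : Type u) [AddCommGroup N] [Module L N] [Module R N] [IsScalarTower R L N]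
    [Module.FinitePresentation L N] [Module.Flat R N] : Module.Free L N := by
  refine Module.free_of_maximalIdeal_rTensor_injective (R := L) (M := N) ?_
  let m := IsLocalRing.maximalIdeal L
  let ι : p →ₗ[R] m := LinearMap.codRestrict (m.restrictScalars R)
    ((Algebra.linearMap R L) ∘ₗ p.subtype) fun a => by
      show algebraMap R L a ∈ m
      rw [show m = p.map (algebraMap R L) from hp.symm]
      exact Ideal.mem_map_of_mem _ a.2
  let Φ : p ⊗[R] N →ₗ[R] m ⊗[L] N :=
    TensorProduct.lift (LinearMap.mk₂ R (fun (a : p) (x : N) => ι a ⊗ₜ[L] x)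
      (fun a b x => by rw [map_add, TensorProduct.add_tmul])
      (fun c a x => by rw [LinearMap.map_smul, TensorProduct.smul_tmul'])
      (fun a x y => by rw [TensorProduct.tmul_add])
      (fun c a x => by rw [TensorProduct.tmul_smul]))
  let ν : m ⊗[L] N →ₗ[L] N := (TensorProduct.lid L N).toLinearMap ∘ₗ m.subtype.rTensor N
  have hinj : Function.Injective ((ν.restrictScalars R) ∘ₗ Φ) := by
    have e : (ν.restrictScalars R) ∘ₗ Φ = (TensorProduct.lid R N).toLinearMap ∘ₗ p.subtype.rTensor N := by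
      refine TensorProduct.ext' fun a x => ?_
      simp [Φ, ν, ι, m]
      exact algebraMap_smul L _ _
    rw [e]
    exact (TensorProduct.lid R N).injective.comp
      (Module.Flat.rTensor_preserves_injective_linearMap _ p.injective_subtype)
  have hsurj : Function.Surjective Φ := by
    intro z
    induction z using TensorProduct.induction_on with
    | zero => exact ⟨0, map_zero _⟩
    | add z z' hz hz' =>
      obtain ⟨v, rfl⟩ := hz
      obtain ⟨v', rfl⟩ := hz'
      exact ⟨v + v', map_add _ _ _⟩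
    | tmul a x =>
      obtain ⟨a, ha⟩ := a
      have ha' : a ∈ Submodule.span L (algebraMap R L '' (p : Set R)) := by
        show a ∈ p.map (algebraMap R L)
        rw [hp]; exact ha
      induction ha' using Submodule.span_induction generalizing x with
      | mem a h =>
        obtain ⟨c, hc, rfl⟩ := h
        exact ⟨(⟨c, hc⟩ : p) ⊗ₜ x, rfl⟩
      | zero => exact ⟨0, (map_zero Φ).trans (TensorProduct.zero_tmul _ _).symm⟩
      | add a b h h' iha ihb =>
        have hb : ∀ c ∈ Submodule.span L (algebraMap R L '' (p : Set R)), c ∈ m := fun c hc => by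
          rw [show m = p.map (algebraMap R L) from hp.symm]; exact hc
        obtain ⟨v, hv⟩ := iha x (hb a h)
        obtain ⟨v', hv'⟩ := ihb x (hb b h')
        exact ⟨v + v', by rw [map_add, hv, hv', ← TensorProduct.add_tmul]; rfl⟩
      | smul c a h iha =>
        have ha'' : a ∈ m := by
          rw [show m = p.map (algebraMap R L) from hp.symm]; exact h
        obtain ⟨v, hv⟩ := iha (c • x) ha''
        exact ⟨v, by rw [hv, ← TensorProduct.smul_tmul]; rfl⟩
  have hν : Function.Injective ν := fun z z' h => by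
    obtain ⟨v, rfl⟩ := hsurj z
    obtain ⟨v', rfl⟩ := hsurj z'
    exact congrArg Φ (hinj h)
  exact Function.Injective.of_comp (f := TensorProduct.lid L N) hν

variable {R S : Type u} [CommRing R] [CommRing S] [Algebra R S]

/-- The ideal `c` frees the strict transform of `M` near the generic points of the fibres, wherever
it generates a principal ideal spanned by a regular element. -/
def Good (R S : Type u) [CommRing R] [CommRing S] [Algebra R S] (M : Type u) [AddCommGroup M]
    [Module S M] (c : Ideal R) : Prop :=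
  ∀ (R' : Type u) [CommRing R'] [Algebra R R'] (α : R'), α ∈ nonZeroDivisors R' →
    c.map (algebraMap R R') = Ideal.span {α} →
    ∀ (S' M' : Type u) [CommRing S'] [Algebra S S'] [Algebra R' S'] [Algebra R S'] [IsScalarTower R S S']
      [IsScalarTower R R' S'] [Algebra.IsPushout R S R' S']
      [AddCommGroup M'] [Module S' M'] [Module S M'] [IsScalarTower S S' M']
      (φ : M →ₗ[S] M'), IsBaseChange S' φ →
      ∀ (p' : Ideal R') [p'.IsPrime],
        ∃ g : S', g ∉ p'.map (algebraMap R' S') ∧
          Module.Free (Localization.Away g)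
            (LocalizedModule (Submonoid.powers g) (M' ⧸ FlatCA.powTorsion S' (algebraMap R' S' α) M'))

variable [Algebra.FinitePresentation R S] [Module.Flat R S]

omit [Algebra.FinitePresentation R S] [Module.Flat R S] in
/-- Extensions of primes lie over them. -/
theorem mem_of_mem_map (hdom : ∀ (K : Type u) [Field K] [Algebra R K], IsDomain (K ⊗[R] S))
    (A S' : Type u) [CommRing A] [CommRing S'] [Algebra R A] [Algebra A S'] [Algebra S S']
    [Algebra R S'] [IsScalarTower R A S'] [IsScalarTower R S S'] [Algebra.IsPushout R S A S']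
    (P : Ideal A) [P.IsPrime] {a : A} (h : algebraMap A S' a ∈ P.map (algebraMap A S')) : a ∈ P := by
  have : Algebra.IsPushout R A S S' := Algebra.IsPushout.symm inferInstance
  let K := P.ResidueField
  have := hdom K
  let inK : A →ₐ[R] K ⊗[R] S :=
    (Algebra.TensorProduct.includeLeft).comp (IsScalarTower.toAlgHom R A K)
  let ψ : S' →ₐ[R] K ⊗[R] S := Algebra.pushoutDesc S' inK Algebra.TensorProduct.includeRight
    (fun x y => mul_comm _ _)
  have hψ : ∀ x : A, ψ (algebraMap A S' x) = inK x := fun x => Algebra.pushoutDesc_left _ _ _ _ _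
  have h1 : P.map (algebraMap A S') ≤ RingHom.ker ψ.toRingHom := by
    rw [Ideal.map_le_iff_le_comap]
    intro x hx
    show ψ (algebraMap A S' x) = 0
    rw [hψ]
    show (algebraMap A K x) ⊗ₜ[R] (1 : S) = 0
    rw [Ideal.algebraMap_residueField_eq_zero.2 hx, TensorProduct.zero_tmul]
  have h2 : ψ (algebraMap A S' a) = 0 := h1 h
  rw [hψ] at h2
  have h3 : algebraMap K (K ⊗[R] S) (algebraMap A K a) = 0 := h2
  rwa [map_eq_zero_iff _ (algebraMap K (K ⊗[R] S)).injective,
    Ideal.algebraMap_residueField_eq_zero] at h3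

/-- For each prime outside the bad locus there is a good ideal not contained in it. -/
theorem exists_good (hdom : ∀ (K : Type u) [Field K] [Algebra R K], IsDomain (K ⊗[R] S))
    (M : Type u) [AddCommGroup M] [Module S M] [Module R M] [IsScalarTower R S M] [Module.Finite S M]
    (f : R)
    (hfp : Module.FinitePresentation (Localization.Away (algebraMap R S f))
      (LocalizedModule (Submonoid.powers (algebraMap R S f)) M))
    (p : Ideal R) [p.IsPrime] (hfp' : f ∉ p)
    (hflat : ∀ [(p.map (algebraMap R S)).IsPrime],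
      Module.Flat R (LocalizedModule (p.map (algebraMap R S)).primeCompl M)) :
    ∃ c : Ideal R, c.FG ∧ ¬ c ≤ p ∧ c ≤ Ideal.span {f} ∧ Good R S M c := by
  classical
  haveI hpr := RG.FreeBlow.isPrime_map hdom R S p
  have hnot : ∀ a : R, a ∉ p → algebraMap R S a ∉ p.map (algebraMap R S) := fun a ha hf =>
    ha (mem_of_mem_map hdom R S p hf)
  obtain ⟨M₂, _, _, _, q, hq, hker⟩ := RG.FreeBlow.exists_fp_cover (algebraMap R S f) M hfp
  let W := (p.map (algebraMap R S)).primeCompl
  let L := Localization.AtPrime (p.map (algebraMap R S))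
  letI : Module R M₂ := Module.compHom M₂ (algebraMap R S)
  haveI : IsScalarTower R S M₂ := IsScalarTower.of_algebraMap_smul fun _ _ => rfl
  -- `M₂` is free at the generic point of the fibre
  let qW := IsLocalizedModule.mapExtendScalars W (LocalizedModule.mkLinearMap W M₂)
    (LocalizedModule.mkLinearMap W M) L q
  have hsurj : Function.Surjective qW :=
    IsLocalizedModule.map_surjective W (LocalizedModule.mkLinearMap W M₂) _ q hq
  have hinj : Function.Injective qW := by
    rw [← LinearMap.ker_eq_bot, LinearMap.ker_eq_bot']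
    intro v hv
    obtain ⟨⟨w, s⟩, hw⟩ := IsLocalizedModule.surj W (LocalizedModule.mkLinearMap W M₂) v
    have h1 : LocalizedModule.mkLinearMap W M (q w) = 0 := by
      rw [← IsLocalizedModule.map_apply W (LocalizedModule.mkLinearMap W M₂) _ q, ← hw]
      show qW (s • v) = 0
      rw [Submonoid.smul_def, ← algebraMap_smul L, map_smul, hv, smul_zero]
    obtain ⟨u, hu⟩ := IsLocalizedModule.exists_of_eq (S := W)
      (f := LocalizedModule.mkLinearMap W M) (x₁ := q w) (x₂ := 0) (by rw [h1, map_zero])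
    rw [smul_zero, Submonoid.smul_def, ← map_smul] at hu
    obtain ⟨m, hm⟩ := hker _ hu
    let t : W := ⟨algebraMap R S f ^ m * u, W.mul_mem (W.pow_mem (hnot f hfp') m) u.2⟩
    have h2 : (t * s) • v = 0 := by
      rw [mul_smul, hw, Submonoid.smul_def, ← map_smul]
      show LocalizedModule.mkLinearMap W M₂ ((algebraMap R S f ^ m * (u : S)) • w) = 0
      rw [mul_smul, hm, map_zero]
    exact ((IsLocalizedModule.map_units (LocalizedModule.mkLinearMap W M₂) (t * s)) |>
      (Module.End.isUnit_iff _).1).1 (by simpa [Submonoid.smul_def, smul_smul, mul_comm] using h2)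
  let εW := LinearEquiv.ofBijective qW ⟨hinj, hsurj⟩
  haveI : Module.Flat R (LocalizedModule W M₂) := by
    haveI := @hflat hpr
    exact Module.Flat.of_linearEquiv (εW.restrictScalars R)
  haveI : Module.FinitePresentation L (LocalizedModule W M₂) :=
    FinitePresentation.of_isBaseChange (LocalizedModule.mkLinearMap W M₂)
      ((isLocalizedModule_iff_isBaseChange W L (LocalizedModule.mkLinearMap W M₂)).1 inferInstance)
  have hmax : p.map (algebraMap R L) = IsLocalRing.maximalIdeal L := by
    rw [IsScalarTower.algebraMap_eq R S L, ← Ideal.map_map]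
    exact IsLocalization.AtPrime.map_eq_maximalIdeal (p.map (algebraMap R S)) L
  haveI := free_of_flat_of_map_eq p hmax (LocalizedModule W M₂)
  let r := Module.finrank L (LocalizedModule W M₂)
  let b : Module.Basis (Fin r) L (LocalizedModule W M₂) := Module.finBasis L (LocalizedModule W M₂)
  -- an element killing the lower Fitting ideals
  have hkill1 : ∀ j, j < r → ∀ d ∈ Fitt.ideal S M₂ j, ∃ h : R, h ∉ p ∧ h • d = 0 := by
    intro j hj d hd
    have h0 := FittLib.ideal_eq_bot_of_basis b hj
    rw [show Fitt.ideal L (LocalizedModule W M₂) j =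
        (Fitt.ideal S M₂ j).map (algebraMap S L) from FittLib.ideal_localizedModule _ _] at h0
    have := Ideal.mem_map_of_mem (algebraMap S L) hd
    rw [h0, Ideal.mem_bot, IsLocalization.map_eq_zero_iff W] at this
    obtain ⟨g, hg⟩ := this
    exact RG.FreeBlow.exists_smul_eq_zero hdom hg p g.2
  have hkillJ : ∀ j, j < r → ∃ h : R, h ∉ p ∧ ∀ d ∈ Fitt.ideal S M₂ j, h • d = 0 := by
    intro j hj
    obtain ⟨T, hT⟩ := FittLib.ideal_eq_G_rel (R := S) (M := M₂) j
    choose h hhp hhd using fun d : T => hkill1 j hj d.1 (by rw [← hT]; exact Submodule.subset_span d.2)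
    refine ⟨∏ d : T, h d, fun hmem => ?_, fun d hd => ?_⟩
    · obtain ⟨d, -, hd⟩ := (Ideal.IsPrime.prod_mem_iff (p := p)).1 hmem
      exact hhp d hd
    · rw [← hT] at hd
      induction hd using Submodule.span_induction with
      | mem a ha =>
        rw [← Finset.mul_prod_erase _ _ (Finset.mem_univ (⟨a, ha⟩ : T)), mul_comm, mul_smul]
        show _ • h ⟨a, ha⟩ • a = 0
        rw [hhd ⟨a, ha⟩, smul_zero]
      | zero => exact smul_zero _
      | add a b _ _ iha ihb => rw [smul_add, iha, ihb, add_zero]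
      | smul c a _ iha => rw [smul_comm, iha, smul_zero]
  choose h hhp hhd using fun j : Fin r => hkillJ j.1 j.2
  let g₀ : R := f * ∏ j : Fin r, h j
  have hg₀ : g₀ ∉ p := fun hmem => (‹p.IsPrime›.mem_or_mem hmem).elim hfp' fun hm => by
    obtain ⟨j, -, hj⟩ := (Ideal.IsPrime.prod_mem_iff (p := p)).1 hm
    exact hhp j hj
  let fS := algebraMap R S g₀
  have hker' : ∀ v, q v = 0 → ∃ m : ℕ, fS ^ m • v = 0 := fun v hv => by
    obtain ⟨m, hm⟩ := hker v hv
    refine ⟨m, ?_⟩
    simp only [fS, g₀, map_mul, mul_pow]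
    rw [mul_comm, mul_smul, hm, smul_zero]
  have hbot : ∀ j, j < r → ∀ d ∈ Fitt.ideal S M₂ j, ∃ m : ℕ, fS ^ m * d = 0 := fun j hj d hd => by
    refine ⟨1, ?_⟩
    rw [pow_one, ← Algebra.smul_def]
    show (f * ∏ i : Fin r, h i) • d = 0
    rw [← Finset.mul_prod_erase _ _ (Finset.mem_univ (⟨j, hj⟩ : Fin r)), ← mul_assoc, mul_comm f,
      mul_assoc, mul_comm, mul_smul, hhd ⟨j, hj⟩ d hd, smul_zero]
  obtain ⟨G, hG⟩ : (Ideal.span {fS} * Fitt.ideal S M₂ r).FG :=
    (Submodule.fg_span_singleton fS).mul (FittLib.ideal_eq_G_rel r)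
  choose c hc using fun j : G => RG.ContentExists.exists_content hdom (j : S)
  let I : Ideal R := ⨆ j : G, c j
  have hle : ∀ (B : Type u) [CommRing B] [Algebra R B] (J : Ideal B),
      (∀ j : G, RG.Content.Vanishes R S (j : S) (B ⧸ J)) → I.map (algebraMap R B) ≤ J := by
    intro B _ _ J h
    rw [Ideal.map_le_iff_le_comap]
    refine iSup_le fun j a ha => ?_
    have h1 := ((hc j).2 _ (Algebra.ofId R (B ⧸ J))).1 (h j)
    have h2 := Ideal.mem_map_of_mem (Algebra.ofId R (B ⧸ J)) ha
    rw [h1, Ideal.mem_bot] at h2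
    rw [Ideal.mem_comap, ← Ideal.Quotient.eq_zero_iff_mem]
    exact h2
  have hGS : ∀ j : G, (j : S) ∈ I.map (algebraMap R S) := fun j =>
    Ideal.map_mono (le_iSup c j) (RG.FreeBlow.mem_map_of_isContent (hc j))
  refine ⟨I, Submodule.fg_iSup c fun j => (hc j).1, fun hIp => ?_, ?_, ?_⟩
  · have hJ : Ideal.span {fS} * Fitt.ideal S M₂ r ≤ Ideal.map (algebraMap R S) p := by
      rw [← hG, Submodule.span_le]
      exact fun j hj => Ideal.map_mono hIp (hGS ⟨j, hj⟩)
    have hF : Fitt.ideal S M₂ r ≤ Ideal.map (algebraMap R S) p :=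
      ((Ideal.IsPrime.mul_le hpr).1 hJ).resolve_left fun h' =>
        hnot g₀ hg₀ (h' (Ideal.mem_span_singleton_self fS))
    have h0 := FittLib.ideal_eq_top b b.span_eq (le_refl r)
    rw [show Fitt.ideal L (LocalizedModule W M₂) r =
      (Fitt.ideal S M₂ r).map (algebraMap S L) from FittLib.ideal_localizedModule _ _] at h0
    refine (IsLocalization.map_algebraMap_ne_top_iff_disjoint W L _).2
      (Set.disjoint_left.2 ?_) h0
    exact fun x hx hxF => hx (hF hxF)
  · rw [← Ideal.map_id I]
    refine hle R (Ideal.span {f}) fun j => ?_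
    have hjG : (j : S) ∈ Ideal.span {fS} * Fitt.ideal S M₂ r := by
      rw [← hG]; exact Submodule.subset_span j.2
    obtain ⟨s, -, hs⟩ := Ideal.mem_span_singleton_mul.1 hjG
    show (1 : R ⧸ Ideal.span {f}) ⊗ₜ[R] (j : S) = 0
    rw [← hs, ← Algebra.smul_def, ← TensorProduct.smul_tmul, ← Algebra.algebraMap_eq_smul_one,
      show algebraMap R (R ⧸ Ideal.span {f}) g₀ = 0 from Ideal.Quotient.eq_zero_iff_mem.2
        (Ideal.mem_span_singleton'.2 ⟨∏ j : Fin r, h j, mul_comm _ _⟩), TensorProduct.zero_tmul]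
  intro R' _ _ α hα hIR' S' M' _ _ _ _ _ _ _ _ _ _ _ φ hφ p' _
  have : Algebra.IsPushout R R' S S' := Algebra.IsPushout.symm inferInstance
  let t : S' := algebraMap R' S' α
  have htα : t = algebraMap R' S' α := rfl
  have : Module.Flat R' S' :=
    Module.Flat.of_linearEquiv (Algebra.IsPushout.equiv R R' S S').toLinearEquiv.symm
  have htnz : t ∈ nonZeroDivisors S' := by
    rw [htα]
    exact IdealSh.EffCartier.map_mem_nonZeroDivisors_of_flat (algebraMap R' S')
      (RingHom.flat_algebraMap_iff.2 inferInstance) hα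
  have hdiv : ∀ j : G, ∃ y : S', algebraMap S S' (j : S) = t * y := fun j => by
    have h := Ideal.mem_map_of_mem (algebraMap S S') (hGS j)
    rw [Ideal.map_map, ← IsScalarTower.algebraMap_eq, IsScalarTower.algebraMap_eq R R' S',
      ← Ideal.map_map, hIR', Ideal.map_span, Set.image_singleton, Ideal.mem_span_singleton] at h
    obtain ⟨y, hy⟩ := h
    exact ⟨y, hy.trans (by rw [htα])⟩
  choose y hy using hdiv
  let P := p'.map (algebraMap R' S')
  have hP : P.IsPrime := RG.FreeBlow.isPrime_map hdom R' S' p'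
  obtain ⟨j₀, hj₀⟩ : ∃ j₀ : G, y j₀ ∉ P := by
    by_contra hall
    push Not at hall
    let B := R' ⧸ (Ideal.span {α} * p')
    let inR : R' →ₐ[R] B ⊗[R] S :=
      (Algebra.TensorProduct.includeLeft).comp (Ideal.Quotient.mkₐ R _)
    let ψ : S' →ₐ[R] B ⊗[R] S := Algebra.pushoutDesc S' inR Algebra.TensorProduct.includeRight
      (fun x y => by
        show ((Ideal.Quotient.mk (Ideal.span {α} * p') x : B) ⊗ₜ[R] (1 : S)) * ((1 : B) ⊗ₜ[R] y) =
          ((1 : B) ⊗ₜ[R] y) * ((Ideal.Quotient.mk (Ideal.span {α} * p') x : B) ⊗ₜ[R] (1 : S))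
        rw [Algebra.TensorProduct.tmul_mul_tmul, Algebra.TensorProduct.tmul_mul_tmul, one_mul, mul_one,
          one_mul, mul_one])
    have hψ : ∀ j : G, RG.Content.Vanishes R S (j : S) B := fun j => by
      show (1 : B) ⊗ₜ[R] (j : S) = 0
      have h1 : ψ (algebraMap S S' (j : S)) = (1 : B) ⊗ₜ[R] (j : S) :=
        Algebra.pushoutDesc_right _ _ _ _ _
      rw [← h1, hy, map_mul]
      have h2 : P ≤ (Submodule.comap (LinearMap.mulLeft S' t) (RingHom.ker ψ.toRingHom)) := by
        rw [Ideal.map_le_iff_le_comap]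
        intro z hz
        show ψ (t * algebraMap R' S' z) = 0
        rw [htα, ← map_mul, show ψ (algebraMap R' S' (α * z)) = inR (α * z) from
          Algebra.pushoutDesc_left _ _ _ _ _]
        show (Ideal.Quotient.mk (Ideal.span {α} * p') (α * z)) ⊗ₜ[R] (1 : S) = 0
        rw [Ideal.Quotient.eq_zero_iff_mem.2 (Ideal.mul_mem_mul (Ideal.mem_span_singleton_self α) hz),
          TensorProduct.zero_tmul]
      have h3 : ψ (t * y j) = 0 := h2 (hall j)
      rwa [map_mul] at h3
    have h4 := hle R' _ hψ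
    rw [hIR', Ideal.span_singleton_le_iff_mem, Ideal.mem_span_singleton_mul] at h4
    obtain ⟨z, hz, hαz⟩ := h4
    have h5 : z = 1 := (mul_cancel_left_mem_nonZeroDivisors hα).1 (by rw [hαz, mul_one])
    exact (inferInstance : p'.IsPrime).ne_top ((Ideal.eq_top_iff_one _).2 (h5 ▸ hz))
  let y₀ := y j₀
  let B := Localization.Away y₀
  have : IsScalarTower S S' B := inferInstance
  let tB := algebraMap S' B t
  have htB : tB ∈ nonZeroDivisors B :=
    IsLocalization.map_nonZeroDivisors_le (Submonoid.powers y₀) B ⟨t, htnz, rfl⟩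
  have hmap : (Ideal.span {fS} * Fitt.ideal S M₂ r).map (algebraMap S B) = Ideal.span {tB} := by
    rw [← hG, Ideal.map_span]
    refine le_antisymm (Ideal.span_le.2 ?_) ((Ideal.span_singleton_le_iff_mem _).2 ?_)
    · rintro _ ⟨j, hj, rfl⟩
      rw [IsScalarTower.algebraMap_apply S S' B, hy ⟨j, hj⟩, map_mul]
      exact Ideal.mul_mem_right _ _ (Ideal.mem_span_singleton_self tB)
    · obtain ⟨e, he⟩ := (IsLocalization.Away.algebraMap_isUnit (S := B) y₀).exists_left_inv
      have h : tB = e * algebraMap S B (j₀ : S) := by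
        rw [IsScalarTower.algebraMap_apply S S' B, hy j₀, map_mul, mul_left_comm, he, mul_one]
      rw [h]
      exact Ideal.mul_mem_left _ _ (Ideal.subset_span ⟨_, j₀.2, rfl⟩)
  have hdisj : Disjoint (Submonoid.powers y₀ : Set S') (P : Set S') := by
    rw [Set.disjoint_left]
    rintro _ ⟨m, rfl⟩ hm
    exact hj₀ (Ideal.IsPrime.mem_of_pow_mem inferInstance m hm)
  have hPB := IsLocalization.isPrime_of_isPrime_disjoint (Submonoid.powers y₀) B P hP hdisj
  obtain ⟨g₂, hg₂, z, hz1, hz2⟩ := RG.FreeBlow.exists_free_chart q hq fS hker' r hbot B tB htB hmap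
    (P.map (algebraMap S' B))
  -- descend the basis to `S'`
  let L : M' →ₗ[S'] B ⊗[S] M :=
    hφ.lift (((TensorProduct.mk S B M) 1))
  have hLφ : ∀ m, L (φ m) = (1 : B) ⊗ₜ[S] m := fun m => hφ.lift_eq _ m
  have hL : IsBaseChange B L := hφ.of_comp (h := L) (by
    have : ((L : M' →ₗ[S] B ⊗[S] M) ∘ₗ φ) = TensorProduct.mk S B M 1 := LinearMap.ext hLφ
    rw [this]
    exact TensorProduct.isBaseChange S M B)
  have : IsLocalizedModule (Submonoid.powers y₀) L :=
    (isLocalizedModule_iff_isBaseChange (Submonoid.powers y₀) B L).2 hL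
  let T' := FlatCA.powTorsion S' t M'
  let TB := FlatCA.powTorsion B tB (B ⊗[S] M)
  let Q : (M' ⧸ T') →ₗ[S'] (B ⊗[S] M) ⧸ TB := T'.liftQ ((TB.mkQ.restrictScalars S') ∘ₗ L) (by
    intro v hv
    rw [LinearMap.mem_ker]
    show TB.mkQ (L v) = 0
    rw [Submodule.mkQ_apply, Submodule.Quotient.mk_eq_zero, FittLib.Strict.mem_powTorsion]
    obtain ⟨n, hn⟩ := (FittLib.Strict.mem_powTorsion t v).1 hv
    exact ⟨n, by rw [← map_pow, algebraMap_smul, ← map_smul, hn, map_zero]⟩)
  have hQker : ∀ v, Q v = 0 → ∃ k : ℕ, y₀ ^ k • v = 0 := by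
    intro v hv
    obtain ⟨w, rfl⟩ := T'.mkQ_surjective v
    change TB.mkQ (L w) = 0 at hv
    rw [Submodule.mkQ_apply, Submodule.Quotient.mk_eq_zero, FittLib.Strict.mem_powTorsion] at hv
    obtain ⟨n, hn⟩ := hv
    rw [← map_pow, algebraMap_smul, ← map_smul] at hn
    obtain ⟨⟨_, k, rfl⟩, hk⟩ := IsLocalizedModule.exists_of_eq (S := Submonoid.powers y₀) (f := L)
      (x₁ := t ^ n • w) (x₂ := 0) (by rw [hn, map_zero])
    refine ⟨k, ?_⟩
    rw [← map_smul, Submodule.mkQ_apply, Submodule.Quotient.mk_eq_zero, FittLib.Strict.mem_powTorsion]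
    refine ⟨n, ?_⟩
    rw [smul_comm]
    simpa [Submonoid.smul_def] using hk
  have hQsurj : ∀ u, ∃ (k : ℕ) (v : M' ⧸ T'), Q v = y₀ ^ k • u := by
    intro u
    obtain ⟨w, rfl⟩ := TB.mkQ_surjective u
    obtain ⟨⟨v, ⟨_, k, rfl⟩⟩, hk⟩ := IsLocalizedModule.surj (Submonoid.powers y₀) L w
    refine ⟨k, T'.mkQ v, ?_⟩
    show TB.mkQ (L v) = _
    rw [← hk, Submonoid.smul_def]
    exact LinearMap.map_smul (TB.mkQ.restrictScalars S') _ _
  obtain ⟨n₀, h, hh⟩ := IsLocalization.Away.surj y₀ g₂
  -- `h` represents `g₂`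
  have hhP : h ∉ P := fun hhP => by
    have h1 : g₂ * algebraMap S' B y₀ ^ n₀ ∈ P.map (algebraMap S' B) := by
      rw [hh]; exact Ideal.mem_map_of_mem _ hhP
    exact hg₂ (((hPB.mem_or_mem h1).resolve_right fun h2 => by
      rw [← map_pow] at h2
      have h3 : y₀ ^ n₀ ∈ P := by
        rw [← IsLocalization.comap_map_of_isPrime_disjoint (Submonoid.powers y₀) B hP hdisj]
        exact h2
      exact hj₀ (Ideal.IsPrime.mem_of_pow_mem inferInstance n₀ h3)))
  let g := h * y₀
  have hg : g ∉ P := fun h0 => (hP.mem_or_mem h0).elim hhP hj₀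
  choose k v hv using fun i => hQsurj (z i)
  obtain ⟨e, he⟩ := (IsLocalization.Away.algebraMap_isUnit (S := B) y₀).exists_left_inv
  have hgB : algebraMap S' B g = g₂ * algebraMap S' B y₀ ^ (n₀ + 1) := by
    rw [map_mul, ← hh, pow_succ, mul_assoc]
  have hzsmul : ∀ (c : S') i, Q (c • v i) = algebraMap S' B (c * y₀ ^ k i) • z i := fun c i => by
    rw [map_smul, hv, smul_smul, algebraMap_smul]
  have hPow : FittLib.StrictExists.IsPowBasis g v := by
    refine ⟨fun w => ?_, fun c hc i => ?_⟩
    · obtain ⟨m, hm⟩ := hz1 (Q w)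
      rw [Submodule.mem_span_range_iff_exists_fun] at hm
      obtain ⟨b, hb⟩ := hm
      choose b' hb' using fun i => IsLocalization.surj (Submonoid.powers y₀) (b i)
      let b₁ := fun i => (b' i).1
      let b₂ := fun i => (b' i).2
      have hb2 : ∀ i, ∃ l : ℕ, (b₂ i : S') = y₀ ^ l := fun i => ⟨_, (b₂ i).2.choose_spec.symm⟩
      choose l hl using hb2
      let N := ∑ i, l i + ∑ i, k i
      -- clear denominators
      have hcoef : ∀ i, ∃ c : S', algebraMap S' B (c * y₀ ^ k i) = algebraMap S' B y₀ ^ N * b i := by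
        intro i
        have hl' : l i + k i ≤ N :=
          add_le_add (Finset.single_le_sum (fun _ _ => Nat.zero_le _) (Finset.mem_univ i))
            (Finset.single_le_sum (fun _ _ => Nat.zero_le _) (Finset.mem_univ i))
        obtain ⟨d, hd⟩ := Nat.exists_eq_add_of_le hl'
        refine ⟨b₁ i * y₀ ^ d, ?_⟩
        rw [hd, map_mul, map_mul, ← hb' i, hl i, map_pow, map_pow, map_pow]
        ring
      choose c hc using hcoef
      have hQ : Q (∑ i, c i • v i) =
          algebraMap S' B (y₀ ^ N) • (g₂ ^ m • Q w) := by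
        rw [map_sum, ← hb, Finset.smul_sum]
        refine Finset.sum_congr rfl fun i _ => ?_
        rw [hzsmul, hc, smul_smul, map_pow]
      let M₀ := (n₀ + 1) * m + N
      have hQ2 : Q ((h ^ m * y₀ ^ (N + m)) • w - (y₀ ^ ((n₀ + 1) * m)) • ∑ i, c i • v i) = 0 := by
        rw [map_sub, map_smul, map_smul Q (y₀ ^ ((n₀ + 1) * m)), hQ, sub_eq_zero,
          ← algebraMap_smul B (y₀ ^ ((n₀ + 1) * m)), ← algebraMap_smul B (h ^ m * y₀ ^ (N + m)),
          smul_smul, smul_smul]
        congr 1
        rw [map_mul, map_pow, map_pow, map_pow, map_pow, ← hh]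
        ring
      obtain ⟨k', hk'⟩ := hQker _ hQ2
      refine ⟨m + N + k', ?_⟩
      rw [smul_sub, sub_eq_zero] at hk'
      have e1 : g ^ (m + N + k') • w = h ^ (N + k') • (y₀ ^ k' • ((h ^ m * y₀ ^ (N + m)) • w)) := by
        rw [smul_smul, smul_smul]; congr 1; ring
      rw [e1, hk']
      exact Submodule.smul_mem _ _ (Submodule.smul_mem _ _ (Submodule.smul_mem _ _
        (Submodule.sum_mem _ fun i _ => Submodule.smul_mem _ _ (Submodule.subset_span ⟨i, rfl⟩))))
    · have h0 : ∑ i, algebraMap S' B (c i * y₀ ^ k i) • z i = 0 := by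
        rw [← Finset.sum_congr rfl fun i _ => hzsmul (c i) i, ← map_sum, hc, map_zero]
      obtain ⟨m, hm⟩ := hz2 _ h0 i
      have h1 : algebraMap S' B (h ^ m * (c i * y₀ ^ k i)) = 0 := by
        rw [map_mul, map_pow, ← hh, mul_pow]
        calc g₂ ^ m * (algebraMap S' B y₀ ^ n₀) ^ m * algebraMap S' B (c i * y₀ ^ k i)
            = (algebraMap S' B y₀ ^ n₀) ^ m * (g₂ ^ m * algebraMap S' B (c i * y₀ ^ k i)) := by ring
          _ = 0 := by rw [hm, mul_zero]
      rw [IsLocalization.map_eq_zero_iff (Submonoid.powers y₀)] at h1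
      obtain ⟨⟨_, l, rfl⟩, hl⟩ := h1
      refine ⟨m + k i + l, ?_⟩
      simp only at hl
      calc g ^ (m + k i + l) * c i
          = h ^ (k i + l) * y₀ ^ m * (y₀ ^ l * (h ^ m * (c i * y₀ ^ k i))) := by ring
        _ = 0 := by rw [hl, mul_zero]
  obtain ⟨bas⟩ := FittLib.StrictExists.exists_basis g hPow
  have hnt : Nontrivial (Localization.Away g) := by
    refine nontrivial_of_ne 1 0 fun h0 => ?_
    rw [← map_one (algebraMap S' (Localization.Away g)),
      IsLocalization.map_eq_zero_iff (Submonoid.powers g)] at h0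
    obtain ⟨⟨_, n, rfl⟩, hn⟩ := h0
    simp only [mul_one] at hn
    exact hg (Ideal.IsPrime.mem_of_pow_mem inferInstance n (by rw [hn]; exact zero_mem P))
  exact ⟨g, hg, Module.Free.of_basis bas⟩

omit [Algebra.FinitePresentation R S] [Module.Flat R S] in
/-- Wherever the sum of a family of ideals is invertible, one of the members is invertible near each
point. -/
theorem exists_member {R' : Type u} [CommRing R'] [Algebra R R'] {α : R'} (hα : α ∈ nonZeroDivisors R')
    {ι : Type*} (σ : Finset ι) (c : ι → Ideal R)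
    (h : (σ.sup c).map (algebraMap R R') = Ideal.span {α}) (p' : Ideal R') [p'.IsPrime] :
    ∃ i ∈ σ, ∃ u : R', u ∉ p' ∧ u * α ∈ (c i).map (algebraMap R R') := by
  classical
  by_contra hall
  push Not at hall
  have hle : ∀ i ∈ σ, (c i).map (algebraMap R R') ≤ Ideal.span {α} * p' := fun i hi z hz => by
    have hzα : z ∈ Ideal.span {α} := by
      rw [← h]; exact Ideal.map_mono (Finset.le_sup hi) hz
    obtain ⟨y, rfl⟩ := Ideal.mem_span_singleton'.1 hzα
    rw [mul_comm y α]
    refine Ideal.mul_mem_mul (Ideal.mem_span_singleton_self α) ?_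
    by_contra hy
    exact hall i hi y hy hz
  have h2 : (σ.sup c).map (algebraMap R R') ≤ Ideal.span {α} * p' := by
    rw [Ideal.map_le_iff_le_comap]
    exact Finset.sup_le fun i hi => Ideal.map_le_iff_le_comap.1 (hle i hi)
  rw [h, Ideal.span_singleton_le_iff_mem, Ideal.mem_span_singleton_mul] at h2
  obtain ⟨z, hz, hαz⟩ := h2
  have h5 : z = 1 := (mul_cancel_left_mem_nonZeroDivisors hα).1 (by rw [hαz, mul_one])
  exact (inferInstance : p'.IsPrime).ne_top ((Ideal.eq_top_iff_one _).2 (h5 ▸ hz))

/-- The ideal making the module free near the generic points of all fibres. -/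
theorem exists_ideal (hdom : ∀ (K : Type u) [Field K] [Algebra R K], IsDomain (K ⊗[R] S))
    (M : Type u) [AddCommGroup M] [Module S M] [Module R M] [IsScalarTower R S M] [Module.Finite S M]
    (F₀ : Ideal R) (hF₀ : F₀.FG)
    (hfp : ∀ f ∈ F₀, Module.FinitePresentation (Localization.Away (algebraMap R S f))
      (LocalizedModule (Submonoid.powers (algebraMap R S f)) M))
    (hflat : ∀ (p : Ideal R) [p.IsPrime] [(p.map (algebraMap R S)).IsPrime], ¬ F₀ ≤ p →
      Module.Flat R (LocalizedModule (p.map (algebraMap R S)).primeCompl M)) :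
    ∃ (L : Ideal R) (n : ℕ), L.FG ∧ F₀ ^ n ≤ L ∧ L ≤ F₀ ∧
      ∀ (R' : Type u) [CommRing R'] [Algebra R R'] (α : R'), α ∈ nonZeroDivisors R' →
        L.map (algebraMap R R') = Ideal.span {α} → ∀ (p' : Ideal R') [p'.IsPrime],
          ∃ c : Ideal R, Good R S M c ∧ c ≤ L ∧ ∃ u : R', u ∉ p' ∧ u * α ∈ c.map (algebraMap R R') := by
  classical
  let ι := {c : Ideal R // c.FG ∧ c ≤ F₀ ∧ Good R S M c}
  have hrad : F₀ ≤ (⨆ c : ι, c.1).radical := by
    rw [Ideal.radical_eq_sInf]
    refine le_sInf fun p ⟨hIp, hp⟩ => ?_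
    by_contra hFp
    obtain ⟨f, hf, hfp'⟩ := SetLike.not_le_iff_exists.1 hFp
    obtain ⟨c, hc1, hc2, hc4, hc3⟩ := exists_good hdom M f (hfp f hf) p hfp' (@fun hq => @hflat p _ hq hFp)
    exact hc2 ((le_iSup (fun c : ι => c.1)
      ⟨c, hc1, hc4.trans ((Ideal.span_singleton_le_iff_mem _).2 hf), hc3⟩).trans hIp)
  obtain ⟨n, hn⟩ := Ideal.exists_pow_le_of_le_radical_of_fg hrad hF₀
  obtain ⟨σ, hσ⟩ := (CompleteLattice.isCompactElement_iff_exists_le_iSup_of_le_iSup _).1
    ((Submodule.fg_iff_compact (F₀ ^ n)).1 (Ideal.FG.pow hF₀)) ι (fun c : ι => c.1) hn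
  refine ⟨σ.sup fun c => c.1, n, ?_, ?_, Finset.sup_le fun c _ => c.2.2.1, ?_⟩
  · exact Submodule.fg_finset_sup σ _ fun c _ => c.2.1
  · exact hσ
  intro R' _ _ α hα hL p' _
  obtain ⟨c, hcσ, u, hu, hmem⟩ := exists_member hα σ (fun c : ι => c.1) hL p'
  exact ⟨c.1, c.2.2.2, Finset.le_sup (f := fun c : ι => c.1) hcσ, u, hu, hmem⟩

end Groth.Agent.RG.GenFree
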