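import Groth.Agent.RG.GenFree
import Groth.Agent.RG.FlatMain
import Groth.Agent.RG.StrictLP
import Groth.Agent.RG.StrictSub
import Groth.Agent.KFlat.LocFree
import Groth.Agent.FlatOpen.Scheme
import Groth.Agent.Props.QProj
import Mathlib.AlgebraicGeometry.Geometrically.Integral

/-!
# Making a module locally free near the generic points of the fibres: the geometric part
-/

set_option autoImplicit false
set_option maxHeartbeats 800000
set_option linter.style.haveILetI false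

universe u

open AlgebraicGeometry CategoryTheory CategoryTheory.Limits TopologicalSpace TensorProduct
open Groth.Agent.IdealSh FlatMor

attribute [local instance] Algebra.TensorProduct.rightAlgebra

namespace Groth.Agent.RG.GenFreeMain

variable {X S : Scheme.{u}} (f : X ⟶ S) (R : S.affineOpens)

/-- The fibre rings of an affine morphism with geometrically integral fibres are domains. -/
theorem isDomain_fibre_app [IsAffineHom f] [GeometricallyIntegral f] (V : X.affineOpens)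
    (hV : V.1 = f ⁻¹ᵁ R.1) (e : V.1 ≤ f ⁻¹ᵁ R.1) (K : Type u) [Field K] [Algebra Γ(S, R.1) K] :
    (letI : Algebra Γ(S, R.1) Γ(X, V.1) := (f.appLE R.1 V.1 e).hom.toAlgebra
     IsDomain (K ⊗[Γ(S, R.1)] Γ(X, V.1))) := by
  letI : Algebra Γ(S, R.1) Γ(X, V.1) := (f.appLE R.1 V.1 e).hom.toAlgebra
  have h1 : IsPullback (f.resLE R.1 V.1 e) V.1.ι R.1.ι f := by
    obtain ⟨V, hVaff⟩ := V
    subst hV
    rw [Scheme.Hom.resLE_eq_morphismRestrict]
    exact isPullback_morphismRestrict f R.1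
  haveI : GeometricallyIntegral (f.resLE R.1 V.1 e) :=
    MorphismProperty.of_isPullback h1.flip inferInstance
  have h2 : (Spec.map (f.appLE R.1 V.1 e)) = V.2.isoSpec.inv ≫ f.resLE R.1 V.1 e ≫ R.2.isoSpec.hom := by
    rw [← cancel_mono R.2.fromSpec, IsAffineOpen.SpecMap_appLE_fromSpec f R.2 V.2 e]
    simp [IsAffineOpen.isoSpec_hom_fromSpec, IsAffineOpen.isoSpec_inv_ι_assoc]
  haveI : GeometricallyIntegral (Spec.map (CommRingCat.ofHom (algebraMap Γ(S, R.1) Γ(X, V.1)))) := by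
    show GeometricallyIntegral (Spec.map (f.appLE R.1 V.1 e))
    rw [h2]
    exact (MorphismProperty.cancel_left_of_respectsIso @GeometricallyIntegral _ _).2
      ((MorphismProperty.cancel_right_of_respectsIso @GeometricallyIntegral _ _).2 inferInstance)
  exact ContentExists.isDomain_fibre (R := Γ(S, R.1)) (S := Γ(X, V.1)) inferInstance K

/-- The point of an extended prime is the generic point of its fibre. -/
theorem closure_asFiber (V : X.affineOpens) (hV : V.1 = f ⁻¹ᵁ R.1) (e : V.1 ≤ f ⁻¹ᵁ R.1)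
    (p : Ideal Γ(S, R.1)) (q : PrimeSpectrum Γ(X, V.1))
    (hq : q.asIdeal = p.map (f.appLE R.1 V.1 e).hom) :
    closure ({f.asFiber (V.2.fromSpec q)} : Set (f.fiber (f (V.2.fromSpec q)))) = Set.univ := by
  refine Set.eq_univ_of_forall fun z => specializes_iff_mem_closure.1 ?_
  let x := V.2.fromSpec q
  rw [← (f.fiberι (f x)).isEmbedding.isInducing.specializes_iff, Scheme.Hom.fiberι_asFiber]
  let y : X := f.fiberι (f x) z
  have hy : f y = f x := by
    have : y ∈ Set.range (f.fiberι (f x)) := ⟨z, rfl⟩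
    rwa [Scheme.Hom.range_fiberι] at this
  have hxV : x ∈ V.1 := by
    have : x ∈ Set.range V.2.fromSpec := ⟨q, rfl⟩
    rwa [V.2.range_fromSpec] at this
  have hyV : y ∈ V.1 := by
    rw [hV, Scheme.Hom.mem_preimage, hy]; exact e hxV
  have hle : q.asIdeal ≤ (V.2.primeIdealOf ⟨y, hyV⟩).asIdeal := by
    rw [hq, Ideal.map_le_iff_le_comap]
    intro a ha
    rw [Ideal.mem_comap]
    by_contra hna
    have h1 : y ∈ X.basicOpen (f.appLE R.1 V.1 e a) :=
      (AssSch.Stalk.mem_basicOpen_iff V.2 y hyV _).2 hna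
    rw [Scheme.basicOpen_appLE] at h1
    have h2 : x ∈ X.basicOpen (f.appLE R.1 V.1 e a) := by
      rw [Scheme.basicOpen_appLE]
      exact ⟨hxV, show f x ∈ S.basicOpen a by rw [← hy]; exact h1.2⟩
    have h3 : q ∈ V.2.fromSpec ⁻¹ᵁ X.basicOpen (f.appLE R.1 V.1 e a) := h2
    rw [V.2.fromSpec_preimage_basicOpen] at h3
    exact h3 (hq ▸ Ideal.mem_map_of_mem _ ha)
  have := ((PrimeSpectrum.le_iff_specializes q _).1 hle).map V.2.fromSpec.continuous
  rwa [V.2.fromSpec_primeIdealOf] at this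

variable [IsAffineHom f] [LocallyOfFinitePresentation f] [Flat f] [GeometricallyIntegral f]
  (U : S.Opens) (F : X.Modules) [F.IsQuasicoherent] [F.IsFiniteType]

/-- Goodness of an ideal on an affine piece of the base. -/
def GoodOn (c : Ideal Γ(S, R.1)) : Prop :=
  letI : Algebra Γ(S, R.1) Γ(X, f ⁻¹ᵁ R.1) := (f.app R.1).hom.toAlgebra
  GenFree.Good Γ(S, R.1) Γ(X, f ⁻¹ᵁ R.1) Γ(F, f ⁻¹ᵁ R.1) c

/-- The ideal on an affine piece of the base. -/
theorem exists_piece (hfpU : Props.QApprox.FPOn F (f ⁻¹ᵁ U))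
    (hflU : ∀ x : X, f.base x ∈ U →
      closure ({f.asFiber x} : Set (f.fiber (f.base x))) = Set.univ → FlatMod.IsFlatOverAt f F x)
    (H : S.IdealSheafData) (hH : BlowUp.IsFiniteTypeIdeal H)
    (hHs : (H.support : Set S) = (U : Set S)ᶜ) :
    ∃ (L : Ideal Γ(S, R.1)) (n : ℕ), L.FG ∧ H.ideal R ^ n ≤ L ∧ L ≤ H.ideal R ∧
      ∀ (R' : Type u) [CommRing R'] [Algebra Γ(S, R.1) R'] (α : R'), α ∈ nonZeroDivisors R' →
        L.map (algebraMap Γ(S, R.1) R') = Ideal.span {α} → ∀ (p' : Ideal R') [p'.IsPrime],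
          ∃ c : Ideal Γ(S, R.1), GoodOn f R F c ∧ c ≤ L ∧
            ∃ u : R', u ∉ p' ∧ u * α ∈ c.map (algebraMap Γ(S, R.1) R') := by
  let V : X.affineOpens := ⟨f ⁻¹ᵁ R.1, R.2.preimage f⟩
  let e : V.1 ≤ f ⁻¹ᵁ R.1 := le_rfl
  have happ : f.appLE R.1 V.1 e = f.app R.1 := f.appLE_eq_app
  letI : Algebra Γ(S, R.1) Γ(X, V.1) := (f.appLE R.1 V.1 e).hom.toAlgebra
  letI : Module Γ(S, R.1) Γ(F, V.1) := Module.compHom _ (f.appLE R.1 V.1 e).hom
  haveI : IsScalarTower Γ(S, R.1) Γ(X, V.1) Γ(F, V.1) := IsScalarTower.of_algebraMap_smul fun _ _ => rfl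
  haveI : Algebra.FinitePresentation Γ(S, R.1) Γ(X, V.1) :=
    HasRingHomProperty.appLE (P := @LocallyOfFinitePresentation) f inferInstance R V e
  haveI : Module.Flat Γ(S, R.1) Γ(X, V.1) :=
    HasRingHomProperty.appLE (P := @Flat) f inferInstance R V e
  haveI : Module.Finite Γ(X, V.1) Γ(F, V.1) := QCoh.finite_sections_of_isFiniteType F V.2
  have hbo : ∀ a ∈ H.ideal R, S.basicOpen a ≤ U := fun a ha x hx => by
    by_contra hxU
    have hxs : x ∈ (H.support : Set S) := by rw [hHs]; exact hxU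
    rw [SetLike.mem_coe, Scheme.IdealSheafData.mem_support_iff_of_mem (S.basicOpen_le a hx),
      Scheme.mem_zeroLocus_iff] at hxs
    exact hxs a ha hx
  obtain ⟨L, n, hL, hnL, hLH, hgood⟩ := GenFree.exists_ideal (R := Γ(S, R.1)) (S := Γ(X, V.1))
    (fun K _ _ => isDomain_fibre_app f R V rfl e K) Γ(F, V.1) (H.ideal R) (hH R)
    (fun a ha => FlatPiece.fp_localized f F R V e U hfpU a (hbo a ha))
    (fun p _ hq hp => by
      obtain ⟨a, ha, hap⟩ := SetLike.not_le_iff_exists.1 hp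
      let q : PrimeSpectrum Γ(X, V.1) := ⟨p.map (algebraMap Γ(S, R.1) Γ(X, V.1)), hq⟩
      let x := V.2.fromSpec q
      have hxV : x ∈ V.1 := by
        have : x ∈ Set.range V.2.fromSpec := ⟨q, rfl⟩
        rwa [V.2.range_fromSpec] at this
      have hqx : V.2.primeIdealOf ⟨x, hxV⟩ = q :=
        V.2.fromSpec.isOpenEmbedding.injective (V.2.fromSpec_primeIdealOf _)
      have hxU : f x ∈ U := by
        refine hbo a ha ?_
        have : x ∈ X.basicOpen (f.appLE R.1 V.1 e a) := by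
          rw [AssSch.Stalk.mem_basicOpen_iff V.2 x hxV]
          show f.appLE R.1 V.1 e a ∉ (V.2.primeIdealOf ⟨x, hxV⟩).asIdeal
          rw [hqx]
          exact fun h => hap (GenFree.mem_of_mem_map (R := Γ(S, R.1)) (S := Γ(X, V.1))
            (fun K _ _ => isDomain_fibre_app f R V rfl e K) Γ(S, R.1) Γ(X, V.1) p h)
        rw [Scheme.basicOpen_appLE] at this
        exact this.2
      have h := (FlatOpen.Scheme.isFlatOverAt_iff f R.2 V.2 e x hxV F).1
        (hflU x hxU (closure_asFiber f R V rfl e p q rfl))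
      have hpo : AssSch.Stalk.primeOf V.2 x hxV = q.asIdeal := congrArg PrimeSpectrum.asIdeal hqx
      simp only [hpo] at h
      exact h)
  refine ⟨L, n, hL, hnL, hLH, fun R' _ _ α hα hLR p' _ => ?_⟩
  obtain ⟨c, hc, hcL, hu⟩ := hgood R' α hα hLR p'
  refine ⟨c, ?_, hcL, hu⟩
  simp only [GoodOn]
  convert hc using 2
  rw [happ]

variable [CompactSpace S] [QuasiSeparatedSpace S]

/-- The admissible ideal belonging to an affine piece. -/
theorem exists_sheaf (hfpU : Props.QApprox.FPOn F (f ⁻¹ᵁ U))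
    (hflU : ∀ x : X, f.base x ∈ U →
      closure ({f.asFiber x} : Set (f.fiber (f.base x))) = Set.univ → FlatMod.IsFlatOverAt f F x)
    (H : S.IdealSheafData) (hH : BlowUp.IsFiniteTypeIdeal H)
    (hHs : (H.support : Set S) = (U : Set S)ᶜ) :
    ∃ J : S.IdealSheafData, BlowUp.IsAdmissibleFor U J ∧
      (∀ (S' : Scheme.{u}) (b : S' ⟶ S) (W : S'.affineOpens) (eW : W.1 ≤ b ⁻¹ᵁ R.1) (α : Γ(S', W.1)),
        α ∈ nonZeroDivisors Γ(S', W.1) → (J.comap b).ideal W = Ideal.span {α} →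
        ∀ s ∈ W.1, ∃ (W' : S'.affineOpens) (hW : W'.1 ≤ W.1) (c : Ideal Γ(S, R.1)), s ∈ W'.1 ∧
          GoodOn f R F c ∧ c.map (b.appLE R.1 W'.1 (hW.trans eW)).hom =
            Ideal.span {S'.presheaf.map (homOfLE hW).op α}) ∧
      (J.support : Set S) ∩ R.1 = (H.support : Set S) ∩ R.1 := by
  obtain ⟨L, n, hL, hnL, hLH, hgood⟩ := exists_piece f R U F hfpU hflU H hH hHs
  obtain ⟨J₀, hJ₀, hJ₀R, -⟩ := FlatMor.Strat.exists_extend_affine R L hL
  let J := J₀ ⊔ H ^ n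
  have hJR : J.ideal R = L := by
    rw [Scheme.IdealSheafData.ideal_sup, Pi.sup_apply, hJ₀R, Scheme.IdealSheafData.ideal_pow, Pi.pow_apply,
      sup_eq_left]
    exact hnL
  have hft : BlowUp.IsFiniteTypeIdeal J := fun T => by
    rw [Scheme.IdealSheafData.ideal_sup, Pi.sup_apply]
    refine Submodule.FG.sup (hJ₀ T) ?_
    rw [Scheme.IdealSheafData.ideal_pow, Pi.pow_apply]
    exact Ideal.FG.pow (hH T)
  have hmem : ∀ x, x ∈ (J.support : Set S) → ∀ T : S.affineOpens, x ∈ T.1 →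
      ∀ a ∈ H.ideal T, x ∉ S.basicOpen a := fun x hx T hxT a ha hxa => by
    rw [SetLike.mem_coe, Scheme.IdealSheafData.mem_support_iff_of_mem hxT, Scheme.mem_zeroLocus_iff] at hx
    refine hx (a ^ n) ?_ ?_
    · refine (show (H ^ n).ideal T ≤ J.ideal T from le_sup_right (a := J₀) (b := H ^ n) T) ?_
      rw [Scheme.IdealSheafData.ideal_pow, Pi.pow_apply]
      exact Ideal.pow_mem_pow ha n
    · rcases n with _ | n
      · rw [pow_zero, Scheme.basicOpen_one]; exact hxT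
      · rw [Scheme.basicOpen_pow _ _ (by omega)]; exact hxa
  have hsub : (J.support : Set S) ⊆ (U : Set S)ᶜ := by
    intro x hx
    obtain ⟨T, hxT, -⟩ := Comap.exists_affine_le x ⊤ trivial
    rw [← hHs, SetLike.mem_coe, Scheme.IdealSheafData.mem_support_iff_of_mem hxT, Scheme.mem_zeroLocus_iff]
    exact fun a ha => hmem x hx T hxT a ha
  refine ⟨J, ⟨hft, Set.disjoint_left.2 fun x hx hxU => hsub hx hxU⟩, ?_, ?_⟩
  · intro S' b W eW α hα hJW s hs
    letI : Algebra Γ(S, R.1) Γ(S', W.1) := (b.appLE R.1 W.1 eW).hom.toAlgebra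
    have hLW : L.map (algebraMap Γ(S, R.1) Γ(S', W.1)) = Ideal.span {α} := by
      rw [← hJW, Comap.ideal_comap J b R W eW, hJR]; rfl
    obtain ⟨c, hc, hcL, u, hu, hmem'⟩ := hgood Γ(S', W.1) α hα hLW (W.2.primeIdealOf ⟨s, hs⟩).asIdeal
    let W' : S'.affineOpens := S'.affineBasicOpen u
    have hW : W'.1 ≤ W.1 := S'.basicOpen_le u
    refine ⟨W', hW, c, (AssSch.Stalk.mem_basicOpen_iff W.2 s hs u).2 hu, hc, ?_⟩
    let ρ := S'.presheaf.map (homOfLE hW).op
    have e1 : b.appLE R.1 W'.1 (hW.trans eW) = b.appLE R.1 W.1 eW ≫ ρ :=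
      (Scheme.Hom.appLE_map (f := b) eW (homOfLE hW).op).symm
    rw [e1, CommRingCat.hom_comp, ← Ideal.map_map]
    have h2 : c.map (b.appLE R.1 W.1 eW).hom ≤ Ideal.span {α} := by
      rw [← hLW]; exact Ideal.map_mono hcL
    refine le_antisymm ((Ideal.map_mono h2).trans (le_of_eq ?_)) ((Ideal.span_singleton_le_iff_mem _).2 ?_)
    · rw [Ideal.map_span, Set.image_singleton]
    · have h3 := Ideal.mem_map_of_mem ρ.hom hmem'
      rw [map_mul] at h3
      exact (Ideal.unit_mul_mem_iff_mem _ (S'.toRingedSpace.isUnit_res_basicOpen u)).1 h3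
  · refine Set.Subset.antisymm (Set.inter_subset_inter_left _ (hsub.trans hHs.ge)) ?_
    rintro x ⟨hx, hxR⟩
    refine ⟨?_, hxR⟩
    rw [SetLike.mem_coe, Scheme.IdealSheafData.mem_support_iff_of_mem hxR, Scheme.mem_zeroLocus_iff] at hx ⊢
    rw [hJR]
    exact fun a ha => hx a (hLH ha)

/-- Locally free near the generic points of all fibres after an admissible blow-up. -/
theorem exists_blowup (hU : IsCompact (U : Set S)) (hfpU : Props.QApprox.FPOn F (f ⁻¹ᵁ U))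
    (hflU : ∀ x : X, f.base x ∈ U →
      closure ({f.asFiber x} : Set (f.fiber (f.base x))) = Set.univ → FlatMod.IsFlatOverAt f F x) :
    ∃ (𝓘 : S.IdealSheafData) (S' : Scheme.{u}) (b : S' ⟶ S),
      BlowUp.IsBlowUp b 𝓘 ∧ BlowUp.IsAdmissibleFor U 𝓘 ∧
      ∀ (X' : Scheme.{u}) (p₁ : X' ⟶ X) (p₂ : X' ⟶ S'), IsPullback p₁ p₂ f b → ∀ s : S',
        ∃ (O : X'.affineOpens) (c : Γ(X', O.1)) (g : Γ(X', O.1)) (x : X'),
          x ∈ X'.basicOpen g ∧ p₂ x = s ∧ ((𝓘.comap f).comap p₁).ideal O = Ideal.span {c} ∧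
          Module.Free (Localization.Away g) (LocalizedModule (Submonoid.powers g)
            (Γ((Scheme.Modules.pullback p₁).obj F, O.1) ⧸
               FlatCA.powTorsion Γ(X', O.1) c Γ((Scheme.Modules.pullback p₁).obj F, O.1))) := by
  classical
  obtain ⟨H, hH, hHs⟩ := QDom.Global.exists_support_eq_compl (V := U) hU
  choose J hJadm hJ hJs using fun R : S.affineOpens => exists_sheaf f R U F hfpU hflU H hH hHs
  obtain ⟨σ, hσ⟩ := isCompact_univ.elim_finite_subcover (fun R : S.affineOpens => (R.1 : Set S))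
    (fun R => R.1.isOpen) (fun x _ => by
      obtain ⟨R, hxR, -⟩ := Comap.exists_affine_le x ⊤ trivial
      exact Set.mem_iUnion.2 ⟨R, hxR⟩)
  let 𝓚 : S.IdealSheafData := ∏ R ∈ σ, J R
  have hKadm : BlowUp.IsAdmissibleFor U 𝓚 := FinType.admissible_prod _ _ σ hJadm
  obtain ⟨S', b, hb⟩ := BlowUp.Glue.exists_isBlowUp S (H * 𝓚)
  have hsupp : ((H * 𝓚).support : Set S) = (U : Set S)ᶜ := by
    rw [Scheme.IdealSheafData.support_mul, Closeds.coe_sup, hHs, Set.union_eq_left]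
    exact fun x hx hxU => Set.disjoint_left.1 hKadm.2 hx hxU
  refine ⟨H * 𝓚, S', b, hb, ⟨FinType.mul hH hKadm.1, by rw [hsupp]; exact disjoint_compl_left⟩, ?_⟩
  intro X' p₁ p₂ hpb s
  obtain ⟨R, hRσ, hsR⟩ := Set.mem_iUnion₂.1 (hσ (Set.mem_univ (b s)))
  have hJc : BlowUp.IsEffCartierIdeal ((J R).comap b) := by
    have h := hb.1
    have hmul : 𝓚 = J R * ∏ R' ∈ σ.erase R, J R' := (Finset.mul_prod_erase σ J hRσ).symm
    rw [hmul, ← mul_assoc, mul_comm H, mul_assoc, mul_comm (J R), Comap.comap_mul] at h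
    exact EffCartier.factor_left (mul_comm ((J R).comap b) _ ▸ h)
  obtain ⟨W, hsW, hWR, c₀, α, hc₀, hα, hEW, hJW⟩ :=
    EffCartier.exists_equation₂ hb.1 hJc s (b ⁻¹ᵁ R.1) hsR
  obtain ⟨W', hW, c, hsW', hgood, hcW⟩ := hJ R S' b W hWR α hα hJW s hsW
  let ρ := S'.presheaf.map (homOfLE hW).op
  let α' : Γ(S', W'.1) := ρ α
  have hα' : α' ∈ nonZeroDivisors Γ(S', W'.1) := EffCartier.map_res_mem_nonZeroDivisors hW hα
  have eR : W'.1 ≤ b ⁻¹ᵁ R.1 := hW.trans hWR
  let V : X.affineOpens := ⟨f ⁻¹ᵁ R.1, R.2.preimage f⟩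
  obtain ⟨O, hO⟩ : ∃ O, O = p₁ ⁻¹ᵁ V.1 ⊓ p₂ ⁻¹ᵁ W'.1 := ⟨_, rfl⟩
  have hOV : O ≤ p₁ ⁻¹ᵁ V.1 := hO.le.trans inf_le_left
  have hOW : O ≤ p₂ ⁻¹ᵁ W'.1 := hO.le.trans inf_le_right
  have hOaff : IsAffineOpen O := by
    have : IsAffine R.1.toScheme := R.2
    have : IsAffine W'.1.toScheme := W'.2
    have : IsAffine V.1.toScheme := V.2
    exact .of_isIso (Scheme.Hom.isPullback_resLE hpb eR le_rfl hO).isoPullback.hom
  have hpush : IsPushout (f.appLE R.1 V.1 le_rfl) (b.appLE R.1 W'.1 eR) (p₁.appLE V.1 O hOV)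
      (p₂.appLE W'.1 O hOW) :=
    (isIso_pushoutSection_iff hpb eR le_rfl hO).mp
      (isIso_pushoutSection_of_isAffineOpen hpb eR le_rfl hO R.2 W'.2 V.2)
  rw [show f.appLE R.1 V.1 le_rfl = f.app R.1 from f.appLE_eq_app] at hpush
  letI : Algebra Γ(S, R.1) Γ(X, f ⁻¹ᵁ R.1) := (f.app R.1).hom.toAlgebra
  letI : Algebra Γ(S, R.1) Γ(S', W'.1) := (b.appLE R.1 W'.1 eR).hom.toAlgebra
  letI : Algebra Γ(X, f ⁻¹ᵁ R.1) Γ(X', O) := (p₁.appLE V.1 O hOV).hom.toAlgebra
  letI : Algebra Γ(S', W'.1) Γ(X', O) := (p₂.appLE W'.1 O hOW).hom.toAlgebra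
  letI : Algebra Γ(S, R.1) Γ(X', O) :=
    ((p₂.appLE W'.1 O hOW).hom.comp (b.appLE R.1 W'.1 eR).hom).toAlgebra
  haveI : IsScalarTower Γ(S, R.1) Γ(S', W'.1) Γ(X', O) := .of_algebraMap_eq' rfl
  haveI : IsScalarTower Γ(S, R.1) Γ(X, f ⁻¹ᵁ R.1) Γ(X', O) :=
    .of_algebraMap_eq' congr($(hpush.w).hom).symm
  haveI : Algebra.IsPushout Γ(S, R.1) Γ(X, f ⁻¹ᵁ R.1) Γ(S', W'.1) Γ(X', O) :=
    CommRingCat.isPushout_iff_isPushout.mp hpush
  let N := (Scheme.Modules.pullback p₁).obj F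
  letI := LimTop.secModule p₁ F hOV
  haveI : IsScalarTower Γ(X, f ⁻¹ᵁ R.1) Γ(X', O) Γ(N, O) := IsScalarTower.of_algebraMap_smul fun _ _ => rfl
  let p' := (W'.2.primeIdealOf ⟨s, hsW'⟩).asIdeal
  obtain ⟨g, hg, hfree⟩ := hgood Γ(S', W'.1) α' hα' hcW Γ(X', O) Γ(N, O) (LimTop.unitSecLin p₁ F hOV)
    (LimTop.isBaseChange_unitSec p₁ F hOV V.2 hOaff) p'
  haveI : Module.Flat Γ(S, R.1) Γ(X, f ⁻¹ᵁ R.1) := by
    have h := HasRingHomProperty.appLE (P := @Flat) f inferInstance R V le_rfl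
    rw [f.appLE_eq_app] at h
    exact h
  have hdom : ∀ (K : Type u) [Field K] [Algebra Γ(S, R.1) K],
      IsDomain (K ⊗[Γ(S, R.1)] Γ(X, f ⁻¹ᵁ R.1)) := fun K _ _ => by
    have h := isDomain_fibre_app f R V rfl le_rfl K
    have key : ∀ φ : Γ(S, R.1) ⟶ Γ(X, f ⁻¹ᵁ R.1), φ = f.appLE R.1 V.1 le_rfl →
        (letI : Algebra Γ(S, R.1) Γ(X, f ⁻¹ᵁ R.1) := φ.hom.toAlgebra
         IsDomain (K ⊗[Γ(S, R.1)] Γ(X, f ⁻¹ᵁ R.1))) := by
      rintro φ rfl; exact h
    exact key _ f.appLE_eq_app.symm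
  have hPp := RG.FreeBlow.isPrime_map hdom Γ(S', W'.1) Γ(X', O) p'
  let q : PrimeSpectrum Γ(X', O) := ⟨p'.map (algebraMap Γ(S', W'.1) Γ(X', O)), hPp⟩
  let x := hOaff.fromSpec q
  have hxO : x ∈ O := by
    have : x ∈ Set.range hOaff.fromSpec := ⟨q, rfl⟩
    rwa [hOaff.range_fromSpec] at this
  have hxq : ∀ a : Γ(X', O), x ∈ X'.basicOpen a ↔ a ∉ q.asIdeal := fun a => by
    show q ∈ hOaff.fromSpec ⁻¹ᵁ X'.basicOpen a ↔ _
    rw [hOaff.fromSpec_preimage_basicOpen]; rfl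
  have hp₂x : p₂ x = s := by
    have h1 : W'.2.primeIdealOf ⟨p₂ x, hOW hxO⟩ = W'.2.primeIdealOf ⟨s, hsW'⟩ := by
      refine PrimeSpectrum.ext (Ideal.ext fun a => ?_)
      rw [← not_iff_not, ← AssSch.Stalk.mem_basicOpen_iff W'.2 (p₂ x) (hOW hxO) a]
      trans x ∈ X'.basicOpen (p₂.appLE W'.1 O hOW a)
      · rw [Scheme.basicOpen_appLE]
        exact ⟨fun h => ⟨hxO, h⟩, fun h => h.2⟩
      · rw [hxq]
        exact ⟨fun h h' => h (Ideal.mem_map_of_mem _ h'),
          fun h h' => h (GenFree.mem_of_mem_map hdom Γ(S', W'.1) Γ(X', O) p' h')⟩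
    have h2 := congrArg W'.2.fromSpec h1
    rwa [W'.2.fromSpec_primeIdealOf, W'.2.fromSpec_primeIdealOf] at h2
  let C₀ := p₂.appLE W'.1 O hOW (ρ c₀)
  have hc : (((H * 𝓚).comap f).comap p₁).ideal ⟨O, hOaff⟩ = Ideal.span {C₀} := by
    rw [← Scheme.IdealSheafData.comap_comp, hpb.w, Scheme.IdealSheafData.comap_comp]
    exact Comap.ideal_comap_span_singleton _ p₂ W' ⟨O, hOaff⟩ hOW (EffCartier.restrict_eq hW hEW)
  have hbo : S'.basicOpen c₀ = S'.basicOpen α := by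
    refine Opens.ext ?_
    rw [Regular.basicOpen_eq_compl_support hEW, Regular.basicOpen_eq_compl_support hJW]
    ext y
    refine and_congr_right fun hy => not_congr ?_
    rw [Scheme.IdealSheafData.support_comap, Scheme.IdealSheafData.support_comap]
    show b y ∈ ((H * 𝓚).support : Set S) ↔ b y ∈ ((J R).support : Set S)
    have h3 := Set.ext_iff.1 (hJs R) (b y)
    simp only [Set.mem_inter_iff, SetLike.mem_coe] at h3 ⊢
    rw [← SetLike.mem_coe, hsupp, ← hHs, SetLike.mem_coe]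
    exact ⟨fun h => (h3.2 ⟨h, hWR hy⟩).1, fun h => (h3.1 ⟨h, hWR hy⟩).1⟩
  have hρ : ∀ a a' : Γ(S', W.1), (∃ n : ℕ, a ∣ a' ^ n) →
      ∃ n : ℕ, p₂.appLE W'.1 O hOW (ρ a) ∣ p₂.appLE W'.1 O hOW (ρ a') ^ n := by
    rintro a a' ⟨n, hn⟩
    exact ⟨n, by rw [← map_pow, ← map_pow]; exact map_dvd _ (map_dvd _ hn)⟩
  have heq : FlatCA.powTorsion Γ(X', O) (algebraMap Γ(S', W'.1) Γ(X', O) α') Γ(N, O) =
      FlatCA.powTorsion Γ(X', O) C₀ Γ(N, O) :=
    FlatMain.powTorsion_congr (hρ α c₀ (FlatMain.exists_dvd_pow W α c₀ hbo.le))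
      (hρ c₀ α (FlatMain.exists_dvd_pow W c₀ α hbo.ge))
  rw [heq] at hfree
  exact ⟨⟨O, hOaff⟩, C₀, g, x, (hxq g).2 hg, hp₂x, hc, hfree⟩

attribute [local instance] RingHomInvPair.of_ringEquiv in
/-- Free localized sections give a free neighbourhood. -/
theorem exists_free_nhd {Y : Scheme.{u}} (M : Y.Modules) [M.IsQuasicoherent] (O : Y.affineOpens)
    (g : Γ(Y, O.1)) [Module.Finite Γ(Y, O.1) Γ(M, O.1)]
    (hfree : Module.Free (Localization.Away g) (LocalizedModule (Submonoid.powers g) Γ(M, O.1))) :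
    ∃ n : ℕ, Nonempty (M.restrict (Y.basicOpen g).ι ≅ FlatMod.freeMod (Y.basicOpen g) n) := by
  haveI := O.2.isLocalization_basicOpen g
  letI := LimTop.resModule M g
  letI : Algebra Γ(Y, O.1) Γ(Y, Y.basicOpen g) := (QCoh.rres (Y.basicOpen_le g)).hom.toAlgebra
  haveI : IsScalarTower Γ(Y, O.1) Γ(Y, Y.basicOpen g) Γ(M, Y.basicOpen g) :=
    IsScalarTower.of_algebraMap_smul fun _ _ => rfl
  haveI : IsLocalization (Submonoid.powers g) Γ(Y, Y.basicOpen g) :=
    (O.2.isLocalization_basicOpen g : IsLocalization.Away g _)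
  haveI : IsLocalizedModule (Submonoid.powers g) (LimTop.resLin M g) :=
    LimTop.isLocalizedModule_resLin M O.2 g
  set e := (IsLocalization.algEquiv (Submonoid.powers g)
      (Localization (Submonoid.powers g)) Γ(Y, Y.basicOpen g)).toRingEquiv
  let e' : LocalizedModule.Away g Γ(M, O.1) ≃ₛₗ[(e : Localization (Submonoid.powers g) →+* Γ(Y, Y.basicOpen g))]
      Γ(M, Y.basicOpen g) := by
    refine { __ := IsLocalizedModule.iso (Submonoid.powers g) (LimTop.resLin M g), map_smul' := ?_ }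
    intro r y
    obtain ⟨r, s, rfl⟩ := IsLocalization.exists_mk'_eq (Submonoid.powers g) r
    apply ((Module.End.isUnit_iff _).mp
      (IsLocalizedModule.map_units (LimTop.resLin M g) s)).1
    simp [e, ← map_smul, ← smul_assoc]
  have hfree₂ : Module.Free Γ(Y, Y.basicOpen g) Γ(M, Y.basicOpen g) :=
    (Module.Free.iff_of_equiv (σ := e) e').mp hfree
  haveI : Module.Finite Γ(Y, Y.basicOpen g) Γ(M, Y.basicOpen g) :=
    Module.Finite.of_isLocalizedModule (Submonoid.powers g) (LimTop.resLin M g)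
  let b := Module.Free.chooseBasis Γ(Y, Y.basicOpen g) Γ(M, Y.basicOpen g)
  obtain ⟨k, ⟨q⟩⟩ := Finite.exists_equiv_fin
    (Module.Free.ChooseBasisIndex Γ(Y, Y.basicOpen g) Γ(M, Y.basicOpen g))
  exact Props.QProj.nonempty_restrict_iso_free M (O.2.basicOpen g) (b.reindex q)

end Groth.Agent.RG.GenFreeMain
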