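import Groth.Agent.RG.ValStage
import Mathlib.Algebra.Colimit.Ring
import Mathlib.RingTheory.IsTensorProduct

/-!
# Good rings for flattening

`Good t M G`: the quotient of `(G ⊗ B₀) ⊗ M` by its `t`-power torsion is flat over `G` and finitely
presented over `G ⊗ B₀`.

* `Good.map`: goodness is stable under base change to a ring where `t` is regular.
* `exists_good`: in a directed system whose colimit is local and semi-valuative some stage is good.
-/

set_option autoImplicit false
set_option maxHeartbeats 400000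
set_option linter.style.haveILetI false

universe u

open TensorProduct

attribute [local instance] Algebra.TensorProduct.rightAlgebra

namespace Groth.Agent.RG.GoodRing

open ValStage

variable {A₀ B₀ : Type u} [CommRing A₀] [CommRing B₀] [Algebra A₀ B₀] (t : A₀) (M : Type u)
  [AddCommGroup M] [Module B₀ M] [Module A₀ M] [IsScalarTower A₀ B₀ M]

/-- The quotient of the base change by the torsion is flat and finitely presented. -/
def Good (G : Type u) [CommRing G] [Algebra A₀ G] : Prop :=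
  Module.Flat G (N (A₀ := A₀) (B₀ := B₀) M G ⧸
      FlatCA.powTorsion (G ⊗[A₀] B₀) (algebraMap A₀ _ t) (N (A₀ := A₀) (B₀ := B₀) M G)) ∧
    Module.FinitePresentation (G ⊗[A₀] B₀) (N (A₀ := A₀) (B₀ := B₀) M G ⧸
      FlatCA.powTorsion (G ⊗[A₀] B₀) (algebraMap A₀ _ t) (N (A₀ := A₀) (B₀ := B₀) M G))

variable {G G' : Type u} [CommRing G] [Algebra A₀ G] [CommRing G'] [Algebra A₀ G']

theorem pow_smul_eq (n : ℕ) (x : N (A₀ := A₀) (B₀ := B₀) M G) :
    algebraMap A₀ (G ⊗[A₀] B₀) t ^ n • x = t ^ n • x := by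
  rw [← map_pow, algebraMap_smul]

variable {t M}

/-- Goodness is stable under base change. -/
theorem Good.map (h : Good (B₀ := B₀) t M G) (φ : G →ₐ[A₀] G')
    (ht : algebraMap A₀ G' t ∈ nonZeroDivisors G') : Good (B₀ := B₀) t M G' := by
  classical
  obtain ⟨hfl, hfp⟩ := h
  let T := FlatCA.powTorsion (G ⊗[A₀] B₀) (algebraMap A₀ _ t) (N (A₀ := A₀) (B₀ := B₀) M G)
  letI : Algebra G G' := φ.toRingHom.toAlgebra
  haveI : IsScalarTower A₀ G G' := IsScalarTower.of_algebraMap_eq fun a => (φ.commutes a).symm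
  let K' : Submodule (G' ⊗[A₀] B₀) (N (A₀ := A₀) (B₀ := B₀) M G') :=
    Submodule.span _ (nMap M φ '' SetLike.coe T)
  have hK'le : K' ≤ FlatCA.powTorsion (G' ⊗[A₀] B₀) (algebraMap A₀ _ t) _ := by
    refine Submodule.span_le.2 ?_
    rintro _ ⟨k, hk, rfl⟩
    obtain ⟨m, hm⟩ := (FittLib.Strict.mem_powTorsion _ _).1 hk
    rw [pow_smul_eq] at hm
    exact (FittLib.Strict.mem_powTorsion _ _).2
      ⟨m, by rw [pow_smul_eq, ← LinearMap.map_smul_of_tower, hm, map_zero]⟩
  -- over `G`
  let g : N (A₀ := A₀) (B₀ := B₀) M G →ₗ[G] N (A₀ := A₀) (B₀ := B₀) M G' :=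
    { toFun := nMap M φ
      map_add' := map_add _
      map_smul' := fun c x => by
        show _ = c • nMap M φ x
        rw [← algebraMap_smul G' c (nMap M φ x)]
        rw [← algebraMap_smul (G ⊗[A₀] B₀) c x, ← algebraMap_smul (G' ⊗[A₀] B₀) (algebraMap G G' c),
          nMap_smul]
        congr 1 }
  have hg : IsBaseChange G' g := by
    refine IsBaseChange.of_equiv
      (((AlgebraTensorModule.congr (LinearEquiv.refl G' G') (mu M G)).trans
        (AlgebraTensorModule.cancelBaseChange A₀ G G' G' M)).trans (mu M G').symm) fun x => ?_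
    apply (mu M G').injective
    show _ = mu M G' (nMap M φ x)
    rw [mu_nMap]
    simp only [LinearEquiv.trans_apply, LinearEquiv.apply_symm_apply]
    rw [AlgebraTensorModule.congr_tmul, LinearEquiv.refl_apply]
    generalize mu M G x = y
    induction y using TensorProduct.induction_on with
    | zero => simp
    | tmul c m => simp [Algebra.smul_def]; rfl
    | add a b ha hb => rw [TensorProduct.tmul_add, map_add, map_add, ha, hb]
  have hflat : Module.Flat G' (N (A₀ := A₀) (B₀ := B₀) M G' ⧸ K') := by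
    obtain ⟨e⟩ := nonempty_quot_baseChange g hg (sMap φ) (nMap_smul M φ) (span_range_sMap φ) T
    haveI := hfl
    haveI : Module.Flat G' (G' ⊗[G] (N (A₀ := A₀) (B₀ := B₀) M G ⧸ T)) := Module.Flat.baseChange G G' _
    exact Module.Flat.of_linearEquiv e.symm
  -- over `G ⊗ B₀`
  have hfpK : Module.FinitePresentation (G' ⊗[A₀] B₀) (N (A₀ := A₀) (B₀ := B₀) M G' ⧸ K') := by
    letI : Algebra (G ⊗[A₀] B₀) (G' ⊗[A₀] B₀) := (sMap φ).toRingHom.toAlgebra
    haveI : IsScalarTower B₀ (G ⊗[A₀] B₀) (G' ⊗[A₀] B₀) := IsScalarTower.of_algebraMap_eq fun b => by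
      show (1 : G') ⊗ₜ b = sMap φ ((1 : G) ⊗ₜ b)
      simp [sMap]
    let g₁ : N (A₀ := A₀) (B₀ := B₀) M G →ₗ[G ⊗[A₀] B₀] N (A₀ := A₀) (B₀ := B₀) M G' :=
      { toFun := nMap M φ
        map_add' := map_add _
        map_smul' := fun c x => by
          show _ = c • nMap M φ x
          rw [nMap_smul, ← algebraMap_smul (G' ⊗[A₀] B₀) c (nMap M φ x)]
          rfl }
    have hg₁ : IsBaseChange (G' ⊗[A₀] B₀) g₁ := by
      refine IsBaseChange.of_equiv (AlgebraTensorModule.cancelBaseChange B₀ (G ⊗[A₀] B₀) (G' ⊗[A₀] B₀)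
        (G' ⊗[A₀] B₀) M) fun x => ?_
      show _ = nMap M φ x
      induction x using TensorProduct.induction_on with
      | zero => simp
      | tmul c m =>
        rw [AlgebraTensorModule.cancelBaseChange_tmul, nMap_tmul, Algebra.smul_def, mul_one]
        rfl
      | add a b ha hb => rw [TensorProduct.tmul_add, map_add, map_add, ha, hb]
    have hgen : Submodule.span (G' ⊗[A₀] B₀) (Set.range (sMap (B₀ := B₀) φ)) = ⊤ :=
      eq_top_iff.2 fun x _ => by
        rw [show x = x • sMap φ 1 by rw [map_one, smul_eq_mul, mul_one]]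
        exact Submodule.smul_mem _ _ (Submodule.subset_span ⟨1, rfl⟩)
    obtain ⟨e⟩ := nonempty_quot_baseChange g₁ hg₁ (sMap φ) (nMap_smul M φ) hgen T
    haveI := hfp
    haveI : Module.FinitePresentation (G' ⊗[A₀] B₀)
        ((G' ⊗[A₀] B₀) ⊗[G ⊗[A₀] B₀] (N (A₀ := A₀) (B₀ := B₀) M G ⧸ T)) :=
      FinitePresentation.of_isBaseChange (TensorProduct.mk (G ⊗[A₀] B₀) (G' ⊗[A₀] B₀) _ 1)
        (TensorProduct.isBaseChange _ _ _)
    exact Module.FinitePresentation.of_equiv e
  have hK' : K' = FlatCA.powTorsion (G' ⊗[A₀] B₀) (algebraMap A₀ _ t) _ := by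
    refine le_antisymm hK'le fun x hx => ?_
    obtain ⟨m, hm⟩ := (FittLib.Strict.mem_powTorsion _ _).1 hx
    rw [pow_smul_eq] at hm
    haveI := hflat
    have hreg : IsSMulRegular (N (A₀ := A₀) (B₀ := B₀) M G' ⧸ K') (algebraMap A₀ G' t ^ m) :=
      Module.Flat.isSMulRegular_of_nonZeroDivisors (pow_mem ht m)
    refine (Submodule.Quotient.mk_eq_zero K').1 (hreg.right_eq_zero_of_smul ?_)
    rw [← map_pow, algebraMap_smul, ← Submodule.Quotient.mk_smul, hm, Submodule.Quotient.mk_zero]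
  rw [hK'] at hflat hfpK
  exact ⟨hflat, hfpK⟩

section Colim

open ModPairLib.SemiVal.Ring

variable {ι : Type u} [Preorder ι] [IsDirectedOrder ι] [Nonempty ι] (F : ι → Type u)
  [∀ i, CommRing (F i)] [∀ i, Algebra A₀ (F i)] (f : ∀ i j, i ≤ j → F i →ₐ[A₀] F j)
  [DirectedSystem F fun i j h => f i j h]

/-- A directed system with local semi-valuative colimit has a good stage. -/
theorem exists_good [Algebra.FinitePresentation A₀ B₀] [Module.Finite B₀ M] [∀ i, Nontrivial (F i)]
    (htF : ∀ i, algebraMap A₀ (F i) t ∈ nonZeroDivisors (F i))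
    (hloc : ∀ i (x : F i), ∃ j h, IsUnit (f i j h x) ∨ IsUnit (1 - f i j h x))
    (hsv : ∀ i (x y c : F i) (n : ℕ), x * c = algebraMap A₀ (F i) t ^ n →
      ∃ j h, f i j h x ∣ f i j h y ∨ f i j h y ∣ f i j h x)
    (hflat : Module.Flat A₀ (LocalizedModule (Submonoid.powers t) M))
    (hfp : Module.FinitePresentation (Localization.Away (algebraMap A₀ B₀ t))
      (LocalizedModule (Submonoid.powers (algebraMap A₀ B₀ t)) M)) :
    ∃ i, Good (B₀ := B₀) t M (F i) := by
  classical
  let fr : ∀ i j, i ≤ j → F i →+* F j := fun i j h => (f i j h).toRingHom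
  haveI : DirectedSystem F fun i j h => fr i j h := ⟨fun i x => DirectedSystem.map_self (f := fun i j h => f i j h) x,
    fun k j i h₁ h₂ x => DirectedSystem.map_map (f := fun i j h => f i j h) h₁ h₂ x⟩
  let A := Ring.DirectLimit F fun i j h => fr i j h
  obtain ⟨i₀⟩ := ‹Nonempty ι›
  letI : Algebra A₀ A := ((Ring.DirectLimit.of F (fun i j h => fr i j h) i₀).comp (algebraMap A₀ (F i₀))).toAlgebra
  have hc : ∀ i (a : A₀), Ring.DirectLimit.of F (fun i j h => fr i j h) i (algebraMap A₀ (F i) a) = algebraMap A₀ A a := by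
    intro i a
    obtain ⟨k, hik, h0k⟩ := exists_ge_ge i i₀
    show _ = Ring.DirectLimit.of F (fun i j h => fr i j h) i₀ (algebraMap A₀ (F i₀) a)
    rw [← Ring.DirectLimit.of_f (hij := hik), ← Ring.DirectLimit.of_f (hij := h0k)]
    exact congrArg _ (((f i k hik).commutes a).trans ((f i₀ k h0k).commutes a).symm)
  let γ : ∀ i, F i →ₐ[A₀] A := fun i =>
    { Ring.DirectLimit.of F (fun i j h => fr i j h) i with commutes' := hc i }
  have hγ : ∀ i j h x, γ j (f i j h x) = γ i x := fun i j h x =>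
    Ring.DirectLimit.of_f (G := F) (f := fun i j h => fr i j h) h x
  have hsurj : ∀ a : A, ∃ i x, γ i x = a := fun a => Ring.DirectLimit.exists_of a
  have hzero : ∀ i x, γ i x = 0 → ∃ j h, f i j h x = 0 := fun i x hx => by
    obtain ⟨j, hj, hjx⟩ := Ring.DirectLimit.of.zero_exact (f' := fr) hx
    exact ⟨j, hj, hjx⟩
  haveI : Nontrivial A := by
    refine nontrivial_of_ne 1 0 fun h => ?_
    obtain ⟨j, hj, hj0⟩ := hzero i₀ 1 (by rw [map_one]; exact h)
    rw [map_one] at hj0
    exact one_ne_zero hj0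
  haveI : IsLocalRing A := IsLocalRing.of_isUnit_or_isUnit_one_sub_self fun a => by
    obtain ⟨i, x, rfl⟩ := hsurj a
    obtain ⟨j, h, hu | hu⟩ := hloc i x
    · exact Or.inl (hγ i j h x ▸ hu.map (γ j))
    · refine Or.inr ?_
      have := hu.map (γ j)
      rwa [map_sub, map_one, hγ] at this
  have htA : algebraMap A₀ A t ∈ nonZeroDivisors A := by
    rw [mem_nonZeroDivisors_iff_left]
    intro a ha
    obtain ⟨i, x, rfl⟩ := hsurj a
    rw [← (γ i).commutes, ← map_mul] at ha
    obtain ⟨j, h, hj⟩ := hzero i _ ha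
    rw [map_mul, AlgHom.commutes] at hj
    rw [← hγ i j h, (mem_nonZeroDivisors_iff_left.1 (htF j)) _ hj, map_zero]
  have hSV : SemiVal A (algebraMap A₀ A t) := by
    rintro x y ⟨n, c, hc'⟩
    obtain ⟨i, x, rfl⟩ := hsurj x
    obtain ⟨i', y, rfl⟩ := hsurj y
    obtain ⟨i'', c, rfl⟩ := hsurj c
    obtain ⟨k, hk, hk''⟩ := exists_ge_ge i i''
    obtain ⟨l, hl, hl'⟩ := exists_ge_ge k i'
    have heq : γ l (f i l (hk.trans hl) x * f i'' l (hk''.trans hl) c - algebraMap A₀ (F l) t ^ n) = 0 := by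
      rw [map_sub, map_mul, hγ, hγ, map_pow, AlgHom.commutes, hc', sub_self]
    obtain ⟨m, hm, hm0⟩ := hzero l _ heq
    rw [map_sub, map_mul, map_pow, AlgHom.commutes, sub_eq_zero] at hm0
    obtain ⟨j, hj, hd⟩ := hsv m _ (f l m hm (f i' l hl' y)) _ n hm0
    rcases hd with hd | hd
    · exact Or.inl (by simpa [hγ] using map_dvd (γ j) hd)
    · exact Or.inr (by simpa [hγ] using map_dvd (γ j) hd)
  exact exists_stage M F f γ hγ hsurj hzero t htA htF hSV hflat hfp

end Colim

end Groth.Agent.RG.GoodRing
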