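import Groth.Agent.RG.StrictSub
import Groth.Agent.Nagata.Birational
import Groth.Agent.Nagata.Piece
import Groth.Agent.ModPairLib.LimitBlowup
import Groth.Agent.BlowUp.Glue
import Groth.Agent.BlowUpProper.Basic
import Groth.Agent.BlowComp.Main

/-!
# Extending a proper birational morphism's inverse over an admissible blow-up
-/

set_option autoImplicit false
set_option maxHeartbeats 1600000
set_option backward.isDefEq.respectTransparency false
set_option backward.defeqAttrib.useBackward true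

universe u

open CategoryTheory CategoryTheory.Limits AlgebraicGeometry TopologicalSpace
open Groth.Agent.IdealSh

namespace Groth.Agent.RG.IsoNear

/-- Being an isomorphism over an open descends to smaller opens. -/
lemma isIso_restrict_of_le {X Y : Scheme.{u}} (f : X ⟶ Y) {U V : Y.Opens} (h : V ≤ U)
    [IsIso (f ∣_ U)] : IsIso (f ∣_ V) := by
  have e : U.ι ''ᵁ (U.ι ⁻¹ᵁ V) = V := by
    rw [Scheme.Hom.image_preimage_eq_opensRange_inf, Scheme.Opens.opensRange_ι, inf_eq_right.mpr h]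
  have h1 : IsIso ((f ∣_ U) ∣_ (U.ι ⁻¹ᵁ V)) := inferInstance
  have h2 := ((MorphismProperty.isomorphisms Scheme.{u}).arrow_mk_iso_iff
    (morphismRestrictRestrict f U (U.ι ⁻¹ᵁ V))).mp h1
  rwa [e] at h2


/-- If the proper `f : X ⟶ Y` is an isomorphism over `U = O ⊓ V`, then after blowing up `Y` in an
ideal with support `Vᶜ` there is a section of `X` over the preimage of `O`. -/
theorem exists_section {X Y : Scheme.{u}} [CompactSpace Y] [QuasiSeparatedSpace Y] (f : X ⟶ Y)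
    [IsProper f] (O V : Y.Opens) (hO : IsCompact (O : Set Y)) (hV : IsCompact (V : Set Y))
    (hiso : IsIso (f ∣_ (O ⊓ V))) :
    ∃ (𝓙 : Y.IdealSheafData) (Y' : Scheme.{u}) (c : Y' ⟶ Y) (s : (c ⁻¹ᵁ O).toScheme ⟶ X),
      BlowUp.IsBlowUp c 𝓙 ∧ BlowUp.IsFiniteTypeIdeal 𝓙 ∧ (𝓙.support : Set Y) = (V : Set Y)ᶜ ∧
      s ≫ f = (c ⁻¹ᵁ O).ι ≫ c := by
  have : CompactSpace O.toScheme := isCompact_iff_compactSpace.mp hO
  have : QuasiSeparatedSpace O.toScheme := quasiSeparatedSpace_of_quasiSeparated O.ι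
  have : QuasiCompact O.ι := QuasiCompact.of_comp _ (terminal.from Y)
  have hU : IsCompact ((O ⊓ V : Y.Opens) : Set Y) :=
    hO.inter_of_isOpen hV O.2 V.2
  let h := pullback.snd f O.ι
  let g := h ≫ O.ι
  have hpre : g ⁻¹ᵁ V ≤ g ⁻¹ᵁ (O ⊓ V) := fun z hz => ⟨(h z).2, hz⟩
  have : IsIso (g ∣_ (O ⊓ V)) := by
    rw [morphismRestrict_comp]
    have := ModPairLib.LimitBlowup.isIso_restrict_of_isPullback
      (IsPullback.of_hasPullback f O.ι) (O ⊓ V) (O.ι ⁻¹ᵁ (O ⊓ V)) rfl hiso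
    have : IsIso (O.ι ∣_ (O ⊓ V)) := by
      have hsurj : Surjective (O.ι ∣_ (O ⊓ V)) := ⟨fun y => by
        refine ⟨⟨⟨y.1, y.2.1⟩, y.2⟩, Subtype.ext ?_⟩
        rw [morphismRestrict_base]
        rfl⟩
      exact (isIso_iff_isOpenImmersion_and_surjective _).mpr ⟨inferInstance, hsurj⟩
    infer_instance
  obtain ⟨𝓙, Y', c, W, β, hβ, hc, hft, hsupp, hbl, hUW, -⟩ :=
    Nagata.Birational.exists_blowUp g (O ⊓ V) V inf_le_right hU hV hpre
  have : IsProper c := BlowUpProper.Basic.isProper hc hft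
  have : IsProper β := BlowUpProper.Basic.isProper hbl (FinType.comap g hft)
  have hWO : W ≤ c ⁻¹ᵁ O := fun w hw => by
    show c w ∈ O
    have : c w = g (β ⟨w, hw⟩) := by
      rw [← Scheme.Hom.comp_apply, ← hβ]; rfl
    rw [this]
    exact (h (β ⟨w, hw⟩)).2
  let j := Y'.homOfLE hWO
  have hj : j ≫ (c ∣_ O) = β ≫ h := by
    rw [← cancel_mono O.ι, Category.assoc, morphismRestrict_ι, Scheme.homOfLE_ι_assoc, hβ,
      Category.assoc]
  have : IsProper (j ≫ (c ∣_ O)) := hj ▸ inferInstance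
  have : IsProper j := IsProper.of_comp j (c ∣_ O)
  have hcl : IsClosed (Set.range j) := j.isClosedMap.isClosed_range
  have hOW : c ⁻¹ᵁ O ≤ W := by
    intro w hw
    by_contra hwW
    let N : Set Y' := (c ⁻¹ᵁ O).ι '' (Set.range j)ᶜ
    have hN : IsOpen N := (c ⁻¹ᵁ O).ι.isOpenEmbedding.isOpenMap _ hcl.isOpen_compl
    have hwN : w ∈ N := ⟨⟨w, hw⟩, fun ⟨t, ht⟩ => hwW (by
      have := congrArg (c ⁻¹ᵁ O).ι ht
      rw [← Scheme.Hom.comp_apply, Scheme.homOfLE_ι] at this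
      exact (show W.ι t = w from this) ▸ t.2), rfl⟩
    have := ModPairLib.Dense.isSchemeTheoreticallyDominant_interior hc.1
    have := ModPairLib.Dense.isAffineHom_interior hc.1
    have hd : DenseRange (ModPair.interior (𝓙.comap c)).ι :=
      (ModPair.interior (𝓙.comap c)).ι.denseRange
    obtain ⟨z, hz⟩ := hd.exists_mem_open hN ⟨w, hwN⟩
    obtain ⟨⟨v, hv⟩, hvj, hvz⟩ := hz
    have hvV : c v ∈ V := by
      by_contra hvV
      refine z.2 ?_
      show (ModPair.interior (𝓙.comap c)).ι z ∈ (𝓙.comap c).support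
      rw [Scheme.IdealSheafData.support_comap, ← hvz]
      show c v ∈ (𝓙.support : Set Y)
      rw [hsupp]
      exact hvV
    refine hvj ⟨⟨v, hUW ⟨hv, hvV⟩⟩, ?_⟩
    apply (c ⁻¹ᵁ O).ι.isOpenEmbedding.injective
    rw [← Scheme.Hom.comp_apply, Scheme.homOfLE_ι]
    rfl
  refine ⟨𝓙, Y', c, Y'.homOfLE hOW ≫ β ≫ pullback.fst f O.ι, hc, hft, hsupp, ?_⟩
  rw [Category.assoc, Category.assoc, pullback.condition, ← hβ, Scheme.homOfLE_ι_assoc]

end Groth.Agent.RG.IsoNear
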