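import Groth.Agent.RG.Stages
import Groth.Agent.RG.FlatAlg
import Groth.Agent.FlatSect.Basic
import Groth.Agent.Props.QApproxMain
import Groth.Agent.LimTop.ModSys

/-!
# Flattening of a module over one affine piece of the base
-/

set_option autoImplicit false
set_option maxHeartbeats 800000
set_option linter.style.haveILetI false

universe u

open AlgebraicGeometry CategoryTheory TopologicalSpace
open Groth.Agent.IdealSh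

attribute [local instance] Algebra.TensorProduct.rightAlgebra

namespace Groth.Agent.RG.ModPiece

variable {S S₁ : Scheme.{u}} (b₁ : S₁ ⟶ S) (R : S.affineOpens) (B : Type u) [CommRing B]
  [Algebra Γ(S, R.1) B] (Mv : Type u) [AddCommGroup Mv] [Module B Mv] [Module Γ(S, R.1) Mv]
  [IsScalarTower Γ(S, R.1) B Mv]

/-- Goodness on an affine piece. -/
def GoodPiece (W₀ : S₁.affineOpens) (eW₀ : W₀.1 ≤ b₁ ⁻¹ᵁ R.1) (t : Γ(S₁, W₀.1)) {T : Scheme.{u}}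
    (g : T ⟶ S₁) (W : T.affineOpens) (eW : W.1 ≤ g ⁻¹ᵁ W₀.1) : Prop :=
  letI : Algebra Γ(S, R.1) Γ(S₁, W₀.1) := (b₁.appLE R.1 W₀.1 eW₀).hom.toAlgebra
  Stages.GoodAt (B₀ := TensorProduct Γ(S, R.1) Γ(S₁, W₀.1) B) W₀ t
    (TensorProduct B (TensorProduct Γ(S, R.1) Γ(S₁, W₀.1) B) Mv) g W eW

variable [Algebra.FinitePresentation Γ(S, R.1) B] [Module.Finite B Mv] (U : S.Opens)
  (hfl₀ : ∀ r : Γ(S, R.1), S.basicOpen r ≤ U → Module.Flat Γ(S, R.1) (LocalizedModule (Submonoid.powers r) Mv))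
  (hfp₀ : ∀ r : Γ(S, R.1), S.basicOpen r ≤ U →
    Module.FinitePresentation (Localization.Away (algebraMap Γ(S, R.1) B r))
      (LocalizedModule (Submonoid.powers (algebraMap Γ(S, R.1) B r)) Mv))

variable [CompactSpace S₁] [QuasiSeparatedSpace S₁] (D : S₁.IdealSheafData)
  (hD : BlowUp.IsEffCartierIdeal D) (hDft : BlowUp.IsFiniteTypeIdeal D)
  (hDU : (D.support : Set S₁) = (((b₁ ⁻¹ᵁ U) : S₁.Opens) : Set S₁)ᶜ)

include hfl₀ hfp₀ hD hDft hDU in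
/-- One admissible ideal for a small chart. -/
theorem exists_ideal_small (hU : IsCompact ((b₁ ⁻¹ᵁ U : S₁.Opens) : Set S₁)) (W₀ : S₁.affineOpens)
    (eW₀ : W₀.1 ≤ b₁ ⁻¹ᵁ R.1) (t : Γ(S₁, W₀.1)) (ht : D.ideal W₀ = Ideal.span {t}) :
    ∃ K : Stages.Idx (b₁ ⁻¹ᵁ U), ∀ (T : Scheme.{u}) (g : T ⟶ S₁),
      BlowUp.IsEffCartierIdeal ((D * K.val).comap g) → ∀ x, g x ∈ W₀.1 →
        ∃ (W : T.affineOpens) (eW : W.1 ≤ g ⁻¹ᵁ W₀.1), x ∈ W.1 ∧ GoodPiece b₁ R B Mv W₀ eW₀ t g W eW := by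
  letI : Algebra Γ(S, R.1) Γ(S₁, W₀.1) := (b₁.appLE R.1 W₀.1 eW₀).hom.toAlgebra
  let s : Set Γ(S, R.1) := {r | S.basicOpen r ≤ U}
  obtain ⟨n, hn⟩ : t ∈ (Ideal.span (algebraMap Γ(S, R.1) Γ(S₁, W₀.1) '' s)).radical := by
    rw [Ideal.radical_eq_sInf, Submodule.mem_sInf]
    rintro q ⟨hq, hqp⟩
    by_contra htq
    let p : PrimeSpectrum Γ(S₁, W₀.1) := ⟨q, hqp⟩
    let y : S₁ := W₀.2.fromSpec p
    have hy : y ∈ S₁.basicOpen t := by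
      have : p ∈ W₀.2.fromSpec ⁻¹ᵁ S₁.basicOpen t := by
        rw [W₀.2.fromSpec_preimage_basicOpen]; exact htq
      exact this
    have hy' : y ∈ (W₀.1 : Set S₁) \ (D.support : Set S₁) := by
      rw [← Regular.basicOpen_eq_compl_support ht]; exact hy
    have hyU : b₁ y ∈ U := by
      have h2 := hy'.2
      rw [hDU] at h2
      exact not_not.1 h2
    obtain ⟨r, hrU, hyr⟩ := R.2.exists_basicOpen_le (V := U) ⟨b₁ y, hyU⟩ (eW₀ hy'.1)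
    have h3 : y ∈ S₁.basicOpen (b₁.appLE R.1 W₀.1 eW₀ r) := by
      rw [Scheme.basicOpen_appLE]; exact ⟨hy'.1, hyr⟩
    have h4 : p ∈ W₀.2.fromSpec ⁻¹ᵁ S₁.basicOpen (b₁.appLE R.1 W₀.1 eW₀ r) := h3
    rw [W₀.2.fromSpec_preimage_basicOpen] at h4
    exact h4 (hq (Ideal.subset_span ⟨r, hrU, rfl⟩))
  obtain ⟨hfl, hfp⟩ := FlatAlg.flat_fp_baseChange (A₀ := Γ(S₁, W₀.1)) (B := B) Mv t s hn
    (fun r hr => hfl₀ r hr) (fun r hr => hfp₀ r hr)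
  obtain ⟨𝓚, hK, h⟩ := Stages.exists_flattening
    (B₀ := TensorProduct Γ(S, R.1) Γ(S₁, W₀.1) B) W₀ t
    (TensorProduct B (TensorProduct Γ(S, R.1) Γ(S₁, W₀.1) B) Mv) D ht hD hDft hDU
    hU hfl hfp
  exact ⟨⟨𝓚, hK⟩, fun T g hg x hx => h T g hg x hx⟩

include hfl₀ hfp₀ hD hDft hDU in
/-- One admissible ideal for an affine piece. -/
theorem exists_ideal [QuasiCompact b₁] (hU : IsCompact ((b₁ ⁻¹ᵁ U : S₁.Opens) : Set S₁)) :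
    ∃ K : Stages.Idx (b₁ ⁻¹ᵁ U), ∀ (T : Scheme.{u}) (g : T ⟶ S₁),
      BlowUp.IsEffCartierIdeal ((D * K.val).comap g) → ∀ x, b₁ (g x) ∈ R.1 →
        ∃ (W₀ : S₁.affineOpens) (eW₀ : W₀.1 ≤ b₁ ⁻¹ᵁ R.1) (t : Γ(S₁, W₀.1)),
          D.ideal W₀ = Ideal.span {t} ∧ ∃ (W : T.affineOpens) (eW : W.1 ≤ g ⁻¹ᵁ W₀.1),
            x ∈ W.1 ∧ GoodPiece b₁ R B Mv W₀ eW₀ t g W eW := by
  classical
  have hch : ∀ y : (b₁ ⁻¹ᵁ R.1 : S₁.Opens), ∃ W₀ : S₁.affineOpens, (y : S₁) ∈ W₀.1 ∧ W₀.1 ≤ b₁ ⁻¹ᵁ R.1 ∧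
      ∃ t, D.ideal W₀ = Ideal.span {t} := fun y => by
    obtain ⟨W₀, h1, h2, t, -, h3⟩ := EffCartier.exists_equation hD y.1 (b₁ ⁻¹ᵁ R.1) y.2
    exact ⟨W₀, h1, h2, t, h3⟩
  choose W₀ hy hW₀ t ht using hch
  obtain ⟨σ, hσ⟩ := (b₁.isCompact_preimage R.2.isCompact).elim_finite_subcover
    (fun y : (b₁ ⁻¹ᵁ R.1 : S₁.Opens) => ((W₀ y).1 : Set S₁)) (fun y => (W₀ y).1.isOpen)
    (fun y hy' => Set.mem_iUnion.2 ⟨⟨y, hy'⟩, hy ⟨y, hy'⟩⟩)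
  choose K hK using fun y : (b₁ ⁻¹ᵁ R.1 : S₁.Opens) =>
    exists_ideal_small b₁ R B Mv U hfl₀ hfp₀ D hD hDft hDU hU (W₀ y) (hW₀ y) (t y) (ht y)
  refine ⟨⟨∏ y ∈ σ, (K y).val, FinType.admissible_prod _ _ σ fun y => (K y).prop⟩, fun T g hg x hx => ?_⟩
  obtain ⟨y, hyσ, hxy⟩ := Set.mem_iUnion₂.1 (hσ hx)
  have hg' : BlowUp.IsEffCartierIdeal ((D * (K y).val).comap g) := by
    have hmul := (Finset.mul_prod_erase σ (fun y => (K y).val) hyσ).symm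
    have hg2 : BlowUp.IsEffCartierIdeal ((D * ∏ y ∈ σ, (K y).val).comap g) := hg
    rw [hmul, ← mul_assoc, Comap.comap_mul] at hg2
    exact EffCartier.factor_left hg2
  obtain ⟨W, eW, hxW, hgood⟩ := hK y T g hg' x hxy
  exact ⟨W₀ y, hW₀ y, t y, ht y, W, eW, hxW, hgood⟩

end Groth.Agent.RG.ModPiece
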