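import Groth.Agent.RG.Content
import Mathlib.RingTheory.Flat.Stability
import Mathlib.RingTheory.Flat.Localization
import Mathlib.RingTheory.Etale.Basic
import Mathlib.RingTheory.RingHom.FinitePresentation
import Mathlib.LinearAlgebra.Matrix.NonsingularInverse
import Mathlib.LinearAlgebra.Matrix.Determinant.Basic
import Mathlib.RingTheory.LocalRing.ResidueField.Ideal
import Mathlib.LinearAlgebra.Basis.VectorSpace
import Mathlib.RingTheory.Localization.Away.Basic

/-!
# Evaluation points separating elements independent in a fibre
-/

set_option autoImplicit false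

universe u

open TensorProduct

namespace Groth.Agent.RG.Points

variable {R S : Type u} [CommRing R] [CommRing S] [Algebra R S]

/-- The matrix of values of `y` at the points `σ`. -/
noncomputable def value {A T : Type u} [CommRing A] [Algebra R A] [CommRing T] [Algebra R T]
    (f : A →ₐ[R] T) (σ : S →ₐ[R] T) : A ⊗[R] S →ₐ[R] T :=
  Algebra.TensorProduct.lift f σ (fun _ _ => Commute.all _ _)

/-- Independence in a fibre passes to field extensions. -/
theorem linearIndependent_of_field {K L : Type u} [Field K] [Field L] [Algebra R K] [Algebra R L]
    (i : K →ₐ[R] L) {n : ℕ} {v : Fin n → K ⊗[R] S} (hv : LinearIndependent K v) :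
    LinearIndependent L fun k => Algebra.TensorProduct.map i (AlgHom.id R S) (v k) := by
  classical
  have hker : LinearMap.ker (Fintype.linearCombination K v) = ⊥ := by
    rw [LinearMap.ker_eq_bot']
    intro z hz
    exact funext (Fintype.linearIndependent_iff.1 hv z hz)
  obtain ⟨r, hr⟩ := (Fintype.linearCombination K v).exists_leftInverse_of_injective hker
  have hdual : ∀ k l, r (v k) l = if k = l then 1 else 0 := fun k l => by
    have := congrFun (LinearMap.congr_fun hr (Pi.single k 1)) l
    simp [Pi.single_apply, eq_comm] at this
    exact this.symm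
  let g : Fin n → (S →ₗ[R] K) := fun l =>
    { toFun := fun s => r (1 ⊗ₜ s) l
      map_add' := fun a b => by simp [TensorProduct.tmul_add]
      map_smul' := fun c a => by
        rw [TensorProduct.tmul_smul, ← algebraMap_smul K c ((1 : K) ⊗ₜ[R] a), map_smul]
        simp [Algebra.smul_def] }
  have hg : ∀ (l : Fin n) (z : K ⊗[R] S),
      TensorProduct.lift ((LinearMap.mul R L).compl₂ (i.toLinearMap ∘ₗ g l))
        (Algebra.TensorProduct.map i (AlgHom.id R S) z) = i (r z l) := by
    intro l z
    induction z using TensorProduct.induction_on with
    | zero => simp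
    | tmul a s =>
      have : a ⊗ₜ[R] s = a • ((1 : K) ⊗ₜ[R] s) := by
        rw [TensorProduct.smul_tmul', smul_eq_mul, mul_one]
      conv_rhs => rw [this, map_smul]
      simp [g]
    | add a b ha hb => simp [ha, hb]
  rw [Fintype.linearIndependent_iff]
  intro z hz l
  let G := TensorProduct.lift ((LinearMap.mul R L).compl₂ (i.toLinearMap ∘ₗ g l))
  have hG : ∀ (c : L) (w : L ⊗[R] S), G (c • w) = c * G w := fun c w => by
    induction w using TensorProduct.induction_on with
    | zero => simp
    | tmul a s => simp [G, TensorProduct.smul_tmul', mul_assoc]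
    | add a b ha hb => simp [smul_add, ha, hb, mul_add]
  have := congrArg G hz
  rw [map_zero, map_sum] at this
  simp only [hG] at this
  simp only [G, hg, hdual] at this
  simpa [apply_ite i] using this

theorem exists_points [Algebra.FinitePresentation R S] [Module.Flat R S]
    (hdom : ∀ (K : Type u) [Field K] [Algebra R K], IsDomain (K ⊗[R] S))
    (A : Type u) [CommRing A] [Algebra R A] (P : Ideal A) [P.IsPrime] :
    ∀ {n : ℕ} (y : Fin n → A ⊗[R] S),
      LinearIndependent P.ResidueField (fun k => Algebra.TensorProduct.map
        (IsScalarTower.toAlgHom R A P.ResidueField) (AlgHom.id R S) (y k)) →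
      ∃ (T : Type u) (_ : CommRing T) (_ : Algebra R T) (_ : Algebra A T) (_ : IsScalarTower R A T)
        (_ : Module.Flat A T) (_ : Algebra.FinitePresentation A T) (P' : Ideal T) (_ : P'.IsPrime),
        P'.comap (algebraMap A T) = P ∧ ∃ σ : Fin n → (S →ₐ[R] T),
          IsUnit (Matrix.of fun i j => value (IsScalarTower.toAlgHom R A T) (σ j) (y i)).det
  | 0, y, _ => ⟨A, inferInstance, inferInstance, inferInstance, inferInstance, inferInstance,
      inferInstance, P, inferInstance, by simp, Fin.elim0, by simp⟩
  | n + 1, y, hy => by
    classical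
    obtain ⟨T, _, _, _, _, _, _, P', _, hP', σ, hσ⟩ :=
      exists_points hdom A P (fun i => y i.castSucc) (hy.comp _ (Fin.castSucc_injective n))
    let U := T ⊗[R] S
    let aT := IsScalarTower.toAlgHom R A T
    let M : Matrix (Fin (n + 1)) (Fin (n + 1)) U := Matrix.of fun i j =>
      Fin.lastCases (Algebra.TensorProduct.map aT (AlgHom.id R S) (y i))
        (fun j' => algebraMap T U (value aT (σ j') (y i))) j
    let w := M.det
    let ψ : U →ₐ[R] P'.ResidueField ⊗[R] S :=
      Algebra.TensorProduct.map (IsScalarTower.toAlgHom R T P'.ResidueField) (AlgHom.id R S)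
    -- the residue field map
    let i₀ : P.ResidueField →ₐ[A] P'.ResidueField :=
      Ideal.ResidueField.mapₐ P P' (Algebra.ofId A T) hP'.symm
    let i : P.ResidueField →ₐ[R] P'.ResidueField := i₀.restrictScalars R
    have hind := linearIndependent_of_field i hy
    have hψy : ∀ k, ψ (Algebra.TensorProduct.map aT (AlgHom.id R S) (y k)) =
        Algebra.TensorProduct.map i (AlgHom.id R S)
          (Algebra.TensorProduct.map (IsScalarTower.toAlgHom R A P.ResidueField) (AlgHom.id R S) (y k)) := by
      intro k
      have : (IsScalarTower.toAlgHom R T P'.ResidueField).comp aT =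
          i.comp (IsScalarTower.toAlgHom R A P.ResidueField) := by
        ext a
        show algebraMap T P'.ResidueField (algebraMap A T a) = i₀ (algebraMap A P.ResidueField a)
        rw [i₀.commutes, ← IsScalarTower.algebraMap_apply A T P'.ResidueField]
      have e : ψ.comp (Algebra.TensorProduct.map aT (AlgHom.id R S)) =
          (Algebra.TensorProduct.map i (AlgHom.id R S)).comp
            (Algebra.TensorProduct.map (IsScalarTower.toAlgHom R A P.ResidueField) (AlgHom.id R S)) := by
        rw [← Algebra.TensorProduct.map_comp, ← Algebra.TensorProduct.map_comp, this]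
      exact AlgHom.congr_fun e (y k)
    have hψalg : ∀ t : T, ψ (algebraMap T U t) =
        algebraMap P'.ResidueField (P'.ResidueField ⊗[R] S) (algebraMap T P'.ResidueField t) := fun t => by
      simp [ψ, U, Algebra.TensorProduct.algebraMap_apply]
    -- cofactors along the last column
    let N : Fin (n + 1) → Matrix (Fin n) (Fin n) T := fun k =>
      Matrix.of fun a b => value aT (σ b) (y (k.succAbove a))
    have hw : ψ w = ∑ k : Fin (n + 1), (algebraMap T P'.ResidueField
        ((-1) ^ ((k : ℕ) + (n : ℕ)) * (N k).det)) •
          Algebra.TensorProduct.map i (AlgHom.id R S)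
            (Algebra.TensorProduct.map (IsScalarTower.toAlgHom R A P.ResidueField) (AlgHom.id R S) (y k)) := by
      simp only [w]
      rw [Matrix.det_succ_column M (Fin.last n), map_sum]
      refine Finset.sum_congr rfl fun k _ => ?_
      have hsub : M.submatrix k.succAbove (Fin.last n).succAbove =
          (algebraMap T U).mapMatrix (N k) := by
        ext a b
        simp [M, N, Fin.succAbove_last]
      rw [hsub, ← RingHom.map_det, Algebra.smul_def, ← hψy k, Fin.val_last]
      have hlast : M k (Fin.last n) = Algebra.TensorProduct.map aT (AlgHom.id R S) (y k) := by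
        simp [M]
      rw [hlast, mul_right_comm, map_mul, map_mul, map_pow, map_neg, map_one, hψalg, map_mul, map_mul,
        map_pow, map_neg, map_one, map_pow, map_neg, map_one]
    have hne : ψ w ≠ 0 := by
      rw [hw]
      intro h0
      have h1 := Fintype.linearIndependent_iff.1 hind _ h0 (Fin.last n)
      have hu : IsUnit ((-1 : T) ^ (((Fin.last n : Fin (n + 1)) : ℕ) + n) * (N (Fin.last n)).det) := by
        refine IsUnit.mul ((isUnit_one.neg).pow _) ?_
        convert hσ using 3
        simp [N, Fin.succAbove_last, aT]
      exact (hu.map (algebraMap T P'.ResidueField)).ne_zero h1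
    have := hdom P'.ResidueField
    let Q : Ideal U := RingHom.ker ψ.toRingHom
    have : Q.IsPrime := RingHom.ker_isPrime _
    have hwQ : w ∉ Q := hne
    let U' : Type u := Localization.Away w
    have : Module.Flat U U' := IsLocalization.flat U' (Submonoid.powers w)
    have : Module.Flat T U' := Module.Flat.trans T U U'
    have : Module.Flat A U' := Module.Flat.trans A T U'
    have : Algebra.FinitePresentation T U' := Algebra.FinitePresentation.trans T U U'
    have : Algebra.FinitePresentation A U' := Algebra.FinitePresentation.trans A T U'
    have hdisj : Disjoint (Submonoid.powers w : Set U) (Q : Set U) := by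
      rw [Set.disjoint_left]
      rintro _ ⟨m, rfl⟩ hm
      exact hwQ (Ideal.IsPrime.mem_of_pow_mem inferInstance m hm)
    have hQ' := IsLocalization.isPrime_of_isPrime_disjoint (Submonoid.powers w) U' Q inferInstance hdisj
    refine ⟨U', inferInstance, inferInstance, inferInstance, inferInstance, inferInstance,
      inferInstance, Q.map (algebraMap U U'), hQ', ?_, ?_⟩
    · have hc : (Q.map (algebraMap U U')).comap (algebraMap U U') = Q :=
        IsLocalization.comap_map_of_isPrime_disjoint (Submonoid.powers w) U' inferInstance hdisj
      rw [show algebraMap A U' = (algebraMap U U').comp ((algebraMap T U).comp (algebraMap A T)) from by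
          rw [← IsScalarTower.algebraMap_eq A T U, ← IsScalarTower.algebraMap_eq A U U'],
        ← Ideal.comap_comap, hc, ← Ideal.comap_comap]
      refine Eq.trans ?_ hP'
      congr 1
      ext t
      simp only [Q, Ideal.mem_comap, RingHom.mem_ker]
      show ψ (algebraMap T U t) = 0 ↔ t ∈ P'
      rw [hψalg, map_eq_zero_iff _ (algebraMap P'.ResidueField (P'.ResidueField ⊗[R] S)).injective,
        Ideal.algebraMap_residueField_eq_zero]
    · let κ : U →ₐ[R] U' := IsScalarTower.toAlgHom R U U'
      refine ⟨Fin.lastCases (κ.comp Algebra.TensorProduct.includeRight)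
        (fun j => (κ.comp (IsScalarTower.toAlgHom R T U)).comp (σ j)), ?_⟩
      have hu : IsUnit (κ w) := IsLocalization.Away.algebraMap_isUnit w
      refine (Eq.subst (motive := fun z => IsUnit z) ?_ hu)
      simp only [w]
      rw [AlgHom.map_det]
      symm
      congr 1
      ext a b
      induction b using Fin.lastCases with
      | last =>
        simp only [Matrix.of_apply, Fin.lastCases_last, AlgHom.mapMatrix_apply, Matrix.map_apply, M]
        have e : value (IsScalarTower.toAlgHom R A U') (κ.comp Algebra.TensorProduct.includeRight) =
            κ.comp (Algebra.TensorProduct.map aT (AlgHom.id R S)) := by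
          apply Algebra.TensorProduct.ext'
          intro a s
          simp [value, κ, aT, U, IsScalarTower.algebraMap_apply A T U', ← map_mul,
            IsScalarTower.algebraMap_apply T U U', Algebra.TensorProduct.algebraMap_apply]
        exact AlgHom.congr_fun e (y a)
      | cast b =>
        simp only [Matrix.of_apply, Fin.lastCases_castSucc, AlgHom.mapMatrix_apply, Matrix.map_apply, M]
        have e : value (IsScalarTower.toAlgHom R A U')
            ((κ.comp (IsScalarTower.toAlgHom R T U)).comp (σ b)) =
            (κ.comp (IsScalarTower.toAlgHom R T U)).comp (value aT (σ b)) := by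
          apply Algebra.TensorProduct.ext'
          intro a s
          simp [value, κ, aT, IsScalarTower.algebraMap_apply A T U',
            IsScalarTower.algebraMap_apply T U U']
        exact AlgHom.congr_fun e (y a)

/-- Elements with separating points: vanishing of a combination means vanishing of the
coefficients. -/
theorem map_eq_zero {A T B : Type u} [CommRing A] [Algebra R A] [CommRing T] [Algebra R T]
    [CommRing B] [Algebra R B] {n : ℕ} (y : Fin n → A ⊗[R] S) (a : Fin n → A) (f : A →ₐ[R] T)
    (σ : Fin n → (S →ₐ[R] T)) (hdet : IsUnit (Matrix.of fun i j => value f (σ j) (y i)).det)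
    (φ : T →ₐ[R] B)
    (h : Algebra.TensorProduct.map (φ.comp f) (AlgHom.id R S) (∑ k, a k • y k) = 0) (k : Fin n) :
    φ (f (a k)) = 0 := by
  classical
  let M := (Matrix.of fun i j => value f (σ j) (y i)).map φ
  have hu : IsUnit M.det := by
    have := hdet.map φ
    rwa [AlgHom.map_det, AlgHom.mapMatrix_apply] at this
  have h0 : Matrix.vecMul (fun k => φ (f (a k))) M = 0 := by
    funext j
    have e : (value (AlgHom.id R B) (φ.comp (σ j))).comp
        (Algebra.TensorProduct.map (φ.comp f) (AlgHom.id R S)) = φ.comp (value f (σ j)) := by
      apply Algebra.TensorProduct.ext'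
      intro x s
      simp [value]
    have h1 := congrArg (value (AlgHom.id R B) (φ.comp (σ j))) h
    rw [map_zero, ← AlgHom.comp_apply, e, map_sum] at h1
    rw [Pi.zero_apply, Matrix.vecMul, dotProduct]
    refine Eq.trans (Finset.sum_congr rfl fun k _ => ?_) h1
    simp [M, value, Algebra.smul_def, Algebra.TensorProduct.algebraMap_apply]
  have h2 : Matrix.vecMul (fun k => φ (f (a k))) (M * M⁻¹) = 0 := by
    rw [← Matrix.vecMul_vecMul, h0, Matrix.zero_vecMul]
  rw [Matrix.mul_nonsing_inv _ hu, Matrix.vecMul_one] at h2
  exact congrFun h2 k

end Groth.Agent.RG.Points
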