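import Groth.Agent.RG.GoodRing
import Groth.Agent.RG.StrictSub
import Groth.Agent.BlowComp.Main
import Groth.Agent.BlowUp.Glue
import Groth.Agent.BlowUp.FiniteBirational
import Groth.Agent.FlatMor.Strat.Global
import Groth.Agent.SpecTop.Basic

/-!
# Flattening on an admissible blow-up

Let `D` be an effective Cartier divisor on a quasi-compact quasi-separated scheme `S` with complement
`U`, cut out by `t` on the affine open `W₀`, and `M` a module over a finitely presented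
`Γ(W₀)`-algebra which is flat and finitely presented away from `t`.  Then there is an admissible
ideal `𝓚` such that wherever `D * 𝓚` becomes effective Cartier the strict transform of `M` is flat
and finitely presented.
-/

set_option autoImplicit false
set_option maxHeartbeats 800000
set_option linter.style.haveILetI false

universe u

open AlgebraicGeometry CategoryTheory TopologicalSpace Topology
open Groth.Agent.IdealSh

attribute [local instance] Algebra.TensorProduct.rightAlgebra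

namespace Groth.Agent.RG.Stages

variable {S : Scheme.{u}}

/-- Admissible ideals, ordered by divisibility. -/
structure Idx (U : S.Opens) where
  /-- the ideal -/
  val : S.IdealSheafData
  /-- admissibility -/
  prop : BlowUp.IsAdmissibleFor U val

variable {U : S.Opens}

instance : Preorder (Idx U) where
  le K L := ∃ M, L.val = K.val * M
  le_refl K := ⟨1, (mul_one _).symm⟩
  le_trans _ _ _ h h' := by
    obtain ⟨M, hM⟩ := h
    obtain ⟨M', hM'⟩ := h'
    exact ⟨M * M', by rw [hM', hM, mul_assoc]⟩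

instance : Nonempty (Idx U) := ⟨⟨⊤, FinType.admissible_top U⟩⟩

/-- The product of two indices. -/
def Idx.mul (K L : Idx U) : Idx U := ⟨K.val * L.val, FinType.admissible_mul K.prop L.prop⟩

theorem Idx.le_mul_left (K L : Idx U) : K ≤ K.mul L := ⟨L.val, rfl⟩

theorem Idx.le_mul_right (K L : Idx U) : L ≤ K.mul L := ⟨K.val, mul_comm _ _⟩

instance : IsDirectedOrder (Idx U) := ⟨fun K L => ⟨K.mul L, K.le_mul_left L, K.le_mul_right L⟩⟩

theorem isFiniteType_pow {X : Scheme.{u}} {I : X.IdealSheafData} (h : BlowUp.IsFiniteTypeIdeal I) :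
    ∀ n : ℕ, BlowUp.IsFiniteTypeIdeal (I ^ n)
  | 0 => by rw [pow_zero, Scheme.IdealSheafData.one_eq_top]; exact FinType.top
  | n + 1 => by rw [pow_succ]; exact FinType.mul (isFiniteType_pow h n) h

/-- A compatible family in an inverse system of nonempty closed subsets of compact Hausdorff spaces. -/
theorem exists_compatible {I : Type*} [Preorder I] [IsDirectedOrder I] [Nonempty I] {X : I → Type*}
    [∀ K, TopologicalSpace (X K)] [∀ K, CompactSpace (X K)] [∀ K, T2Space (X K)]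
    (h : ∀ {K L : I}, K ≤ L → X L → X K) (hh : ∀ {K L : I} (hKL : K ≤ L), Continuous (h hKL))
    (hcomp : ∀ {K L N : I} (h₁ : K ≤ L) (h₂ : L ≤ N) (z : X N), h h₁ (h h₂ z) = h (h₁.trans h₂) z)
    (Z : ∀ K, Set (X K)) (hZ : ∀ K, IsClosed (Z K)) (hne : ∀ K, (Z K).Nonempty)
    (hup : ∀ {K L : I} (hKL : K ≤ L) (x : X L), x ∈ Z L → h hKL x ∈ Z K) :
    ∃ x : ∀ K, X K, (∀ K, x K ∈ Z K) ∧ ∀ {K L : I} (hKL : K ≤ L), h hKL (x L) = x K := by
  classical
  let A := {p : I × I // p.1 ≤ p.2}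
  let C : A ⊕ I → Set (∀ K, X K) := fun a => match a with
    | .inl a => {s | h a.2 (s a.1.2) = s a.1.1}
    | .inr K => {s | s K ∈ Z K}
  have hC : ∀ a, IsClosed (C a) := by
    rintro (⟨⟨K, L⟩, hKL⟩ | K)
    · exact isClosed_eq ((hh hKL).comp (continuous_apply L)) (continuous_apply K)
    · exact (hZ K).preimage (continuous_apply K)
  obtain ⟨x, -, hx⟩ := isCompact_univ.inter_iInter_nonempty C hC fun F => by
    obtain ⟨N, hN⟩ := Finset.exists_le (F.image fun a => match a with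
      | .inl a => a.1.2
      | .inr K => K)
    obtain ⟨z, hz⟩ := hne N
    refine ⟨fun K => if hK : K ≤ N then h hK z else (hne K).choose, trivial, Set.mem_iInter₂.2 ?_⟩
    rintro (⟨⟨K, L⟩, hKL⟩ | K) ha
    · have hLN : L ≤ N := hN _ (Finset.mem_image_of_mem _ ha)
      show h hKL _ = _
      simp only [dif_pos hLN, dif_pos (hKL.trans hLN), hcomp]
    · have hKN : K ≤ N := hN _ (Finset.mem_image_of_mem _ ha)
      show _ ∈ Z K
      simp only [dif_pos hKN]
      exact hup hKN z hz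
  rw [Set.mem_iInter] at hx
  exact ⟨x, fun K => hx (.inr K), fun {K L} hKL => hx (.inl ⟨(K, L), hKL⟩)⟩

/-- The sections map of the identity. -/
theorem id_appLE {X : Scheme.{u}} (V W : X.Opens) (e : W ≤ V) :
    (𝟙 X : X ⟶ X).appLE V W e = X.presheaf.map (homOfLE e).op := by
  simp [Scheme.Hom.appLE]
  exact Category.id_comp _

/-- A stage with an affine open satisfying a condition. -/
structure Nb {I : Type u} (T : I → Scheme.{u}) (P : ∀ K, (T K).affineOpens → Prop) where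
  /-- the stage -/
  K : I
  /-- the open -/
  W : (T K).affineOpens
  /-- the condition -/
  h : P K W

variable (W₀ : S.affineOpens) (t : Γ(S, W₀.1)) {B₀ : Type u} [CommRing B₀] [Algebra Γ(S, W₀.1) B₀]
  (M : Type u) [AddCommGroup M] [Module B₀ M] [Module Γ(S, W₀.1) M] [IsScalarTower Γ(S, W₀.1) B₀ M]

/-- The algebra structure on the functions of an open over `W₀`. -/
@[reducible]
noncomputable def sectAlgebra {T : Scheme.{u}} (g : T ⟶ S) (W : T.Opens) (e : W ≤ g ⁻¹ᵁ W₀.1) :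
    Algebra Γ(S, W₀.1) Γ(T, W) :=
  (g.appLE W₀.1 W e).hom.toAlgebra

/-- Good affine opens over `W₀`. -/
def GoodAt {T : Scheme.{u}} (g : T ⟶ S) (W : T.affineOpens) (e : W.1 ≤ g ⁻¹ᵁ W₀.1) : Prop :=
  letI := sectAlgebra W₀ g W.1 e
  GoodRing.Good (B₀ := B₀) t M Γ(T, W.1)

variable (D : S.IdealSheafData) (hW₀ : D.ideal W₀ = Ideal.span {t})

include hW₀ in
theorem appLE_mem_nonZeroDivisors {T : Scheme.{u}} (g : T ⟶ S)
    (hg : BlowUp.IsEffCartierIdeal (D.comap g)) (W : T.affineOpens) (e : W.1 ≤ g ⁻¹ᵁ W₀.1) :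
    g.appLE W₀.1 W.1 e t ∈ nonZeroDivisors Γ(T, W.1) :=
  BlowUp.FiniteBirational.generator_mem_nonZeroDivisors hg W _
    (Comap.ideal_comap_span_singleton D g W₀ W e hW₀)

include hW₀ in
/-- Goodness is inherited along morphisms. -/
theorem goodAt_of_hom {T T' : Scheme.{u}} (g : T ⟶ S) (h : T' ⟶ T) (g' : T' ⟶ S) (w : h ≫ g = g')
    (hg' : BlowUp.IsEffCartierIdeal (D.comap g'))
    (W : T.affineOpens) (e : W.1 ≤ g ⁻¹ᵁ W₀.1) (W' : T'.affineOpens) (hle : W'.1 ≤ h ⁻¹ᵁ W.1)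
    (e' : W'.1 ≤ g' ⁻¹ᵁ W₀.1) (hW : GoodAt (B₀ := B₀) W₀ t M g W e) :
    GoodAt (B₀ := B₀) W₀ t M g' W' e' := by
  subst w
  letI := sectAlgebra W₀ g W.1 e
  letI := sectAlgebra W₀ (h ≫ g) W'.1 e'
  let φ : Γ(T, W.1) →ₐ[Γ(S, W₀.1)] Γ(T', W'.1) :=
    { (h.appLE W.1 W'.1 hle).hom with
      commutes' := fun a => by
        show h.appLE W.1 W'.1 hle (g.appLE W₀.1 W.1 e a) = (h ≫ g).appLE W₀.1 W'.1 e' a
        rw [← CommRingCat.comp_apply, Scheme.Hom.appLE_comp_appLE] }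
  exact GoodRing.Good.map hW φ (appLE_mem_nonZeroDivisors W₀ t D hW₀ _ hg' W' e')

variable [CompactSpace S] [QuasiSeparatedSpace S] (hD : BlowUp.IsEffCartierIdeal D)
  (hDft : BlowUp.IsFiniteTypeIdeal D) (hDU : (D.support : Set S) = (U : Set S)ᶜ)

include hDft hDU in
/-- An ideal on a stage becomes invertible on a later stage. -/
theorem exists_refine {T : Scheme.{u}} {b : T ⟶ S} (K : Idx U) (hb : BlowUp.IsBlowUp b (D * K.val))
    (J : T.IdealSheafData) (hJ : BlowUp.IsFiniteTypeIdeal J) (hJU : ∀ x, b x ∈ U → x ∉ J.support) :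
    ∃ L : Idx U, K ≤ L ∧ ∀ (T' : Scheme.{u}) (g : T' ⟶ S) (h : T' ⟶ T), h ≫ b = g →
      BlowUp.IsEffCartierIdeal ((D * L.val).comap g) → BlowUp.IsEffCartierIdeal (J.comap h) := by
  obtain ⟨N, M₁, hM₁, hMc⟩ := BlowComp.Main.exists_ideal hb (FinType.mul hDft K.prop.1) J hJ
  have hdisj : Disjoint (((D * K.val).support : Closeds S) : Set S) (U : Set S) := by
    rw [Scheme.IdealSheafData.support_mul, Closeds.coe_sup, hDU]
    exact disjoint_compl_left.union_left K.prop.2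
  have hM₁U : Disjoint (M₁.support : Set S) (U : Set S) := by
    rw [Set.disjoint_right]
    intro s hs hsM
    have := BlowUp.Basic.isIso_restrict hb U hdisj.symm
    obtain ⟨w, hw⟩ := (b ∣_ U).homeomorph.surjective ⟨s, hs⟩
    let x := (b ⁻¹ᵁ U).ι w
    have hx : b x = s := by
      show b ((b ⁻¹ᵁ U).ι w) = s
      rw [← Scheme.Hom.comp_apply, ← morphismRestrict_ι, Scheme.Hom.comp_apply]
      exact congrArg Subtype.val hw
    have h1 : x ∈ (M₁.comap b).support := by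
      rw [Scheme.IdealSheafData.support_comap]
      show b x ∈ M₁.support
      rw [hx]
      exact hsM
    rw [hMc, Scheme.IdealSheafData.support_mul] at h1
    rcases h1 with hE | hJ'
    · by_cases hN : N = 0
      · subst hN
        rw [pow_zero, Scheme.IdealSheafData.one_eq_top, Scheme.IdealSheafData.support_top] at hE
        exact hE.elim
      · rw [Scheme.IdealSheafData.support_pow _ _ hN, Scheme.IdealSheafData.support_comap] at hE
        refine Set.disjoint_right.1 hdisj hs ?_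
        have hE' : b x ∈ (D * K.val).support := hE
        rwa [hx] at hE'
    · exact hJU x (hx.symm ▸ hs) hJ'
  refine ⟨K.mul ⟨M₁, hM₁, hM₁U⟩, K.le_mul_left _, fun T' g h w hg => ?_⟩
  have h1 : BlowUp.IsEffCartierIdeal (M₁.comap g) := by
    have : (D * (K.val * M₁)).comap g = D.comap g * K.val.comap g * M₁.comap g := by
      rw [Comap.comap_mul, Comap.comap_mul, mul_assoc]
    exact EffCartier.factor_right (this ▸ hg)
  rw [← w, Scheme.IdealSheafData.comap_comp, hMc, Comap.comap_mul] at h1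
  exact EffCartier.factor_right h1

include hW₀ hD hDft hDU in
/-- Existence of a flattening admissible ideal. -/
theorem exists_flattening [Algebra.FinitePresentation Γ(S, W₀.1) B₀] [Module.Finite B₀ M]
    (hU : IsCompact (U : Set S))
    (hflat : Module.Flat Γ(S, W₀.1) (LocalizedModule (Submonoid.powers t) M))
    (hfp : Module.FinitePresentation (Localization.Away (algebraMap Γ(S, W₀.1) B₀ t))
      (LocalizedModule (Submonoid.powers (algebraMap Γ(S, W₀.1) B₀ t)) M)) :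
    ∃ 𝓚 : S.IdealSheafData, BlowUp.IsAdmissibleFor U 𝓚 ∧
      ∀ (T : Scheme.{u}) (g : T ⟶ S), BlowUp.IsEffCartierIdeal ((D * 𝓚).comap g) →
        ∀ x, g x ∈ W₀.1 → ∃ (W : T.affineOpens) (e : W.1 ≤ g ⁻¹ᵁ W₀.1), x ∈ W.1 ∧
          GoodAt (B₀ := B₀) W₀ t M g W e := by
  classical
  choose T b hb using fun K : Idx U => BlowUp.Glue.exists_isBlowUp S (D * K.val)
  have hcart : ∀ {K L : Idx U}, K ≤ L → ∀ {T' : Scheme.{u}} (g : T' ⟶ S),
      BlowUp.IsEffCartierIdeal ((D * L.val).comap g) → BlowUp.IsEffCartierIdeal ((D * K.val).comap g) := by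
    intro K L hKL T' g hg
    obtain ⟨M', hM'⟩ := hKL
    rw [hM', ← mul_assoc, Comap.comap_mul] at hg
    exact EffCartier.factor_left hg
  have hDc : ∀ (K : Idx U) {T' : Scheme.{u}} (g : T' ⟶ S),
      BlowUp.IsEffCartierIdeal ((D * K.val).comap g) → BlowUp.IsEffCartierIdeal (D.comap g) := by
    intro K T' g hg
    rw [Comap.comap_mul] at hg
    exact EffCartier.factor_left hg
  have hhom : ∀ {K L : Idx U} (hKL : K ≤ L), ∃ h : T L ⟶ T K, h ≫ b K = b L := fun {K L} hKL =>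
    ((hb K).2 _ (b L) (hcart hKL _ (hb L).1)).exists
  choose h hh using @hhom
  have huniq : ∀ {K : Idx U} {Y : Scheme.{u}} (g₁ g₂ : Y ⟶ T K), g₁ ≫ b K = g₂ ≫ b K →
      BlowUp.IsEffCartierIdeal ((D * K.val).comap (g₂ ≫ b K)) → g₁ = g₂ := fun {K Y} g₁ g₂ h1 h2 =>
    ((hb K).2 Y (g₂ ≫ b K) h2).unique h1 rfl
  have hid : ∀ K, h (le_refl K) = 𝟙 (T K) := fun K => huniq _ _ (by rw [hh, Category.id_comp])
    (by rw [Category.id_comp]; exact (hb K).1)
  have hcomp : ∀ {K L N : Idx U} (h₁ : K ≤ L) (h₂ : L ≤ N), h h₂ ≫ h h₁ = h (h₁.trans h₂) :=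
    fun {K L N} h₁ h₂ => huniq _ _ (by rw [Category.assoc, hh, hh, hh])
      (by rw [hh]; exact hcart (h₁.trans h₂) _ (hb N).1)
  -- stages are quasi-compact quasi-separated
  have hprop : ∀ K, IsProper (b K) := fun K =>
    BlowUpProper.Basic.isProper (hb K) (FinType.mul hDft K.prop.1)
  haveI : ∀ K, CompactSpace (T K) := fun K => by
    haveI := hprop K
    exact QuasiCompact.compactSpace_of_compactSpace (b K)
  haveI : ∀ K, QuasiSeparatedSpace (T K) := fun K => by
    haveI := hprop K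
    exact quasiSeparatedSpace_of_quasiSeparated (b K)
  haveI : ∀ K, SpectralSpace (T K) := fun K => {}
  -- the bad points
  let bad : ∀ K, Set (T K) := fun K =>
    {x | b K x ∈ W₀.1 ∧ ∀ (W : (T K).affineOpens) (e : W.1 ≤ b K ⁻¹ᵁ W₀.1),
      GoodAt (B₀ := B₀) W₀ t M (b K) W e → x ∉ W.1}
  suffices hnone : ∃ K, bad K = ∅ by
    obtain ⟨K, hK⟩ := hnone
    refine ⟨K.val, K.prop, fun T' g hg x hx => ?_⟩
    obtain ⟨k, hk⟩ := ((hb K).2 T' g hg).exists
    have hkx : b K (k x) ∈ W₀.1 := by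
      rw [← Scheme.Hom.comp_apply, hk]; exact hx
    have hnb : k x ∉ bad K := by rw [hK]; exact id
    simp only [bad, Set.mem_ofPred_eq, not_and, not_forall, not_not] at hnb
    obtain ⟨W, e, hgood, hxW⟩ := hnb hkx
    obtain ⟨W', hxW', hle⟩ := Comap.exists_affine_le x (k ⁻¹ᵁ W.1) hxW
    have e' : W'.1 ≤ g ⁻¹ᵁ W₀.1 := by
      rw [← hk, Scheme.Hom.comp_preimage]
      exact hle.trans (k.preimage_mono e)
    exact ⟨W', e', hxW', goodAt_of_hom W₀ t M D hW₀ (b K) k g hk (hDc K g hg) W e W' hle e' hgood⟩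
  by_contra hcon
  push Not at hcon
  -- a compatible family of bad points
  have hcont : ∀ {K L : Idx U} (hKL : K ≤ L),
      @Continuous _ _ (constructibleTopology (T L)) (constructibleTopology (T K)) (h hKL) := by
    intro K L hKL
    refine SpecTop.continuous_cons_of_isSpectralMap ?_
    haveI : QuasiCompact (h hKL ≫ b K) := by
      rw [hh]; haveI := hprop L; infer_instance
    haveI := hprop K
    haveI : QuasiCompact (h hKL) := QuasiCompact.of_comp (h hKL) (b K)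
    exact quasiCompact_iff_isSpectralMap.1 inferInstance
  have hbad : ∀ K, @IsClosed _ (constructibleTopology (T K)) (bad K) := by
    intro K
    have h1 : @IsClosed _ (constructibleTopology (T K)) ((b K ⁻¹ᵁ W₀.1 : (T K).Opens) : Set (T K)) := by
      haveI := hprop K
      exact SpecTop.isClosed_cons_of_compactOpen (b K ⁻¹ᵁ W₀.1).isOpen
        ((b K).isCompact_preimage W₀.2.isCompact)
    have h2 : @IsClosed _ (constructibleTopology (T K)) {x : T K | ∀ (W : (T K).affineOpens) (e : W.1 ≤ b K ⁻¹ᵁ W₀.1),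
        GoodAt (B₀ := B₀) W₀ t M (b K) W e → x ∉ W.1} := by
      refine SpecTop.isClosed_cons_of_isClosed ?_
      rw [show {x : T K | ∀ (W : (T K).affineOpens) (e : W.1 ≤ b K ⁻¹ᵁ W₀.1),
        GoodAt (B₀ := B₀) W₀ t M (b K) W e → x ∉ W.1} =
          ⋂ (W : (T K).affineOpens) (e : W.1 ≤ b K ⁻¹ᵁ W₀.1)
            (_ : GoodAt (B₀ := B₀) W₀ t M (b K) W e), ((W.1 : Set (T K)))ᶜ by
        ext x; simp]
      exact isClosed_iInter fun W => isClosed_iInter fun _ => isClosed_iInter fun _ =>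
        W.1.isOpen.isClosed_compl
    exact @IsClosed.inter (T K) _ _ (constructibleTopology (T K)) h1 h2
  have hup : ∀ {K L : Idx U} (hKL : K ≤ L) (x : T L), x ∈ bad L → h hKL x ∈ bad K := by
    rintro K L hKL x ⟨hx₀, hx⟩
    refine ⟨by rw [← Scheme.Hom.comp_apply, hh]; exact hx₀, fun W e hgood hxW => ?_⟩
    obtain ⟨W', hxW', hle⟩ := Comap.exists_affine_le x (h hKL ⁻¹ᵁ W.1) hxW
    have e' : W'.1 ≤ b L ⁻¹ᵁ W₀.1 := by
      rw [← hh hKL, Scheme.Hom.comp_preimage]
      exact hle.trans ((h hKL).preimage_mono e)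
    exact hx W' e' (goodAt_of_hom W₀ t M D hW₀ (b K) (h hKL) (b L) (hh hKL) (hDc L _ (hb L).1)
      W e W' hle e' hgood) hxW'
  obtain ⟨x, hxbad, hxc⟩ := @exists_compatible (Idx U) _ _ _ (fun K => T K)
    (fun K => constructibleTopology (T K)) (fun K => SpecTop.compactSpace_cons (T K))
    (fun K => SpecTop.t2Space_cons (T K)) (fun {K L} hKL => h hKL) @hcont
    (fun {K L N} h₁ h₂ z => by rw [← Scheme.Hom.comp_apply, hcomp]) bad hbad hcon @hup
  -- the system of neighbourhoods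
  let ι := Nb (I := Idx U) T fun K W => x K ∈ W.1 ∧ W.1 ≤ b K ⁻¹ᵁ W₀.1
  letI : Preorder ι :=
    { le := fun p q => ∃ hle : p.K ≤ q.K, q.W.1 ≤ h hle ⁻¹ᵁ p.W.1
      le_refl := fun p => ⟨le_rfl, by rw [hid, Scheme.Hom.id_preimage]⟩
      le_trans := fun p q r ⟨h₁, h₁'⟩ ⟨h₂, h₂'⟩ => ⟨h₁.trans h₂, by
        rw [← hcomp h₁ h₂, Scheme.Hom.comp_preimage]
        exact h₂'.trans ((h h₂).preimage_mono h₁')⟩ }
  have hnew : ∀ (K : Idx U) (O : (T K).Opens), x K ∈ O →
      ∃ (W : (T K).affineOpens) (_ : x K ∈ W.1 ∧ W.1 ≤ b K ⁻¹ᵁ W₀.1), W.1 ≤ O := by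
    intro K O hO
    obtain ⟨W, hxW, hle⟩ := Comap.exists_affine_le (x K) (O ⊓ b K ⁻¹ᵁ W₀.1) ⟨hO, (hxbad K).1⟩
    exact ⟨W, ⟨hxW, hle.trans inf_le_right⟩, hle.trans inf_le_left⟩
  haveI : Nonempty ι := by
    obtain ⟨K⟩ := (inferInstance : Nonempty (Idx U))
    obtain ⟨W, hW, -⟩ := hnew K ⊤ trivial
    exact ⟨⟨K, W, hW⟩⟩
  haveI : IsDirectedOrder ι := by
    refine ⟨fun p q => ?_⟩
    have hp := p.K.le_mul_left q.K
    have hq := p.K.le_mul_right q.K
    obtain ⟨W, hW, hle⟩ := hnew (p.K.mul q.K) (h hp ⁻¹ᵁ p.W.1 ⊓ h hq ⁻¹ᵁ q.W.1)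
      ⟨(Scheme.Hom.mem_preimage _).2 (by rw [hxc]; exact p.h.1),
        (Scheme.Hom.mem_preimage _).2 (by rw [hxc]; exact q.h.1)⟩
    exact ⟨⟨_, W, hW⟩, ⟨hp, hle.trans inf_le_left⟩, ⟨hq, hle.trans inf_le_right⟩⟩
  let F : ι → Type u := fun p => Γ(T p.K, p.W.1)
  letI : ∀ p : ι, Algebra Γ(S, W₀.1) (F p) := fun p => sectAlgebra W₀ (b p.K) p.W.1 p.h.2
  let fmap : ∀ p q : ι, p ≤ q → F p →ₐ[Γ(S, W₀.1)] F q := fun p q hpq =>
    { ((h hpq.1).appLE p.W.1 q.W.1 hpq.2).hom with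
      commutes' := fun a => by
        show (h hpq.1).appLE p.W.1 q.W.1 hpq.2 ((b p.K).appLE W₀.1 p.W.1 p.h.2 a) =
          (b q.K).appLE W₀.1 q.W.1 q.h.2 a
        rw [← CommRingCat.comp_apply, Scheme.Hom.appLE_comp_appLE]
        simp only [hh] }
  haveI : DirectedSystem F fun p q hpq => fmap p q hpq := by
    refine ⟨fun p a => ?_, fun r q p h₁ h₂ a => ?_⟩
    · show (h (le_refl p).1).appLE p.W.1 p.W.1 _ a = a
      simp only [show h (le_refl p).1 = 𝟙 _ from hid _, id_appLE]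
      simp
    · show (h h₂.1).appLE q.W.1 r.W.1 h₂.2 ((h h₁.1).appLE p.W.1 q.W.1 h₁.2 a) =
        (h (h₁.trans h₂).1).appLE p.W.1 r.W.1 _ a
      rw [← CommRingCat.comp_apply, Scheme.Hom.appLE_comp_appLE]
      simp only [hcomp]
  haveI : ∀ p : ι, Nontrivial (F p) := fun p => by
    haveI : Nonempty p.W.1.toScheme := ⟨⟨x p.K, p.h.1⟩⟩
    infer_instance
  have htF : ∀ p : ι, algebraMap Γ(S, W₀.1) (F p) t ∈ nonZeroDivisors (F p) := fun p =>
    appLE_mem_nonZeroDivisors W₀ t D hW₀ _ (hDc _ _ (hb p.K).1) p.W p.h.2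
  -- shrinking
  have hshrink : ∀ (p : ι) (L : Idx U) (hL : p.K ≤ L) (O : (T L).Opens), x L ∈ O →
      ∃ (W : (T L).affineOpens) (hW : x L ∈ W.1 ∧ W.1 ≤ b L ⁻¹ᵁ W₀.1),
        W.1 ≤ O ∧ p ≤ (⟨L, W, hW⟩ : ι) := by
    intro p L hL O hO
    obtain ⟨W, hxW, hle⟩ := Comap.exists_affine_le (x L)
      (O ⊓ b L ⁻¹ᵁ W₀.1 ⊓ h hL ⁻¹ᵁ p.W.1)
      ⟨⟨hO, (hxbad L).1⟩, (Scheme.Hom.mem_preimage _).2 (by rw [hxc]; exact p.h.1)⟩
    exact ⟨W, ⟨hxW, hle.trans (inf_le_left.trans inf_le_right)⟩,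
      hle.trans (inf_le_left.trans inf_le_left), hL, hle.trans inf_le_right⟩
  have hunit : ∀ (p : ι) (a : F p), x p.K ∈ (T p.K).basicOpen a →
      ∃ q hq, IsUnit (fmap p q hq a) := by
    intro p a ha
    obtain ⟨W, hW, hWle, hpW⟩ := hshrink p p.K le_rfl _ ha
    refine ⟨⟨p.K, W, hW⟩, hpW, ?_⟩
    show IsUnit ((h hpW.1).appLE p.W.1 W.1 hpW.2 a)
    simp only [show h hpW.1 = 𝟙 _ from hid _, id_appLE]
    have hu := ((T p.K).toRingedSpace.isUnit_res_basicOpen a).map
      ((T p.K).presheaf.map (homOfLE hWle).op).hom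
    convert hu using 1
    show _ = ((T p.K).presheaf.map (homOfLE ((T p.K).basicOpen_le a)).op ≫
      (T p.K).presheaf.map (homOfLE hWle).op) a
    rw [← Functor.map_comp]
    rfl
  have hloc : ∀ (p : ι) (a : F p), ∃ q hq, IsUnit (fmap p q hq a) ∨ IsUnit (1 - fmap p q hq a) := by
    intro p a
    rcases IsLocalRing.isUnit_or_isUnit_one_sub_self ((T p.K).presheaf.germ p.W.1 (x p.K) p.h.1 a)
      with hu | hu
    · obtain ⟨q, hq, hq'⟩ := hunit p a ((Scheme.mem_basicOpen _ _ _ p.h.1).2 hu)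
      exact ⟨q, hq, Or.inl hq'⟩
    · rw [← map_one ((T p.K).presheaf.germ p.W.1 (x p.K) p.h.1).hom, ← map_sub] at hu
      obtain ⟨q, hq, hq'⟩ := hunit p (1 - a) ((Scheme.mem_basicOpen _ _ _ p.h.1).2 hu)
      exact ⟨q, hq, Or.inr (by rwa [map_sub, map_one] at hq')⟩
  have hsv : ∀ (p : ι) (a c d : F p) (n : ℕ), a * d = algebraMap Γ(S, W₀.1) (F p) t ^ n →
      ∃ q hq, fmap p q hq a ∣ fmap p q hq c ∨ fmap p q hq c ∣ fmap p q hq a := by
    intro p a c d n had
    obtain ⟨K, W, hxW, hWle⟩ := p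
    change Γ(T K, W.1) at a c d
    obtain ⟨J₀, hJ₀, hJ₀W, -⟩ := FlatMor.Strat.exists_extend_affine W (Ideal.span {a, c})
      ⟨{a, c}, by simp⟩
    let E := D.comap (b K)
    let J := J₀ ⊔ E ^ n
    have hEW : (E ^ n).ideal W = Ideal.span {(b K).appLE W₀.1 W.1 hWle t ^ n} := by
      rw [Scheme.IdealSheafData.ideal_pow, Pi.pow_apply,
        Comap.ideal_comap_span_singleton D (b K) W₀ W hWle hW₀, Ideal.span_singleton_pow]
    have hJW : J.ideal W = Ideal.span {a, c} := by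
      rw [Scheme.IdealSheafData.ideal_sup, Pi.sup_apply, hJ₀W, sup_eq_left, hEW,
        Ideal.span_singleton_le_iff_mem]
      have had' : a * d = (b K).appLE W₀.1 W.1 hWle t ^ n := had
      rw [← had', mul_comm]
      exact Ideal.mul_mem_left _ _ (Ideal.subset_span (Set.mem_insert _ _))
    have hJft : BlowUp.IsFiniteTypeIdeal J := fun V => by
      rw [Scheme.IdealSheafData.ideal_sup, Pi.sup_apply]
      exact Submodule.FG.sup (hJ₀ V) (isFiniteType_pow (FinType.comap (b K) hDft) n V)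
    have hJU : ∀ y, b K y ∈ U → y ∉ J.support := by
      intro y hyU hy
      have h1 : y ∈ (E ^ n).support := Scheme.IdealSheafData.support_antitone le_sup_right hy
      by_cases hn : n = 0
      · subst hn
        rw [pow_zero, Scheme.IdealSheafData.one_eq_top, Scheme.IdealSheafData.support_top] at h1
        exact h1.elim
      · rw [Scheme.IdealSheafData.support_pow _ _ hn, Scheme.IdealSheafData.support_comap] at h1
        have h2 : b K y ∈ (D.support : Set S) := h1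
        rw [hDU] at h2
        exact h2 hyU
    obtain ⟨L, hKL, hL⟩ := exists_refine D hDft hDU K (hb K) J hJft hJU
    have hcJ := hL _ (b L) (h hKL) (hh hKL) (hb L).1
    obtain ⟨V, hxV, hVle, e, he, hVe⟩ := EffCartier.exists_equation hcJ (x L)
      (b L ⁻¹ᵁ W₀.1 ⊓ h hKL ⁻¹ᵁ W.1)
      ⟨(hxbad L).1, (Scheme.Hom.mem_preimage _).2 (by rw [hxc]; exact hxW)⟩
    have hVW : V.1 ≤ h hKL ⁻¹ᵁ W.1 := hVle.trans inf_le_right
    let φ := ((h hKL).appLE W.1 V.1 hVW).hom
    have hspan : Ideal.span {φ a, φ c} = Ideal.span {e} := by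
      rw [← hVe, Comap.ideal_comap J (h hKL) W V hVW, hJW, Ideal.map_span, Set.image_pair]
    obtain ⟨α, hα⟩ := Ideal.mem_span_singleton'.1 (hspan ▸ Ideal.subset_span (Set.mem_insert _ _) :
      φ a ∈ Ideal.span {e})
    obtain ⟨β, hβ⟩ := Ideal.mem_span_singleton'.1
      (hspan ▸ Ideal.subset_span (Set.mem_insert_of_mem _ rfl) : φ c ∈ Ideal.span {e})
    obtain ⟨γ, δ, hγδ⟩ := Ideal.mem_span_pair.1 (hspan ▸ Ideal.mem_span_singleton_self e :
      e ∈ Ideal.span {φ a, φ c})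
    have hone : γ * α + δ * β = 1 := by
      refine sub_eq_zero.1 ((mem_nonZeroDivisors_iff_right.1 he) _ ?_)
      linear_combination hγδ + γ * hα + δ * hβ
    let p₁ : ι := ⟨L, V, hxV, hVle.trans inf_le_left⟩
    have hp₁ : (⟨K, W, hxW, hWle⟩ : ι) ≤ p₁ := ⟨hKL, hVW⟩
    have hg : IsUnit ((T L).presheaf.germ V.1 (x L) hxV (γ * α)) ∨
        IsUnit ((T L).presheaf.germ V.1 (x L) hxV (δ * β)) := by
      rcases IsLocalRing.isUnit_or_isUnit_one_sub_self
        ((T L).presheaf.germ V.1 (x L) hxV (γ * α)) with hu | hu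
      · exact Or.inl hu
      · refine Or.inr ?_
        rwa [← map_one ((T L).presheaf.germ V.1 (x L) hxV).hom, ← map_sub,
          show 1 - γ * α = δ * β by rw [← hone]; ring] at hu
    rcases hg with hu | hu
    · rw [map_mul, IsUnit.mul_iff] at hu
      obtain ⟨q, hq, hq'⟩ := hunit p₁ α ((Scheme.mem_basicOpen _ _ _ hxV).2 hu.2)
      refine ⟨q, hp₁.trans hq, Or.inl ?_⟩
      rw [← DirectedSystem.map_map (f := fun i j h => fmap i j h) hp₁ hq a,
        ← DirectedSystem.map_map (f := fun i j h => fmap i j h) hp₁ hq c]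
      show fmap p₁ q hq (φ a) ∣ fmap p₁ q hq (φ c)
      rw [← hα, ← hβ, map_mul, map_mul]
      exact mul_dvd_mul_right (hq'.dvd) _
    · rw [map_mul, IsUnit.mul_iff] at hu
      obtain ⟨q, hq, hq'⟩ := hunit p₁ β ((Scheme.mem_basicOpen _ _ _ hxV).2 hu.2)
      refine ⟨q, hp₁.trans hq, Or.inr ?_⟩
      rw [← DirectedSystem.map_map (f := fun i j h => fmap i j h) hp₁ hq a,
        ← DirectedSystem.map_map (f := fun i j h => fmap i j h) hp₁ hq c]
      show fmap p₁ q hq (φ c) ∣ fmap p₁ q hq (φ a)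
      rw [← hα, ← hβ, map_mul, map_mul]
      exact mul_dvd_mul_right (hq'.dvd) _
  obtain ⟨⟨K, W, hxW, hWle⟩, hgood⟩ :=
    GoodRing.exists_good (B₀ := B₀) (t := t) (M := M) F fmap htF hloc hsv hflat hfp
  exact (hxbad K).2 W hWle hgood hxW

end Groth.Agent.RG.Stages
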