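import Groth.Agent.ModPairLib.SemiVal.Ring
import Groth.Agent.FlatMisc.ValuationEFT
import Groth.Agent.RG.FreeBlow
import Mathlib.RingTheory.Flat.TorsionFree
import Mathlib.RingTheory.Localization.BaseChange

/-!
# Flattening over semi-valuation rings

Over a local ring `A` which is semi-valuative for the nonzerodivisor `t`, a `t`-torsion free module
which is flat after inverting `t` is flat; if it is finite over a finitely presented algebra and
finitely presented after inverting `t` then it is finitely presented.
-/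

set_option autoImplicit false
set_option maxHeartbeats 400000

universe u

open TensorProduct

namespace Groth.Agent.RG.ValFlat

open Groth.Agent.ModPairLib.SemiVal.Ring

section General

variable {R : Type u} [CommRing R] (P : Ideal R) {M : Type u} [AddCommGroup M] [Module R M]

/-- The image of `P ⊗ F` in `F`. -/
theorem surjective_smulTop {F : Type u} [AddCommGroup F] [Module R F] (y : F) (hy : y ∈ P • (⊤ : Submodule R F)) :
    ∃ x : P ⊗[R] F, TensorProduct.lift ((LinearMap.lsmul R F).comp P.subtype) x = y := by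
  refine Submodule.smul_induction_on hy (fun p hp w _ => ⟨⟨p, hp⟩ ⊗ₜ w, rfl⟩) (fun u v hu hv => ?_)
  obtain ⟨x, rfl⟩ := hu
  obtain ⟨x', rfl⟩ := hv
  exact ⟨x + x', map_add _ _ _⟩

/-- If `P ⊗ M → M` is injective and `F` is flat then `P F ⊗ M → F ⊗ M` is injective. -/
theorem injective_smulTop (hP : Function.Injective (P.subtype.rTensor M))
    (F : Type u) [AddCommGroup F] [Module R F] [Module.Flat R F] :
    Function.Injective ((P • (⊤ : Submodule R F)).subtype.rTensor M) := by
  let s : P ⊗[R] F →ₗ[R] (P • (⊤ : Submodule R F) : Submodule R F) :=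
    (TensorProduct.lift ((LinearMap.lsmul R F).comp P.subtype)).codRestrict _ (fun y => by
      induction y using TensorProduct.induction_on with
      | zero => rw [map_zero]; exact Submodule.zero_mem _
      | tmul p x => exact Submodule.smul_mem_smul p.2 trivial
      | add a b ha hb => rw [map_add]; exact Submodule.add_mem _ ha hb)
  have hs : Function.Surjective s := fun y => by
    obtain ⟨x, hx⟩ := surjective_smulTop P y.1 y.2
    exact ⟨x, Subtype.ext hx⟩
  let c : F ⊗[R] (P ⊗[R] M) →ₗ[R] F ⊗[R] M :=
    ((TensorProduct.lid R M).toLinearMap ∘ₗ P.subtype.rTensor M).lTensor F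
  have hc : Function.Injective c :=
    Module.Flat.lTensor_preserves_injective_linearMap _ ((TensorProduct.lid R M).injective.comp hP)
  have hcomm : ∀ w : (P ⊗[R] F) ⊗[R] M,
      c (TensorProduct.assoc R F P M ((TensorProduct.comm R P F).rTensor M w)) =
        (P • (⊤ : Submodule R F)).subtype.rTensor M (s.rTensor M w) := fun w => by
    induction w using TensorProduct.induction_on with
    | zero => simp
    | tmul x m =>
      induction x using TensorProduct.induction_on with
      | zero => simp
      | tmul p y => simp [c, s, TensorProduct.smul_tmul]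
      | add a b ha hb => simp only [TensorProduct.add_tmul, map_add, ha, hb]
    | add a b ha hb => simp only [map_add, ha, hb]
  rw [injective_iff_map_eq_zero]
  intro z hz
  obtain ⟨w, rfl⟩ := LinearMap.rTensor_surjective M hs z
  rw [← hcomm] at hz
  have h := hc (hz.trans (map_zero c).symm)
  rw [LinearEquiv.map_eq_zero_iff, LinearEquiv.map_eq_zero_iff] at h
  rw [h, map_zero]

/-- Tensoring modules over `R ⧸ P` with `M` is exact. -/
theorem injective_quot (hV : Module.Flat (R ⧸ P) ((R ⧸ P) ⊗[R] M))
    {N : Type u} [AddCommGroup N] [Module R N] [Module (R ⧸ P) N] [IsScalarTower R (R ⧸ P) N]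
    (K' : Submodule R N) : Function.Injective (K'.subtype.rTensor M) := by
  let KV : Submodule (R ⧸ P) N :=
    { K' with
      smul_mem' := fun v x hx => by
        obtain ⟨a, rfl⟩ := Ideal.Quotient.mk_surjective v
        change algebraMap R (R ⧸ P) a • x ∈ K'
        rw [algebraMap_smul]
        exact K'.smul_mem a hx }
  have hinjV : Function.Injective (KV.subtype.rTensor ((R ⧸ P) ⊗[R] M)) :=
    Module.Flat.rTensor_preserves_injective_linearMap KV.subtype KV.injective_subtype
  let e₁ := TensorProduct.AlgebraTensorModule.cancelBaseChange R (R ⧸ P) (R ⧸ P) KV M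
  let e₂ := TensorProduct.AlgebraTensorModule.cancelBaseChange R (R ⧸ P) (R ⧸ P) N M
  have hcomm : ∀ w, (KV.subtype.restrictScalars R).rTensor M (e₁ w) =
      e₂ (KV.subtype.rTensor ((R ⧸ P) ⊗[R] M) w) := fun w => by
    induction w using TensorProduct.induction_on with
    | zero => simp
    | tmul x y =>
      induction y using TensorProduct.induction_on with
      | zero => simp
      | tmul v m => simp [e₁, e₂]
      | add a b ha hb => simp only [TensorProduct.tmul_add, map_add, ha, hb]
    | add a b ha hb => simp only [map_add, ha, hb]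
  have hi : Function.Injective ((KV.subtype.restrictScalars R).rTensor M) := fun u v huv => by
    obtain ⟨u, rfl⟩ := e₁.surjective u
    obtain ⟨v, rfl⟩ := e₁.surjective v
    rw [hcomm, hcomm] at huv
    rw [hinjV (e₂.injective huv)]
  let g : K' →ₗ[R] KV :=
    { toFun := fun x => ⟨x.1, x.2⟩
      map_add' := fun _ _ => rfl
      map_smul' := fun a x => Subtype.ext rfl }
  let g' : KV →ₗ[R] K' :=
    { toFun := fun x => ⟨x.1, x.2⟩
      map_add' := fun _ _ => rfl
      map_smul' := fun a x => Subtype.ext rfl }
  intro u v huv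
  have h : ∀ w, g'.rTensor M (g.rTensor M w) = w := fun w => by
    rw [← LinearMap.rTensor_comp_apply, show g' ∘ₗ g = LinearMap.id from rfl, LinearMap.rTensor_id]
    rfl
  rw [← h u, ← h v]
  congr 1
  apply hi
  rw [← LinearMap.rTensor_comp_apply, ← LinearMap.rTensor_comp_apply,
    show KV.subtype.restrictScalars R ∘ₗ g = K'.subtype from rfl, huv]

/-- A submodule of a flat module containing `P F`. -/
theorem injective_of_smulTop_le (hP : Function.Injective (P.subtype.rTensor M))
    (hV : Module.Flat (R ⧸ P) ((R ⧸ P) ⊗[R] M))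
    {F : Type u} [AddCommGroup F] [Module R F] [Module.Flat R F]
    (K : Submodule R F) (hPF : P • (⊤ : Submodule R F) ≤ K) :
    Function.Injective (K.subtype.rTensor M) := by
  rw [injective_iff_map_eq_zero]
  intro z₂ hz₂0
  let V := R ⧸ P
  let j : (P • (⊤ : Submodule R F) : Submodule R F) →ₗ[R] K := Submodule.inclusion hPF
  let K' := LinearMap.range ((TensorProduct.mk R V F 1).comp K.subtype)
  let q₁ : K →ₗ[R] K' := ((TensorProduct.mk R V F 1).comp K.subtype).rangeRestrict
  have hex : Function.Exact j q₁ := by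
    intro x
    constructor
    · intro hx
      have h0 : (1 : V) ⊗ₜ[R] (x : F) = 0 := congrArg Subtype.val hx
      refine ⟨⟨(x : F), ?_⟩, Subtype.ext rfl⟩
      have := congrArg (TensorProduct.quotTensorEquivQuotSMul F P) h0
      rw [map_zero, ← map_one (Ideal.Quotient.mk P),
        TensorProduct.quotTensorEquivQuotSMul_mk_tmul, one_smul, Submodule.Quotient.mk_eq_zero] at this
      exact this
    · rintro ⟨⟨y, hy⟩, rfl⟩
      refine Subtype.ext ?_
      show (1 : V) ⊗ₜ[R] y = 0
      refine Submodule.smul_induction_on hy (fun p hp w _ => ?_) (fun u v hu hv => ?_)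
      · rw [TensorProduct.tmul_smul, TensorProduct.smul_tmul', ← Algebra.algebraMap_eq_smul_one,
          show algebraMap R V p = 0 from Ideal.Quotient.eq_zero_iff_mem.2 hp, TensorProduct.zero_tmul]
      · rw [TensorProduct.tmul_add, hu, hv, add_zero]
  have hq₁ : q₁.rTensor M z₂ = 0 := by
    apply injective_quot P hV K'
    rw [map_zero, ← LinearMap.rTensor_comp_apply]
    have h3 : K'.subtype ∘ₗ q₁ = (TensorProduct.mk R V F 1).comp K.subtype := LinearMap.ext fun _ => rfl
    rw [h3, LinearMap.rTensor_comp_apply, hz₂0, map_zero]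
  have hqs : Function.Surjective q₁ := LinearMap.surjective_rangeRestrict _
  letI : AddCommGroup K := Submodule.addCommGroup K
  letI : AddCommGroup K' := Submodule.addCommGroup K'
  have hE := rTensor_exact (M := (P • (⊤ : Submodule R F) : Submodule R F)) (N := K) (P := K') (f := j) (g := q₁) M hex hqs
  obtain ⟨w₂, hw₂⟩ := (hE z₂).1 hq₁
  have h5 : (P • (⊤ : Submodule R F)).subtype.rTensor M w₂ = 0 := by
    rw [← Submodule.subtype_comp_inclusion _ _ hPF, LinearMap.rTensor_comp_apply, hw₂, hz₂0]
  rw [← hw₂, injective_smulTop P hP F (h5.trans (map_zero _).symm), map_zero]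

/-- `Tor₁(J / I, M)` vanishes when `P` kills `J / I`. -/
theorem injective_of_killed (hP : Function.Injective (P.subtype.rTensor M))
    (hV : Module.Flat (R ⧸ P) ((R ⧸ P) ⊗[R] M))
    {I J : Type u} [AddCommGroup I] [Module R I] [AddCommGroup J] [Module R J]
    (incl : I →ₗ[R] J) (hi : Function.Injective incl)
    (hPJ : ∀ p ∈ P, ∀ x : J, p • x ∈ LinearMap.range incl) :
    Function.Injective (incl.rTensor M) := by
  classical
  rw [injective_iff_map_eq_zero]
  intro z hzJ
  let π : (J →₀ R) →ₗ[R] J := Finsupp.linearCombination R (id : J → J)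
  have hπ : Function.Surjective π := fun x => ⟨Finsupp.single x 1, by simp [π]⟩
  let K := (LinearMap.range incl).comap π
  let π' : K →ₗ[R] I := (LinearEquiv.ofInjective incl (hi)).symm.toLinearMap ∘ₗ
    π.restrict (fun _ hx => hx)
  have hincl : incl ∘ₗ π' = π ∘ₗ K.subtype := by
    ext x
    simp only [LinearMap.comp_apply, π', LinearEquiv.coe_toLinearMap]
    rw [← LinearEquiv.ofInjective_apply (f := incl) (h := hi),
      LinearEquiv.apply_symm_apply]
    rfl
  have hπ' : Function.Surjective π' := fun x => by
    obtain ⟨y, hy⟩ := hπ (incl x)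
    refine ⟨⟨y, show π y ∈ LinearMap.range incl from hy ▸ ⟨x, rfl⟩⟩,
      hi ?_⟩
    exact (LinearMap.congr_fun hincl _).trans hy
  obtain ⟨z₁, rfl⟩ := LinearMap.rTensor_surjective M hπ' z
  have h1 : K.subtype.rTensor M z₁ ∈ LinearMap.ker (π.rTensor M) := by
    rw [LinearMap.mem_ker, ← LinearMap.rTensor_comp_apply, ← hincl, LinearMap.rTensor_comp_apply]
    exact hzJ
  rw [(rTensor_exact (M := LinearMap.ker π) (N := J →₀ R) (P := J) (f := (LinearMap.ker π).subtype) (g := π) M (LinearMap.exact_subtype_ker_map π) hπ).linearMap_ker_eq] at h1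
  obtain ⟨w, hw⟩ := h1
  have hkerK : LinearMap.ker π ≤ K := fun x hx => by
    show π x ∈ LinearMap.range incl
    rw [LinearMap.mem_ker.1 hx]; exact Submodule.zero_mem _
  letI : AddCommGroup K := Submodule.addCommGroup K
  let z₂ := z₁ - (Submodule.inclusion hkerK).rTensor M w
  have hz₂ : π'.rTensor M z₂ = π'.rTensor M z₁ := by
    rw [map_sub, sub_eq_self, ← LinearMap.rTensor_comp_apply]
    have : π' ∘ₗ Submodule.inclusion hkerK = 0 := by
      refine LinearMap.ext fun x => hi ?_
      refine (LinearMap.congr_fun hincl _).trans ?_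
      exact (LinearMap.mem_ker.1 x.2).trans (map_zero _).symm
    rw [this, LinearMap.rTensor_zero]; rfl
  have hz₂0 : K.subtype.rTensor M z₂ = 0 := by
    rw [map_sub, ← LinearMap.rTensor_comp_apply, Submodule.subtype_comp_inclusion, hw, sub_self]
  rw [← hz₂]
  have hPF : P • (⊤ : Submodule R (J →₀ R)) ≤ K := Submodule.smul_le.2 fun p hp x _ => by
    show π (p • x) ∈ LinearMap.range incl
    rw [map_smul]
    exact hPJ p hp _
  rw [injective_of_smulTop_le P hP hV K hPF (hz₂0.trans (map_zero _).symm), map_zero]

end General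

variable {A : Type u} [CommRing A] [IsLocalRing A] {t : A}

section Module

variable (ht : t ∈ nonZeroDivisors A) (hsv : SemiVal A t) {M : Type u} [AddCommGroup M] [Module A M]

include ht hsv in
omit M in
/-- Multiplication by `t` is bijective on the prime of `t`-infinitely divisible elements. -/
theorem bijective_smul_prime :
    Function.Bijective (LinearMap.lsmul A (prime ht hsv) t) := by
  refine ⟨fun x y h => Subtype.ext ?_, fun x => ?_⟩
  · have h' : t * (x : A) = t * y := congrArg Subtype.val h
    exact (mul_cancel_left_mem_nonZeroDivisors ht).1 h'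
  · obtain ⟨y, hy⟩ := pow_dvd_of_not hsv x.2 1
    rw [pow_one] at hy
    have hyp : y ∈ prime ht hsv := by
      rintro ⟨n, hn⟩
      refine x.2 ⟨1 + n, ?_⟩
      rw [hy, pow_add, pow_one]
      exact mul_dvd_mul_left t hn
    exact ⟨⟨y, hyp⟩, Subtype.ext hy.symm⟩

include ht hsv in
/-- `t` is bijective on the tensor product with the prime. -/
theorem bijective_smul_prime_tensor :
    Function.Bijective (fun z : prime ht hsv ⊗[A] M => t • z) := by
  let e := LinearEquiv.ofBijective _ (bijective_smul_prime ht hsv)
  convert (e.rTensor M).bijective using 1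
  funext z
  induction z using TensorProduct.induction_on with
  | zero => simp
  | tmul x m =>
    rw [TensorProduct.smul_tmul']
    rfl
  | add a b ha hb => simp only [smul_add, map_add, ha, hb]

variable (hflat : Module.Flat A (LocalizedModule (Submonoid.powers t) M))

omit [IsLocalRing A] in
include hflat in
/-- Relations die after multiplying by a power of `t`. -/
theorem exists_pow_smul_eq_zero (I : Ideal A) (z : I ⊗[A] M)
    (hz : (I.subtype.rTensor M) z = 0) : ∃ k : ℕ, t ^ k • z = 0 := by
  let S := Submonoid.powers t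
  let ι := LocalizedModule.mkLinearMap S M
  have h1 : ι.lTensor I z = 0 := by
    refine Module.Flat.rTensor_preserves_injective_linearMap I.subtype I.injective_subtype ?_
    rw [map_zero, ← LinearMap.comp_apply, LinearMap.rTensor_comp_lTensor,
      ← LinearMap.lTensor_comp_rTensor, LinearMap.comp_apply, hz, map_zero]
  let L := Localization S
  let e : L ⊗[A] M ≃ₗ[A] LocalizedModule S M :=
    ((LocalizedModule.equivTensorProduct S M).restrictScalars A).symm
  have he : ∀ m, e ((1 : L) ⊗ₜ m) = ι m := fun m => by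
    simp [e, ι, L]
  let ψ : L ⊗[A] (I ⊗[A] M) ≃ₗ[A] I ⊗[A] LocalizedModule S M :=
    (TensorProduct.leftComm A L I M).trans (e.lTensor I)
  have hψ : ∀ w, ψ ((1 : L) ⊗ₜ w) = ι.lTensor I w := by
    intro w
    induction w using TensorProduct.induction_on with
    | zero => simp
    | tmul x m => simp [ψ, he]
    | add a b ha hb => rw [TensorProduct.tmul_add, map_add, map_add, ha, hb]
  have h2 : TensorProduct.mk A L (I ⊗[A] M) 1 z = 0 := ψ.injective (by rw [map_zero]; exact (hψ z).trans h1)
  have : IsLocalizedModule S (TensorProduct.mk A L (I ⊗[A] M) 1) :=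
    (isLocalizedModule_iff_isBaseChange S L _).2 (TensorProduct.isBaseChange _ _ _)
  obtain ⟨⟨_, k, rfl⟩, hk⟩ := IsLocalizedModule.exists_of_eq (S := S)
    (f := TensorProduct.mk A L (I ⊗[A] M) 1) (x₁ := z) (x₂ := 0) (by rw [h2, map_zero])
  exact ⟨k, by simpa [Submonoid.smul_def] using hk⟩

include hflat in
/-- `P ⊗ M → M` is injective. -/
theorem injective_prime_tensor :
    Function.Injective ((prime ht hsv).subtype.rTensor M) := by
  rw [injective_iff_map_eq_zero]
  intro z hz
  obtain ⟨k, hk⟩ := exists_pow_smul_eq_zero hflat _ z hz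
  induction k with
  | zero => simpa using hk
  | succ k ih =>
    rw [pow_succ', mul_smul] at hk
    refine ih ?_
    exact (bijective_smul_prime_tensor ht hsv).1 (hk.trans (smul_zero t).symm)

variable (htf : ∀ m : M, t • m = 0 → m = 0)

include htf in
omit [IsLocalRing A] in
theorem pow_torsionFree : ∀ (k : ℕ) (m : M), t ^ k • m = 0 → m = 0
  | 0, m, h => by simpa using h
  | k + 1, m, h => pow_torsionFree k m (htf _ (by rwa [← mul_smul, ← pow_succ']))

include htf in
/-- The reduction modulo the prime is torsion free over the valuation ring. -/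
theorem quot_torsionFree {a : A} (ha : a ∉ prime ht hsv) (m : M)
    (h : a • m ∈ prime ht hsv • (⊤ : Submodule A M)) : m ∈ prime ht hsv • (⊤ : Submodule A M) := by
  simp only [mem_prime, not_not] at ha
  obtain ⟨n, b, hb⟩ := ha
  have h1 : t ^ n • m ∈ prime ht hsv • (⊤ : Submodule A M) := by
    rw [hb, mul_comm, mul_smul]; exact Submodule.smul_mem _ _ h
  have h2 : ∀ x ∈ prime ht hsv • (⊤ : Submodule A M),
      ∃ y ∈ prime ht hsv • (⊤ : Submodule A M), x = t ^ n • y := by
    intro x hx
    refine Submodule.smul_induction_on hx (fun p hp w _ => ?_) (fun u v hu hv => ?_)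
    · obtain ⟨q, rfl⟩ := pow_dvd_of_not hsv hp n
      have hq : q ∈ prime ht hsv := by
        rintro ⟨l, hl⟩
        exact hp ⟨n + l, by rw [pow_add]; exact mul_dvd_mul_left _ hl⟩
      exact ⟨q • w, Submodule.smul_mem_smul hq trivial, by rw [mul_smul]⟩
    · obtain ⟨y, hy, rfl⟩ := hu
      obtain ⟨y', hy', rfl⟩ := hv
      exact ⟨y + y', Submodule.add_mem _ hy hy', (smul_add _ _ _).symm⟩
  obtain ⟨y, hy, hxy⟩ := h2 _ h1
  have : m = y := sub_eq_zero.1 (pow_torsionFree htf n _ (by rw [smul_sub, hxy, sub_self]))
  exact this ▸ hy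

include ht hsv htf in
/-- The reduction is flat over the valuation ring. -/
theorem flat_quot : Module.Flat (A ⧸ prime ht hsv) ((A ⧸ prime ht hsv) ⊗[A] M) := by
  classical
  let P := prime ht hsv
  haveI : P.IsPrime := isPrime_prime ht hsv
  let V := A ⧸ P
  have hq : ∀ x, x ∉ P ↔ ∃ n : ℕ, x ∣ t ^ n := fun x => by simp [P, mem_prime]
  haveI : ValuationRing V := valuationRing_quotient hsv P hq
  rw [Module.Flat.flat_iff_torsion_eq_bot_of_isBezout, Submodule.eq_bot_iff]
  intro z hz
  obtain ⟨⟨v, hv⟩, hvz⟩ := hz
  obtain ⟨a, rfl⟩ := Ideal.Quotient.mk_surjective v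
  have haP : a ∉ P := fun h => nonZeroDivisors.ne_zero hv (Ideal.Quotient.eq_zero_iff_mem.2 h)
  obtain ⟨m, rfl⟩ := TensorProduct.mk_surjective A M V Ideal.Quotient.mk_surjective z
  apply (TensorProduct.quotTensorEquivQuotSMul M P).injective
  rw [map_zero]
  rw [TensorProduct.mk_apply, ← map_one (Ideal.Quotient.mk P),
    TensorProduct.quotTensorEquivQuotSMul_mk_tmul, one_smul, Submodule.Quotient.mk_eq_zero]
  refine quot_torsionFree ht hsv htf haP m ?_
  rw [← Submodule.Quotient.mk_eq_zero, ← TensorProduct.quotTensorEquivQuotSMul_mk_tmul P a m]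
  have : (Ideal.Quotient.mk P a) ⊗ₜ[A] m = 0 := by
    rw [show (Ideal.Quotient.mk P a : V) = Ideal.Quotient.mk P a • (1 : V) by rw [smul_eq_mul, mul_one],
      ← TensorProduct.smul_tmul']
    exact hvz
  rw [this, map_zero]

include ht hsv hflat htf in
/-- Torsion free + flat away from `t` implies flat. -/
theorem flat_of_torsionFree : Module.Flat A M := by
  classical
  let P := prime ht hsv
  haveI : P.IsPrime := isPrime_prime ht hsv
  have hq : ∀ x, x ∉ P ↔ ∃ n : ℕ, x ∣ t ^ n := fun x => by simp [P, mem_prime]
  rw [Module.Flat.iff_rTensor_injective]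
  intro I hI
  rw [injective_iff_map_eq_zero]
  intro z hz
  by_cases hIP : I ≤ P
  swap
  · -- `I` is principal, generated by a divisor of a power of `t`
    obtain ⟨s, rfl⟩ := hI
    have hne : ∃ a ∈ s, a ∉ P := by
      by_contra h
      push Not at h
      exact hIP (Submodule.span_le.2 h)
    have key : ∀ s' : Finset A, (∃ a ∈ s', a ∉ P) → ∃ a ∈ s', a ∉ P ∧ ∀ b ∈ s', a ∣ b := by
      intro s'
      induction s' using Finset.induction_on with
      | empty => rintro ⟨a, ha, -⟩; simp at ha
      | insert b s'' hb ih =>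
        intro hne'
        by_cases h'' : ∃ a ∈ s'', a ∉ P
        · obtain ⟨a, has, haP, hdiv⟩ := ih h''
          rcases hsv a b ((hq a).1 haP) with hab | hba
          · exact ⟨a, Finset.mem_insert_of_mem has, haP, fun c hc => by
              rcases Finset.mem_insert.1 hc with rfl | hc
              · exact hab
              · exact hdiv c hc⟩
          · have hbP : b ∉ P := fun hbP => haP (by
              obtain ⟨d, rfl⟩ := hba; exact P.mul_mem_right d hbP)
            exact ⟨b, Finset.mem_insert_self _ _, hbP, fun c hc => by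
              rcases Finset.mem_insert.1 hc with rfl | hc
              · exact dvd_rfl
              · exact hba.trans (hdiv c hc)⟩
        · push Not at h''
          have hbP : b ∉ P := by
            obtain ⟨a, ha, haP⟩ := hne'
            rcases Finset.mem_insert.1 ha with rfl | ha
            · exact haP
            · exact absurd (h'' a ha) haP
          obtain ⟨n, hn⟩ := (hq b).1 hbP
          refine ⟨b, Finset.mem_insert_self _ _, hbP, fun c hc => ?_⟩
          rcases Finset.mem_insert.1 hc with rfl | hc
          · exact dvd_rfl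
          · exact hn.trans (pow_dvd_of_not hsv ((mem_prime (ha := ht) (h := hsv)).1 (h'' c hc)) n)
    obtain ⟨a, has, haP, hdiv⟩ := key s hne
    have hzform : ∀ w : Submodule.span A (s : Set A) ⊗[A] M,
        ∃ m, w = (⟨a, Submodule.subset_span has⟩ : Submodule.span A (s : Set A)) ⊗ₜ m := by
      intro w
      induction w using TensorProduct.induction_on with
      | zero => exact ⟨0, by simp⟩
      | tmul x m =>
        have : a ∣ (x : A) := by
          have hx : (x : A) ∈ Ideal.span {a} :=
            (Submodule.span_le (p := Ideal.span {a})).2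
              (fun b hb => Ideal.mem_span_singleton.2 (hdiv b hb)) x.2
          exact Ideal.mem_span_singleton.1 hx
        obtain ⟨d, hd⟩ := this
        refine ⟨d • m, ?_⟩
        rw [TensorProduct.tmul_smul, TensorProduct.smul_tmul']
        congr 1
        exact Subtype.ext (by rw [hd, SetLike.val_smul, smul_eq_mul, mul_comm])
      | add u v hu hv =>
        obtain ⟨m, rfl⟩ := hu
        obtain ⟨m', rfl⟩ := hv
        exact ⟨m + m', by rw [TensorProduct.tmul_add]⟩
    obtain ⟨m, rfl⟩ := hzform z
    obtain ⟨n, b, hb⟩ := (hq a).1 haP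
    have h0 : a • m = 0 := by
      simpa using congrArg (TensorProduct.lid A M) hz
    rw [pow_torsionFree htf n m (by rw [hb, mul_comm, mul_smul, h0, smul_zero]), TensorProduct.tmul_zero]
  -- `I` inside the prime
  obtain ⟨k, hk⟩ := exists_pow_smul_eq_zero hflat I z hz
  -- the saturation of `I` in `P`
  let J : Submodule A A :=
    { carrier := {x | x ∈ P ∧ ∃ k : ℕ, t ^ k * x ∈ I}
      add_mem' := fun {x y} ⟨hx, i, hi⟩ ⟨hy, j, hj⟩ => ⟨P.add_mem hx hy, i + j, by
        rw [mul_add]
        exact I.add_mem
          (by rw [pow_add, mul_comm (t ^ i), mul_assoc]; exact I.mul_mem_left _ hi)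
          (by rw [pow_add, mul_assoc]; exact I.mul_mem_left _ hj)⟩
      zero_mem' := ⟨P.zero_mem, 0, by simp⟩
      smul_mem' := fun c x ⟨hx, i, hi⟩ => ⟨P.mul_mem_left c hx, i, by
        rw [smul_eq_mul, mul_left_comm]; exact I.mul_mem_left c hi⟩ }
  have hIJ : I ≤ J := fun x hx => ⟨hIP hx, 0, by simpa using hx⟩
  have hsurjJ : ∀ x : J, ∃ y : J, t • y = x := by
    rintro ⟨x, hxP, i, hi⟩
    obtain ⟨⟨y, hy⟩, hyx⟩ := (bijective_smul_prime ht hsv).2 ⟨x, hxP⟩
    have hyx' : t * y = x := congrArg Subtype.val hyx
    exact ⟨⟨y, hy, i + 1, by rw [pow_succ, mul_assoc, hyx']; exact hi⟩, Subtype.ext hyx'⟩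
  have hbijJ : Function.Bijective (LinearMap.lsmul A J t) :=
    ⟨fun x y h => Subtype.ext ((mul_cancel_left_mem_nonZeroDivisors ht).1 (congrArg Subtype.val h)),
      hsurjJ⟩
  let incl : I →ₗ[A] J := Submodule.inclusion hIJ
  have hzJ : incl.rTensor M z = 0 := by
    have h : t ^ k • incl.rTensor M z = 0 := by rw [← map_smul, hk, map_zero]
    let e := (LinearEquiv.ofBijective _ hbijJ).rTensor M
    have he : ∀ w, t • w = e w := fun w => by
      induction w using TensorProduct.induction_on with
      | zero => simp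
      | tmul x m => rw [TensorProduct.smul_tmul']; rfl
      | add a b ha hb => simp only [smul_add, map_add, ha, hb]
    clear hk
    induction k with
    | zero => simpa using h
    | succ k ih =>
      refine ih ?_
      rw [pow_succ', mul_smul, he] at h
      exact e.injective (h.trans (map_zero e).symm)
  -- `P` kills `J / I`
  refine injective_of_killed P (injective_prime_tensor ht hsv hflat) (flat_quot ht hsv htf) incl
    (Submodule.inclusion_injective hIJ) ?_ (hzJ.trans (map_zero _).symm)
  rintro p hp ⟨x, hxP, i, hi⟩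
  obtain ⟨p', rfl⟩ := pow_dvd_of_not hsv hp i
  refine ⟨⟨p' * (t ^ i * x), I.mul_mem_left _ hi⟩, Subtype.ext ?_⟩
  show p' * (t ^ i * x) = t ^ i * p' * x
  ring

end Module

variable (ht : t ∈ nonZeroDivisors A) (hsv : SemiVal A t)

include ht hsv in
/-- Torsion free, finite over a finitely presented algebra, flat and finitely presented away from
`t` implies flat and finitely presented. -/
theorem flat_fp_of_torsionFree {B : Type u} [CommRing B] [Algebra A B] [Algebra.FinitePresentation A B]
    (M : Type u) [AddCommGroup M] [Module B M] [Module A M] [IsScalarTower A B M] [Module.Finite B M]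
    (htf : ∀ m : M, t • m = 0 → m = 0)
    (hflat : Module.Flat A (LocalizedModule (Submonoid.powers t) M))
    (hfp : Module.FinitePresentation (Localization.Away (algebraMap A B t))
      (LocalizedModule (Submonoid.powers (algebraMap A B t)) M)) :
    Module.Flat A M ∧ Module.FinitePresentation B M := by
  classical
  refine ⟨flat_of_torsionFree (ht := ht) (hsv := hsv) (hflat := hflat) (htf := htf), ?_⟩
  let P := prime ht hsv
  haveI : P.IsPrime := isPrime_prime ht hsv
  have hq : ∀ x, x ∉ P ↔ ∃ n : ℕ, x ∣ t ^ n := fun x => by simp [P, mem_prime]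
  haveI : ValuationRing (A ⧸ P) := valuationRing_quotient hsv P hq
  obtain ⟨M₂, i₁, i₂, i₃, q, hqs, hker⟩ := FreeBlow.exists_fp_cover (algebraMap A B t) M hfp
  letI : Module A M₂ := Module.compHom M₂ (algebraMap A B)
  haveI : IsScalarTower A B M₂ := IsScalarTower.of_algebraMap_smul fun _ _ => rfl
  let qA := q.restrictScalars A
  let K := LinearMap.ker qA
  let PB : Ideal B := P.map (algebraMap A B)
  -- `K` meets `P M₂` trivially
  have hmeet : ∀ u ∈ P • (⊤ : Submodule A M₂), q u = 0 → u = 0 := by
    intro u hu hqu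
    have : ∃ w : P ⊗[A] M₂, TensorProduct.lid A M₂ (P.subtype.rTensor M₂ w) = u := by
      refine Submodule.smul_induction_on hu (fun p hp w _ => ⟨⟨p, hp⟩ ⊗ₜ w, by simp⟩) (fun a b ha hb => ?_)
      obtain ⟨x, rfl⟩ := ha
      obtain ⟨y, rfl⟩ := hb
      exact ⟨x + y, by simp⟩
    obtain ⟨w, rfl⟩ := this
    have hnat : ∀ w : P ⊗[A] M₂, TensorProduct.lid A M (P.subtype.rTensor M (qA.lTensor P w)) =
        qA (TensorProduct.lid A M₂ (P.subtype.rTensor M₂ w)) := fun w => by
      induction w using TensorProduct.induction_on with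
      | zero => simp
      | tmul p m => simp [qA]
      | add a b ha hb => simp only [map_add, ha, hb]
    have h1 : qA.lTensor P w = 0 := by
      refine injective_prime_tensor ht hsv hflat ((TensorProduct.lid A M).injective ?_)
      rw [hnat, map_zero, map_zero]
      exact hqu
    obtain ⟨v, rfl⟩ := ((lTensor_exact P (LinearMap.exact_subtype_ker_map qA) hqs) w).1 h1
    suffices ∀ v : P ⊗[A] K, v = 0 by rw [this v, map_zero, map_zero, map_zero]
    intro v
    induction v using TensorProduct.induction_on with
    | zero => rfl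
    | tmul p k =>
      obtain ⟨m, hm⟩ := hker k.1 k.2
      have hmk : t ^ m • k = 0 := Subtype.ext (by
        show t ^ m • (k : M₂) = 0
        rw [← algebraMap_smul B, map_pow]
        exact hm)
      obtain ⟨p', hp'⟩ := pow_dvd_of_not hsv p.2 m
      have hp'P : p' ∈ P := by
        rintro ⟨l, hl⟩
        exact p.2 ⟨m + l, by rw [hp', pow_add]; exact mul_dvd_mul_left _ hl⟩
      rw [show p = t ^ m • (⟨p', hp'P⟩ : P) from Subtype.ext hp', TensorProduct.smul_tmul, hmk,
        TensorProduct.tmul_zero]
    | add a b ha hb => rw [ha, hb, add_zero]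
  -- the reductions
  let B' := B ⧸ PB
  letI : Algebra (A ⧸ P) B' := (Ideal.quotientMap PB (algebraMap A B) Ideal.le_comap_map).toAlgebra
  haveI : IsScalarTower A (A ⧸ P) B' := IsScalarTower.of_algebraMap_eq fun a => rfl
  haveI : Algebra.FiniteType (A ⧸ P) B' := Algebra.FiniteType.of_restrictScalars_finiteType A (A ⧸ P) B'
  have hmem : ∀ (N : Type u) [AddCommGroup N] [Module B N] [Module A N] [IsScalarTower A B N] (x : N),
      x ∈ PB • (⊤ : Submodule B N) ↔ x ∈ P • (⊤ : Submodule A N) := fun N _ _ _ _ x => by
    have := Ideal.smul_restrictScalars (S := B) P (⊤ : Submodule B N)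
    rw [Submodule.restrictScalars_top] at this
    rw [← this]; rfl
  let N₂ := M₂ ⧸ PB • (⊤ : Submodule B M₂)
  let N₁ := M ⧸ PB • (⊤ : Submodule B M)
  letI : Module (A ⧸ P) N₁ := Module.compHom N₁ (algebraMap (A ⧸ P) B')
  haveI : IsScalarTower (A ⧸ P) B' N₁ := IsScalarTower.of_algebraMap_smul fun _ _ => rfl
  haveI : Module.Finite B' N₁ := Module.Finite.of_restrictScalars_finite B B' N₁
  haveI : Module.Finite B' N₂ := Module.Finite.of_restrictScalars_finite B B' N₂
  have htfN : ∀ (v : A ⧸ P) (x : N₁), v • x = 0 → v = 0 ∨ x = 0 := by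
    intro v x hvx
    obtain ⟨a, rfl⟩ := Ideal.Quotient.mk_surjective v
    obtain ⟨m, rfl⟩ := Submodule.Quotient.mk_surjective _ x
    refine (em (a ∈ P)).imp Ideal.Quotient.eq_zero_iff_mem.2 fun haP => ?_
    rw [Submodule.Quotient.mk_eq_zero, hmem]
    refine quot_torsionFree ht hsv htf haP m ((hmem M _).1 ?_)
    rw [← algebraMap_smul B a m, ← Submodule.Quotient.mk_eq_zero, Submodule.Quotient.mk_smul]
    exact hvx
  have hfpN : Module.FinitePresentation B' N₁ := FlatMisc.ValuationEFT.finitePresentation N₁ htfN
  let qbar : N₂ →ₗ[B'] N₁ :=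
    { toFun := Submodule.mapQ _ _ q (by
        rw [← Submodule.map_le_iff_le_comap, Submodule.map_smul'']
        exact Submodule.smul_mono le_rfl le_top)
      map_add' := map_add _
      map_smul' := fun b x => by
        obtain ⟨b, rfl⟩ := Ideal.Quotient.mk_surjective b
        exact map_smul (Submodule.mapQ (PB • (⊤ : Submodule B M₂)) (PB • (⊤ : Submodule B M)) q _) b x }
  have hqbar : Function.Surjective qbar := fun x => by
    obtain ⟨m, rfl⟩ := Submodule.Quotient.mk_surjective _ x
    obtain ⟨m₂, rfl⟩ := hqs m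
    exact ⟨Submodule.Quotient.mk m₂, rfl⟩
  obtain ⟨G, hG⟩ := Module.FinitePresentation.fg_ker qbar hqbar
  have hlift : ∀ g ∈ G, ∃ k : M₂, q k = 0 ∧ Submodule.Quotient.mk (p := PB • ⊤) k = g := by
    intro g hg
    obtain ⟨x, rfl⟩ := Submodule.Quotient.mk_surjective _ g
    have h0 : qbar (Submodule.Quotient.mk x) = 0 := by
      rw [← LinearMap.mem_ker, ← hG]; exact Submodule.subset_span hg
    have h1 : q x ∈ Submodule.map q (PB • ⊤) := by
      rw [Submodule.map_smul'', Submodule.map_top, LinearMap.range_eq_top.2 hqs]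
      exact (Submodule.Quotient.mk_eq_zero _).1 h0
    obtain ⟨y, hy, hyx⟩ := h1
    exact ⟨x - y, by rw [map_sub, hyx, sub_self],
      (Submodule.Quotient.eq _).2 (by simpa using hy)⟩
  choose k hk0 hkg using hlift
  refine Module.finitePresentation_of_surjective q hqs ⟨G.attach.image (fun g => k g.1 g.2), ?_⟩
  refine le_antisymm (Submodule.span_le.2 ?_) fun u hu => ?_
  · intro x hx
    obtain ⟨g, -, rfl⟩ := Finset.mem_image.1 (Finset.mem_coe.1 hx)
    exact hk0 g.1 g.2
  let W := Submodule.span B ((G.attach.image fun g => k g.1 g.2 : Finset M₂) : Set M₂)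
  have h0 : (Submodule.Quotient.mk u : N₂) ∈ LinearMap.ker qbar := by
    rw [LinearMap.mem_ker]
    show Submodule.Quotient.mk (q u) = (0 : N₁)
    rw [LinearMap.mem_ker.1 hu]; rfl
  rw [← hG] at h0
  have key : ∀ y ∈ Submodule.span B' (G : Set N₂), ∃ w ∈ W, q w = 0 ∧ Submodule.Quotient.mk w = y := by
    intro y hy
    induction hy using Submodule.span_induction with
    | mem x hx =>
      exact ⟨k x hx, Submodule.subset_span (Finset.mem_coe.2 (Finset.mem_image.2 ⟨⟨x, hx⟩, Finset.mem_attach _ _, rfl⟩)),
        hk0 x hx, hkg x hx⟩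
    | zero => exact ⟨0, W.zero_mem, map_zero q, rfl⟩
    | add a b _ _ ha hb =>
      obtain ⟨x, hx, hx0, rfl⟩ := ha
      obtain ⟨y, hy, hy0, rfl⟩ := hb
      exact ⟨x + y, W.add_mem hx hy, by rw [map_add, hx0, hy0, add_zero], rfl⟩
    | smul c a _ ha =>
      obtain ⟨x, hx, hx0, rfl⟩ := ha
      obtain ⟨c, rfl⟩ := Ideal.Quotient.mk_surjective c
      exact ⟨c • x, W.smul_mem c hx, by rw [map_smul, hx0, smul_zero], rfl⟩
  obtain ⟨w, hwW, hw0, hwu⟩ := key _ h0
  have : u - w = 0 := by
    refine hmeet _ ((hmem M₂ _).1 ((Submodule.Quotient.eq _).1 hwu.symm)) ?_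
    rw [map_sub, hw0, LinearMap.mem_ker.1 hu, sub_self]
  rw [sub_eq_zero.1 this]
  exact hwW

end Groth.Agent.RG.ValFlat
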