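import Groth.Agent.RG.ValFlat
import Groth.Agent.FlatOpen.Descend
import Mathlib.LinearAlgebra.TensorProduct.DirectLimit
import Mathlib.RingTheory.TensorProduct.Quotient

/-!
# Flattening at a stage of a directed colimit with semi-valuative colimit
-/

set_option autoImplicit false
set_option maxHeartbeats 400000
set_option linter.style.haveILetI false

universe u

open TensorProduct

attribute [local instance] Algebra.TensorProduct.rightAlgebra

namespace Groth.Agent.RG.ValStage

section Quot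

variable {G G' S S' N N' : Type u} [CommRing G] [CommRing G'] [Algebra G G'] [CommRing S] [Algebra G S]
  [CommRing S'] [Algebra G' S'] [AddCommGroup N] [Module S N] [Module G N] [IsScalarTower G S N]
  [AddCommGroup N'] [Module S' N'] [Module G' N'] [IsScalarTower G' S' N'] [Module G N']
  [IsScalarTower G G' N']

/-- Base change of a quotient. -/
theorem nonempty_quot_baseChange (g : N →ₗ[G] N') (hg : IsBaseChange G' g) (σ : S → S')
    (hσ : ∀ s x, g (s • x) = σ s • g x) (hgen : Submodule.span G' (Set.range σ) = ⊤)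
    (K : Submodule S N) :
    Nonempty (G' ⊗[G] (N ⧸ K) ≃ₗ[G'] N' ⧸ Submodule.span S' (g '' (K : Set N))) := by
  let K' := Submodule.span S' (g '' (K : Set N))
  let π : N →ₗ[G] N ⧸ K := K.mkQ.restrictScalars G
  let q : N' →ₗ[G'] N' ⧸ K' := K'.mkQ.restrictScalars G'
  let ψ : N' →ₗ[G'] G' ⊗[G] (N ⧸ K) := hg.lift (TensorProduct.mk G G' (N ⧸ K) 1 ∘ₗ π)
  have hψg : ∀ x, ψ (g x) = 1 ⊗ₜ π x := fun x => hg.lift_eq _ x
  have hψK : ∀ y ∈ K', ψ y = 0 := by
    intro y hy
    suffices ∀ s' : S', ψ (s' • y) = 0 by simpa using this 1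
    induction hy using Submodule.span_induction with
    | mem z hz =>
      obtain ⟨k, hk, rfl⟩ := hz
      intro s'
      have hs' : s' ∈ Submodule.span G' (Set.range σ) := hgen ▸ trivial
      induction hs' using Submodule.span_induction with
      | mem w hw =>
        obtain ⟨s, rfl⟩ := hw
        rw [← hσ, hψg, show π (s • k) = 0 from (Submodule.Quotient.mk_eq_zero _).2 (K.smul_mem s hk),
          tmul_zero]
      | zero => rw [zero_smul, map_zero]
      | add a b _ _ ha hb => rw [add_smul, map_add, ha, hb, add_zero]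
      | smul c a _ ha => rw [smul_assoc, map_smul, ha, smul_zero]
    | zero => intro s'; rw [smul_zero, map_zero]
    | add a b _ _ ha hb => intro s'; rw [smul_add, map_add, ha, hb, add_zero]
    | smul c a _ ha => intro s'; rw [smul_smul]; exact ha _
  letI : Module G (N' ⧸ K') := Module.compHom _ (algebraMap G G')
  haveI : IsScalarTower G G' (N' ⧸ K') := IsScalarTower.of_algebraMap_smul fun _ _ => rfl
  have hK : ∀ k ∈ K, q (g k) = 0 := fun k hk =>
    (Submodule.Quotient.mk_eq_zero _).2 (Submodule.subset_span ⟨k, hk, rfl⟩)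
  let ψ' : (N' ⧸ K') →ₗ[G'] G' ⊗[G] (N ⧸ K) :=
    { toFun := Quotient.lift ψ fun a b h => by
        have h' : a - b ∈ K' := (Submodule.quotientRel_def K').1 h
        exact sub_eq_zero.1 ((map_sub ψ a b).symm.trans (hψK _ h'))
      map_add' := fun a b => Quotient.inductionOn₂' a b fun x y => map_add ψ x y
      map_smul' := fun c a => Quotient.inductionOn' a fun x => map_smul ψ c x }
  let φ₀ : (N ⧸ K) →ₗ[G] N' ⧸ K' :=
    { toFun := Quotient.lift (fun x => q (g x)) fun a b h => by
        have h' : a - b ∈ K := (Submodule.quotientRel_def K).1 h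
        exact sub_eq_zero.1 (by rw [← map_sub, ← map_sub]; exact hK _ h')
      map_add' := fun a b => Quotient.inductionOn₂' a b fun x y => by
        show q (g (x + y)) = q (g x) + q (g y)
        rw [map_add, map_add]
      map_smul' := fun c a => Quotient.inductionOn' a fun x => by
        show q (g (c • x)) = c • q (g x)
        rw [map_smul, ← algebraMap_smul G' c (g x), map_smul, algebraMap_smul] }
  refine ⟨LinearEquiv.ofLinearMap (φ₀.liftBaseChange G') ψ' ?_ ?_⟩
  · refine LinearMap.ext fun z => ?_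
    obtain ⟨y, rfl⟩ := Submodule.Quotient.mk_surjective _ z
    show φ₀.liftBaseChange G' (ψ y) = q y
    induction y using hg.inductionOn with
    | zero => simp
    | tmul x =>
      rw [hψg, LinearMap.liftBaseChange_tmul, one_smul]
      rfl
    | smul a x ih => rw [map_smul, map_smul, map_smul, ih]
    | add a b ha hb => rw [map_add, map_add, map_add, ha, hb]
  · refine LinearMap.ext fun z => ?_
    show ψ' (φ₀.liftBaseChange G' z) = z
    induction z using TensorProduct.induction_on with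
    | zero => simp
    | tmul a w =>
      obtain ⟨x, rfl⟩ := Submodule.Quotient.mk_surjective _ w
      rw [LinearMap.liftBaseChange_tmul, map_smul]
      show a • ψ (g x) = _
      rw [hψg, smul_tmul', smul_eq_mul, mul_one]
      rfl
    | add a b ha hb => rw [map_add, map_add, ha, hb]

end Quot

variable {A₀ B₀ : Type u} [CommRing A₀] [CommRing B₀] [Algebra A₀ B₀] (M : Type u) [AddCommGroup M]
  [Module B₀ M] [Module A₀ M] [IsScalarTower A₀ B₀ M]

/-- The base change of `M` to `G ⊗ B₀`. -/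
abbrev N (G : Type u) [CommRing G] [Algebra A₀ G] : Type u := (G ⊗[A₀] B₀) ⊗[B₀] M

/-- The base change of `M` to `G`, two ways. -/
noncomputable def mu (G : Type u) [CommRing G] [Algebra A₀ G] :
    N (A₀ := A₀) (B₀ := B₀) M G ≃ₗ[G] G ⊗[A₀] M :=
  Algebra.IsPushout.cancelBaseChange A₀ G B₀ (G ⊗[A₀] B₀) M

variable {G G' : Type u} [CommRing G] [Algebra A₀ G] [CommRing G'] [Algebra A₀ G']

/-- The map on rings. -/
noncomputable def sMap (φ : G →ₐ[A₀] G') : G ⊗[A₀] B₀ →ₐ[A₀] G' ⊗[A₀] B₀ :=
  Algebra.TensorProduct.map φ (AlgHom.id A₀ B₀)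

/-- The map on modules. -/
noncomputable def nMap (φ : G →ₐ[A₀] G') : N (A₀ := A₀) (B₀ := B₀) M G →ₗ[B₀] N (A₀ := A₀) (B₀ := B₀) M G' :=
  LinearMap.rTensor M
    { toFun := sMap (B₀ := B₀) φ
      map_add' := map_add _
      map_smul' := fun b x => by
        rw [Algebra.smul_def, Algebra.smul_def, map_mul, RingHom.id_apply]
        congr 1
        show sMap φ ((1 : G) ⊗ₜ b) = (1 : G') ⊗ₜ b
        simp [sMap] }

theorem nMap_tmul (φ : G →ₐ[A₀] G') (s : G ⊗[A₀] B₀) (m : M) :
    nMap M φ (s ⊗ₜ m) = sMap φ s ⊗ₜ m := rfl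

theorem nMap_smul (φ : G →ₐ[A₀] G') (s : G ⊗[A₀] B₀) (x : N (A₀ := A₀) (B₀ := B₀) M G) :
    nMap M φ (s • x) = sMap φ s • nMap M φ x := by
  induction x using TensorProduct.induction_on with
  | zero => simp
  | tmul r m => rw [TensorProduct.smul_tmul', nMap_tmul, nMap_tmul, smul_eq_mul, map_mul]; rfl
  | add a b ha hb => simp only [smul_add, map_add, ha, hb]

theorem mu_symm_tmul (g : G) (m : M) :
    (mu (A₀ := A₀) (B₀ := B₀) M G).symm (g ⊗ₜ m) = (g ⊗ₜ[A₀] (1 : B₀)) ⊗ₜ m := by
  simp [mu, Algebra.TensorProduct.algebraMap_apply]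

theorem nMap_mu_symm (φ : G →ₐ[A₀] G') (y : G ⊗[A₀] M) :
    nMap M φ ((mu (A₀ := A₀) (B₀ := B₀) M G).symm y) =
      (mu (A₀ := A₀) (B₀ := B₀) M G').symm (φ.toLinearMap.rTensor M y) := by
  induction y using TensorProduct.induction_on with
  | zero => simp
  | tmul g m => simp [mu_symm_tmul, nMap_tmul, sMap]
  | add a b ha hb => simp only [map_add, ha, hb]

theorem mu_nMap (φ : G →ₐ[A₀] G') (x : N (A₀ := A₀) (B₀ := B₀) M G) :
    mu M G' (nMap M φ x) = φ.toLinearMap.rTensor M (mu M G x) := by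
  obtain ⟨y, rfl⟩ := (mu (A₀ := A₀) (B₀ := B₀) M G).symm.surjective x
  rw [nMap_mu_symm, LinearEquiv.apply_symm_apply, LinearEquiv.apply_symm_apply]

theorem span_range_sMap (φ : G →ₐ[A₀] G') :
    Submodule.span G' (Set.range (sMap (B₀ := B₀) φ)) = ⊤ := by
  refine eq_top_iff.2 fun x hx => ?_
  clear hx
  induction x using TensorProduct.induction_on with
  | zero => exact zero_mem _
  | tmul a b =>
    rw [show a ⊗ₜ[A₀] b = a • ((1 : G') ⊗ₜ[A₀] b) by rw [TensorProduct.smul_tmul', smul_eq_mul, mul_one]]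
    exact Submodule.smul_mem _ _ (Submodule.subset_span ⟨(1 : G) ⊗ₜ b, by simp [sMap]⟩)
  | add a b ha hb => exact add_mem ha hb

section Stage

variable {ι : Type u} [Preorder ι] [IsDirectedOrder ι] [Nonempty ι] (F : ι → Type u)
  [∀ i, CommRing (F i)] [∀ i, Algebra A₀ (F i)] (f : ∀ i j, i ≤ j → F i →ₐ[A₀] F j)
  [DirectedSystem F fun i j h => f i j h] {A : Type u} [CommRing A] [Algebra A₀ A] (γ : ∀ i, F i →ₐ[A₀] A)
  (hγ : ∀ i j h x, γ j (f i j h x) = γ i x) (hsurj : ∀ a : A, ∃ i x, γ i x = a)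
  (hzero : ∀ i x, γ i x = 0 → ∃ j h, f i j h x = 0)

include hγ hsurj in
theorem exists_stage_elt (z : A ⊗[A₀] M) : ∃ i, ∃ y : F i ⊗[A₀] M, (γ i).toLinearMap.rTensor M y = z := by
  induction z using TensorProduct.induction_on with
  | zero =>
    obtain ⟨i⟩ := ‹Nonempty ι›
    exact ⟨i, 0, map_zero _⟩
  | tmul a m =>
    obtain ⟨i, x, rfl⟩ := hsurj a
    exact ⟨i, x ⊗ₜ m, rfl⟩
  | add a b ha hb =>
    obtain ⟨i, y, rfl⟩ := ha
    obtain ⟨j, y', rfl⟩ := hb
    obtain ⟨k, hik, hjk⟩ := exists_ge_ge i j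
    refine ⟨k, (f i k hik).toLinearMap.rTensor M y + (f j k hjk).toLinearMap.rTensor M y', ?_⟩
    rw [map_add, ← LinearMap.rTensor_comp_apply, ← LinearMap.rTensor_comp_apply,
      show (γ k).toLinearMap ∘ₗ (f i k hik).toLinearMap = (γ i).toLinearMap from LinearMap.ext (hγ i k hik),
      show (γ k).toLinearMap ∘ₗ (f j k hjk).toLinearMap = (γ j).toLinearMap from LinearMap.ext (hγ j k hjk)]

include hγ hsurj hzero in
theorem exists_stage_zero {i : ι} (y : F i ⊗[A₀] M) (h : (γ i).toLinearMap.rTensor M y = 0) :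
    ∃ j hij, (f i j hij).toLinearMap.rTensor M y = 0 := by
  classical
  let fl := fun i j h => (f i j h).toLinearMap
  haveI : DirectedSystem F fun i j h => fl i j h := ⟨fun i x => DirectedSystem.map_self (f := fun i j h => f i j h) x,
    fun k j i h₁ h₂ x => DirectedSystem.map_map (f := fun i j h => f i j h) h₁ h₂ x⟩
  let e : Module.DirectLimit F fl →ₗ[A₀] A :=
    Module.DirectLimit.lift A₀ ι F fl (fun i => (γ i).toLinearMap) hγ
  have he : Function.Bijective e := by
    refine ⟨(injective_iff_map_eq_zero _).2 fun z hz => ?_, fun a => ?_⟩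
    · obtain ⟨i, x, rfl⟩ := Module.DirectLimit.exists_of z
      rw [Module.DirectLimit.lift_of] at hz
      obtain ⟨j, hij, hj⟩ := hzero i x hz
      rw [← Module.DirectLimit.of_f (hij := hij), show fl i j hij x = 0 from hj, map_zero]
    · obtain ⟨i, x, rfl⟩ := hsurj a
      exact ⟨Module.DirectLimit.of A₀ ι F fl i x, Module.DirectLimit.lift_of _ _ _⟩
  let E := (LinearEquiv.ofBijective e he).rTensor M
  have hE : ∀ w, (γ i).toLinearMap.rTensor M w =
      E ((Module.DirectLimit.of A₀ ι F fl i).rTensor M w) := fun w => by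
    induction w using TensorProduct.induction_on with
    | zero => simp
    | tmul x m => simp [E, e, Module.DirectLimit.lift_of]
    | add a b ha hb => simp only [map_add, ha, hb]
  rw [hE, LinearEquiv.map_eq_zero_iff] at h
  have h2 := congrArg (TensorProduct.directLimitLeft fl M) h
  rw [TensorProduct.directLimitLeft_rTensor_of, map_zero] at h2
  exact Module.DirectLimit.of.zero_exact h2

variable [IsLocalRing A] (t : A₀) (ht : algebraMap A₀ A t ∈ nonZeroDivisors A)
  (htF : ∀ i, algebraMap A₀ (F i) t ∈ nonZeroDivisors (F i))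
  (hsv : ModPairLib.SemiVal.Ring.SemiVal A (algebraMap A₀ A t))

open ModPairLib.SemiVal.Ring in
include hγ hsurj hzero ht htF hsv in
/-- Flattening at a stage, finitely presented case. -/
theorem exists_stage_fp [Algebra.FinitePresentation A₀ B₀] [Module.FinitePresentation B₀ M]
    (hflat : Module.Flat A₀ (LocalizedModule (Submonoid.powers t) M)) :
    ∃ i, Module.Flat (F i) (N (A₀ := A₀) (B₀ := B₀) M (F i) ⧸
        FlatCA.powTorsion (F i ⊗[A₀] B₀) (algebraMap A₀ _ t) (N (A₀ := A₀) (B₀ := B₀) M (F i))) ∧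
      Module.FinitePresentation (F i ⊗[A₀] B₀) (N (A₀ := A₀) (B₀ := B₀) M (F i) ⧸
        FlatCA.powTorsion (F i ⊗[A₀] B₀) (algebraMap A₀ _ t) (N (A₀ := A₀) (B₀ := B₀) M (F i))) := by
  classical
  let S : Type u := A ⊗[A₀] B₀
  let T := FlatCA.powTorsion S (algebraMap A₀ S t) (N (A₀ := A₀) (B₀ := B₀) M A)
  have hsmul : ∀ {H : Type u} [CommRing H] [Algebra A₀ H] (n : ℕ) (x : N (A₀ := A₀) (B₀ := B₀) M H),
      algebraMap A₀ (H ⊗[A₀] B₀) t ^ n • x = t ^ n • x := fun {H} _ _ n x => by
    rw [← map_pow, algebraMap_smul]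
  haveI : Algebra.FinitePresentation A S := inferInstance
  haveI : Module.FinitePresentation S (N (A₀ := A₀) (B₀ := B₀) M A) := inferInstance
  let Nb := N (A₀ := A₀) (B₀ := B₀) M A ⧸ T
  let tA := algebraMap A₀ A t
  have hloc : ∀ n : ℕ, ∀ x : N (A₀ := A₀) (B₀ := B₀) M A, tA ^ n • x = t ^ n • x := fun n x => by
    rw [← map_pow, algebraMap_smul]
  have htf : ∀ m : Nb, tA • m = 0 → m = 0 := by
    intro m
    obtain ⟨x, rfl⟩ := Submodule.Quotient.mk_surjective _ m
    intro hm
    rw [← Submodule.Quotient.mk_smul, Submodule.Quotient.mk_eq_zero, FittLib.Strict.mem_powTorsion] at hm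
    obtain ⟨n, hn⟩ := hm
    rw [Submodule.Quotient.mk_eq_zero, FittLib.Strict.mem_powTorsion]
    refine ⟨n + 1, ?_⟩
    rw [hsmul] at hn ⊢
    rw [← pow_one tA, hloc, smul_smul, ← pow_add] at hn
    exact hn
  -- localisations
  have hflatA : Module.Flat A (LocalizedModule (Submonoid.powers tA) Nb) := by
    let L := LocalizedModule (Submonoid.powers t) M
    let qA : N (A₀ := A₀) (B₀ := B₀) M A →ₗ[A] A ⊗[A₀] L :=
      (LocalizedModule.mkLinearMap (Submonoid.powers t) M).baseChange A ∘ₗ (mu M A).toLinearMap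
    have hl : IsLocalizedModule (Submonoid.powers tA)
        ((LocalizedModule.mkLinearMap (Submonoid.powers t) M).baseChange A) := by
      let ι := LocalizedModule.mkLinearMap (Submonoid.powers t) M
      haveI h0 : IsLocalizedModule (Submonoid.powers t) (ι.lTensor A) := by
        haveI h : IsLocalizedModule (Submonoid.powers t) (ι.rTensor A) :=
          IsLocalizedModule.rTensor (R := A₀) (A := A₀) (N := A) (Submonoid.powers t) ι
        rw [show ι.lTensor A = (TensorProduct.comm A₀ L A).toLinearMap ∘ₗ ι.rTensor A ∘ₗ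
          (TensorProduct.comm A₀ A M).toLinearMap from TensorProduct.ext' fun x m => rfl]
        infer_instance
      have hsm : ∀ (n : ℕ) (y : A ⊗[A₀] L), tA ^ n • y = t ^ n • y := fun n y => by
        rw [← map_pow, algebraMap_smul]
      have hsm' : ∀ (n : ℕ) (y : A ⊗[A₀] M), tA ^ n • y = t ^ n • y := fun n y => by
        rw [← map_pow, algebraMap_smul]
      refine ⟨?_, fun y => ?_, fun {a b} hab => ?_⟩
      · rintro ⟨_, n, rfl⟩
        rw [Module.End.isUnit_iff]
        have := (Module.End.isUnit_iff _).1 (IsLocalizedModule.map_units (ι.lTensor A) (⟨t ^ n, n, rfl⟩ : Submonoid.powers t))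
        convert this using 1
        funext y
        exact hsm n y
      · obtain ⟨⟨x, ⟨_, n, rfl⟩⟩, hx⟩ := IsLocalizedModule.surj (Submonoid.powers t) (ι.lTensor A) y
        exact ⟨⟨x, ⟨tA ^ n, n, rfl⟩⟩, (hsm n y).trans hx⟩
      · obtain ⟨⟨_, n, rfl⟩, hc⟩ := IsLocalizedModule.exists_of_eq (S := Submonoid.powers t) (f := ι.lTensor A) hab
        exact ⟨⟨tA ^ n, n, rfl⟩, (hsm' n a).trans (hc.trans (hsm' n b).symm)⟩
    have hl' : IsLocalizedModule (Submonoid.powers tA) qA :=
      IsLocalizedModule.of_linearEquiv_right (Submonoid.powers tA) _ (mu M A)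
    have hT : T.restrictScalars A ≤ LinearMap.ker qA := by
      intro x hx
      obtain ⟨n, hn⟩ := (FittLib.Strict.mem_powTorsion _ _).1 hx
      rw [hsmul, ← hloc] at hn
      have h0 := congrArg qA hn
      rw [map_smul, map_zero] at h0
      exact IsLocalizedModule.smul_injective qA (⟨tA ^ n, n, rfl⟩ : Submonoid.powers tA) (h0.trans (smul_zero _).symm)
    let qb : Nb →ₗ[A] A ⊗[A₀] L :=
      { toFun := Quotient.lift qA fun a b h => sub_eq_zero.1 (by
          rw [← map_sub]; exact hT ((Submodule.quotientRel_def T).1 h))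
        map_add' := fun a b => Quotient.inductionOn₂' a b fun x y => map_add qA x y
        map_smul' := fun c a => Quotient.inductionOn' a fun x => map_smul qA c x }
    haveI : IsLocalizedModule (Submonoid.powers tA) qb := by
      constructor
      · exact hl'.map_units
      · intro y
        obtain ⟨⟨x, s⟩, hx⟩ := IsLocalizedModule.surj (Submonoid.powers tA) qA y
        exact ⟨⟨Submodule.Quotient.mk x, s⟩, hx⟩
      · intro a b hab
        obtain ⟨x, rfl⟩ := Submodule.Quotient.mk_surjective _ a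
        obtain ⟨y, rfl⟩ := Submodule.Quotient.mk_surjective _ b
        obtain ⟨c, hc⟩ := IsLocalizedModule.exists_of_eq (S := Submonoid.powers tA) (f := qA)
          (x₁ := x) (x₂ := y) hab
        refine ⟨c, ?_⟩
        show (c : A) • (Submodule.Quotient.mk x : Nb) = (c : A) • Submodule.Quotient.mk y
        rw [← Submodule.Quotient.mk_smul, ← Submodule.Quotient.mk_smul]
        exact congrArg _ hc
    haveI : Module.Flat A (A ⊗[A₀] L) := Module.Flat.baseChange A₀ A L
    exact Module.Flat.of_linearEquiv (IsLocalizedModule.iso (Submonoid.powers tA) qb)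
  have hfpA : Module.FinitePresentation (Localization.Away (algebraMap A S tA))
      (LocalizedModule (Submonoid.powers (algebraMap A S tA)) Nb) := by
    let W := Submonoid.powers (algebraMap A S tA)
    let q := LocalizedModule.mkLinearMap W (N (A₀ := A₀) (B₀ := B₀) M A)
    let p := IsLocalizedModule.map W q (LocalizedModule.mkLinearMap W Nb) T.mkQ
    have hp : Function.Bijective p := by
      refine ⟨(injective_iff_map_eq_zero _).2 fun z hz => ?_, ?_⟩
      · obtain ⟨⟨x, s⟩, rfl⟩ := IsLocalizedModule.mk'_surjective W q z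
        simp only [Function.uncurry_apply_pair, p, IsLocalizedModule.map_mk'] at hz
        rw [IsLocalizedModule.mk'_eq_zero'] at hz
        obtain ⟨⟨_, k, rfl⟩, hk⟩ := hz
        change algebraMap A S tA ^ k • T.mkQ x = 0 at hk
        rw [← map_smul, Submodule.mkQ_apply, Submodule.Quotient.mk_eq_zero,
          FittLib.Strict.mem_powTorsion] at hk
        obtain ⟨n, hn⟩ := hk
        rw [Function.uncurry_apply_pair, IsLocalizedModule.mk'_eq_zero']
        refine ⟨⟨algebraMap A S tA ^ (n + k), n + k, rfl⟩, ?_⟩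
        show algebraMap A S tA ^ (n + k) • x = 0
        rw [pow_add, mul_smul]
        rw [show algebraMap A₀ S t = algebraMap A S tA from IsScalarTower.algebraMap_apply A₀ A S t] at hn
        exact hn
      · exact IsLocalizedModule.map_surjective W q (LocalizedModule.mkLinearMap W Nb) _ T.mkQ_surjective
    haveI : Module.FinitePresentation (Localization W) (LocalizedModule W (N (A₀ := A₀) (B₀ := B₀) M A)) :=
      inferInstance
    let e := (LinearEquiv.ofBijective p hp).extendScalarsOfIsLocalization W (Localization W)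
    refine @Module.FinitePresentation.of_equiv (Localization W)
      (LocalizedModule W (N (A₀ := A₀) (B₀ := B₀) M A)) (LocalizedModule W Nb) _ _ _ _ _ e ?_
    assumption
  obtain ⟨-, hNb⟩ := RG.ValFlat.flat_fp_of_torsionFree ht hsv (B := S) Nb htf hflatA hfpA
  haveI := hNb
  have hflNb : Module.Flat A Nb :=
    (RG.ValFlat.flat_fp_of_torsionFree ht hsv (B := S) Nb htf hflatA hfpA).1
  obtain ⟨gens, hgens⟩ := Module.FinitePresentation.fg_ker T.mkQ T.mkQ_surjective
  rw [Submodule.ker_mkQ] at hgens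
  -- lift the generators to a stage
  have hgen : ∀ τ ∈ gens, ∃ i, ∃ σ : N (A₀ := A₀) (B₀ := B₀) M (F i), ∃ n : ℕ,
      nMap M (γ i) σ = τ ∧ t ^ n • σ = 0 := by
    intro τ hτ
    obtain ⟨n, hn⟩ := (FittLib.Strict.mem_powTorsion _ _).1 (hgens ▸ Submodule.subset_span hτ : τ ∈ T)
    rw [hsmul] at hn
    obtain ⟨i, y, hy⟩ := exists_stage_elt M F f γ hγ hsurj (mu M A τ)
    have h0 : (γ i).toLinearMap.rTensor M (t ^ n • y) = 0 := by
      rw [map_smul, hy]
      exact ((mu M A).toLinearMap.map_smul_of_tower (t ^ n) τ).symm.trans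
        ((congrArg (mu M A) hn).trans (map_zero _))
    obtain ⟨j, hij, hj⟩ := exists_stage_zero M F f γ hγ hsurj hzero _ h0
    refine ⟨j, (mu M (F j)).symm ((f i j hij).toLinearMap.rTensor M y), n, ?_, ?_⟩
    · rw [nMap_mu_symm, ← LinearMap.rTensor_comp_apply]
      apply (mu M A).injective
      rw [LinearEquiv.apply_symm_apply, ← hy]
      congr 2
      exact LinearMap.ext (hγ i j hij)
    · rw [map_smul] at hj
      exact ((mu M (F j)).symm.toLinearMap.map_smul_of_tower (t ^ n) _).symm.trans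
        ((congrArg (mu M (F j)).symm hj).trans (map_zero _))
  choose idx σ n hσ hn using hgen
  have hex : ∃ i₀ : ι, ∀ i ∈ (gens.attach.image fun τ => idx τ.1 τ.2), i ≤ i₀ := Finset.exists_le _
  let i₀ : ι := hex.choose
  have hi₀ := hex.choose_spec
  have hle : ∀ τ (h : τ ∈ gens), idx τ h ≤ i₀ := fun τ h =>
    hi₀ _ (Finset.mem_image.2 ⟨⟨τ, h⟩, Finset.mem_attach _ _, rfl⟩)
  let σ₀ : gens → N (A₀ := A₀) (B₀ := B₀) M (F i₀) := fun τ => nMap M (f _ i₀ (hle τ.1 τ.2)) (σ τ.1 τ.2)
  let K : Submodule (F i₀ ⊗[A₀] B₀) (N (A₀ := A₀) (B₀ := B₀) M (F i₀)) := Submodule.span _ (Set.range σ₀)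
  have hKT : K ≤ FlatCA.powTorsion (F i₀ ⊗[A₀] B₀) (algebraMap A₀ _ t) _ := by
    refine Submodule.span_le.2 ?_
    rintro _ ⟨τ, rfl⟩
    refine (FittLib.Strict.mem_powTorsion _ _).2 ⟨n τ.1 τ.2, ?_⟩
    rw [hsmul, ← LinearMap.map_smul_of_tower, hn, map_zero]
  let M₁ := N (A₀ := A₀) (B₀ := B₀) M (F i₀) ⧸ K
  haveI : Module.FinitePresentation (F i₀ ⊗[A₀] B₀) (N (A₀ := A₀) (B₀ := B₀) M (F i₀)) := inferInstance
  haveI : Module.FinitePresentation (F i₀ ⊗[A₀] B₀) M₁ :=
    Module.finitePresentation_of_surjective K.mkQ K.mkQ_surjective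
      (by rw [Submodule.ker_mkQ]; exact Submodule.fg_span (Set.finite_range _))
  haveI : Algebra.FinitePresentation (F i₀) (F i₀ ⊗[A₀] B₀) := inferInstance
  -- base change of the quotient
  have key : ∀ (H : Type u) [CommRing H] [Algebra A₀ H] [Algebra (F i₀) H] [IsScalarTower A₀ (F i₀) H],
      Nonempty (H ⊗[F i₀] M₁ ≃ₗ[H] N (A₀ := A₀) (B₀ := B₀) M H ⧸ Submodule.span (H ⊗[A₀] B₀)
        (nMap M (IsScalarTower.toAlgHom A₀ (F i₀) H) '' SetLike.coe K)) := by
    intro H _ _ _ _
    let φ := IsScalarTower.toAlgHom A₀ (F i₀) H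
    let g : N (A₀ := A₀) (B₀ := B₀) M (F i₀) →ₗ[F i₀] N (A₀ := A₀) (B₀ := B₀) M H :=
      { toFun := nMap M φ
        map_add' := map_add _
        map_smul' := fun c x => by
          show _ = c • nMap M φ x
          rw [← algebraMap_smul H c (nMap M φ x)]
          rw [← algebraMap_smul (F i₀ ⊗[A₀] B₀) c x, ← algebraMap_smul (H ⊗[A₀] B₀) (algebraMap (F i₀) H c),
            nMap_smul]
          congr 1
        }
    have hg : IsBaseChange H g := by
      refine IsBaseChange.of_equiv
        (((AlgebraTensorModule.congr (LinearEquiv.refl H H) (mu M (F i₀))).trans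
          (AlgebraTensorModule.cancelBaseChange A₀ (F i₀) H H M)).trans (mu M H).symm) fun x => ?_
      apply (mu M H).injective
      show _ = mu M H (nMap M φ x)
      rw [mu_nMap]
      simp only [LinearEquiv.trans_apply, LinearEquiv.apply_symm_apply]
      rw [AlgebraTensorModule.congr_tmul, LinearEquiv.refl_apply]
      generalize mu M (F i₀) x = y
      induction y using TensorProduct.induction_on with
      | zero => simp
      | tmul c m => simp [φ, Algebra.smul_def]
      | add a b ha hb => rw [TensorProduct.tmul_add, map_add, map_add, ha, hb]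
    exact nonempty_quot_baseChange g hg (sMap φ) (nMap_smul M φ) (span_range_sMap φ) K
  -- flat over the colimit
  letI : Algebra (F i₀) A := (γ i₀).toRingHom.toAlgebra
  haveI : IsScalarTower A₀ (F i₀) A := IsScalarTower.of_algebraMap_eq fun a => ((γ i₀).commutes a).symm
  haveI : Module.Flat A (A ⊗[F i₀] M₁) := by
    obtain ⟨e⟩ := key A
    have hspan : Submodule.span S (nMap M (IsScalarTower.toAlgHom A₀ (F i₀) A) '' SetLike.coe K) = T := by
      have hσ₀ : ∀ τ : gens, nMap M (IsScalarTower.toAlgHom A₀ (F i₀) A) (σ₀ τ) = τ.1 := fun τ => by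
        apply (mu M A).injective
        refine Eq.trans ?_ (congrArg (mu M A) (hσ τ.1 τ.2))
        rw [mu_nMap, mu_nMap, mu_nMap, ← LinearMap.rTensor_comp_apply]
        congr 2
        exact LinearMap.ext fun x => hγ _ _ _ x
      refine le_antisymm (Submodule.span_le.2 ?_) ?_
      · rintro _ ⟨k, hk, rfl⟩
        obtain ⟨m, hm⟩ := (FittLib.Strict.mem_powTorsion _ _).1 (hKT hk)
        rw [hsmul] at hm
        exact (FittLib.Strict.mem_powTorsion _ _).2 ⟨m, by rw [hsmul, ← LinearMap.map_smul_of_tower, hm, map_zero]⟩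
      · rw [← hgens]
        exact Submodule.span_mono fun τ hτ => ⟨σ₀ ⟨τ, hτ⟩, Submodule.subset_span ⟨_, rfl⟩, hσ₀ ⟨τ, hτ⟩⟩
    rw [hspan] at e
    exact Module.Flat.of_linearEquiv e
  -- the tail of the system
  let κ := {j // i₀ ≤ j}
  letI : ∀ j : κ, Algebra (F i₀) (F j.1) := fun j => (f i₀ j.1 j.2).toRingHom.toAlgebra
  haveI : ∀ j : κ, IsScalarTower A₀ (F i₀) (F j.1) := fun j =>
    IsScalarTower.of_algebraMap_eq fun a => ((f i₀ j.1 j.2).commutes a).symm
  letI : ∀ j : κ, Algebra (F j.1) A := fun j => (γ j.1).toRingHom.toAlgebra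
  haveI : ∀ j : κ, IsScalarTower (F i₀) (F j.1) A := fun j =>
    IsScalarTower.of_algebraMap_eq fun a => (hγ i₀ j.1 j.2 a).symm
  haveI : ∀ j : κ, IsScalarTower A₀ (F j.1) A := fun j =>
    IsScalarTower.of_algebraMap_eq fun a => ((γ j.1).commutes a).symm
  have hcolim : FlatCA.IsDirectedColimitRing (fun j : κ => F j.1)
      (fun a b (h : a ≤ b) => (f a.1 b.1 h).toRingHom) A := by
    refine ⟨⟨fun a b => ?_⟩, ⟨⟨i₀, le_rfl⟩⟩, fun a => RingHom.ext fun x => DirectedSystem.map_self (f := fun i j h => f i j h) x,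
      fun a b c hab hbc => RingHom.ext fun x => DirectedSystem.map_map (f := fun i j h => f i j h) hab hbc x,
      fun a b h => RingHom.ext fun x => hγ _ _ h x, fun a => ?_, fun a x hx => ?_⟩
    · obtain ⟨c, hac, hbc⟩ := exists_ge_ge a.1 b.1
      exact ⟨⟨c, a.2.trans hac⟩, hac, hbc⟩
    · obtain ⟨i, x, rfl⟩ := hsurj a
      obtain ⟨c, hic, h0c⟩ := exists_ge_ge i i₀
      exact ⟨⟨c, h0c⟩, f i c hic x, hγ i c hic x⟩
    · obtain ⟨b, hab, hb⟩ := hzero a.1 x hx
      exact ⟨⟨b, a.2.trans hab⟩, hab, hb⟩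
  obtain ⟨⟨j, hj⟩, hflatj⟩ := FlatOpen.exists_stage_flat (A₀ := F i₀) (fun j : κ => F j.1)
    (fun a b (h : a ≤ b) => (f a.1 b.1 h).toRingHom)
    (fun a b h => RingHom.ext fun x => DirectedSystem.map_map (f := fun i j h => f i j h) a.2 h x)
    A hcolim (B₀ := F i₀ ⊗[A₀] B₀) M₁
  refine ⟨j, ?_⟩
  letI : Algebra (F i₀) (F j) := (f i₀ j hj).toRingHom.toAlgebra
  haveI : IsScalarTower A₀ (F i₀) (F j) := IsScalarTower.of_algebraMap_eq fun a => ((f i₀ j hj).commutes a).symm
  obtain ⟨e⟩ := key (F j)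
  let K' : Submodule (F j ⊗[A₀] B₀) (N (A₀ := A₀) (B₀ := B₀) M (F j)) :=
    Submodule.span _ (nMap M (f i₀ j hj) '' SetLike.coe K)
  have hflatQ : Module.Flat (F j) (N (A₀ := A₀) (B₀ := B₀) M (F j) ⧸ K') := by
    haveI : Module.Flat (F j) (F j ⊗[F i₀] M₁) := hflatj
    exact Module.Flat.of_linearEquiv e.symm
  have hK' : K' = FlatCA.powTorsion (F j ⊗[A₀] B₀) (algebraMap A₀ _ t) _ := by
    refine le_antisymm (Submodule.span_le.2 ?_) fun x hx => ?_
    · rintro _ ⟨k, hk, rfl⟩
      obtain ⟨m, hm⟩ := (FittLib.Strict.mem_powTorsion _ _).1 (hKT hk)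
      rw [hsmul] at hm
      exact (FittLib.Strict.mem_powTorsion _ _).2 ⟨m, by rw [hsmul, ← LinearMap.map_smul_of_tower, hm, map_zero]⟩
    · obtain ⟨m, hm⟩ := (FittLib.Strict.mem_powTorsion _ _).1 hx
      rw [hsmul] at hm
      haveI := hflatQ
      have hreg : IsSMulRegular (N (A₀ := A₀) (B₀ := B₀) M (F j) ⧸ K') (algebraMap A₀ (F j) t ^ m) :=
        Module.Flat.isSMulRegular_of_nonZeroDivisors (pow_mem (htF j) m)
      refine (Submodule.Quotient.mk_eq_zero K').1 (hreg.right_eq_zero_of_smul ?_)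
      rw [← map_pow, algebraMap_smul, ← Submodule.Quotient.mk_smul, hm, Submodule.Quotient.mk_zero]
  rw [← hK']
  refine ⟨hflatQ, ?_⟩
  refine Module.finitePresentation_of_surjective K'.mkQ K'.mkQ_surjective ?_
  rw [Submodule.ker_mkQ]
  have : K' = Submodule.span _ (nMap M (f i₀ j hj) '' Set.range σ₀) := by
    refine le_antisymm (Submodule.span_le.2 ?_) (Submodule.span_mono (Set.image_mono Submodule.subset_span))
    rintro _ ⟨k, hk, rfl⟩
    induction hk using Submodule.span_induction with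
    | mem x hx => exact Submodule.subset_span ⟨x, hx, rfl⟩
    | zero => rw [map_zero]; exact zero_mem _
    | add a b _ _ ha hb => rw [map_add]; exact add_mem ha hb
    | smul c a _ ha => rw [nMap_smul]; exact Submodule.smul_mem _ _ ha
  rw [this]
  exact Submodule.fg_span ((Set.finite_range σ₀).image _)

open ModPairLib.SemiVal.Ring in
include hγ hsurj hzero ht htF hsv in
/-- Flattening at a stage. -/
theorem exists_stage [Algebra.FinitePresentation A₀ B₀] [Module.Finite B₀ M]
    (hflat : Module.Flat A₀ (LocalizedModule (Submonoid.powers t) M))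
    (hfp : Module.FinitePresentation (Localization.Away (algebraMap A₀ B₀ t))
      (LocalizedModule (Submonoid.powers (algebraMap A₀ B₀ t)) M)) :
    ∃ i, Module.Flat (F i) (N (A₀ := A₀) (B₀ := B₀) M (F i) ⧸
        FlatCA.powTorsion (F i ⊗[A₀] B₀) (algebraMap A₀ _ t) (N (A₀ := A₀) (B₀ := B₀) M (F i))) ∧
      Module.FinitePresentation (F i ⊗[A₀] B₀) (N (A₀ := A₀) (B₀ := B₀) M (F i) ⧸
        FlatCA.powTorsion (F i ⊗[A₀] B₀) (algebraMap A₀ _ t) (N (A₀ := A₀) (B₀ := B₀) M (F i))) := by
  obtain ⟨M₂, i₁, i₂, i₃, q, hqs, hker⟩ := FreeBlow.exists_fp_cover (algebraMap A₀ B₀ t) M hfp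
  letI : Module A₀ M₂ := Module.compHom M₂ (algebraMap A₀ B₀)
  haveI : IsScalarTower A₀ B₀ M₂ := IsScalarTower.of_algebraMap_smul fun _ _ => rfl
  have hflat₂ : Module.Flat A₀ (LocalizedModule (Submonoid.powers t) M₂) := by
    let L : LocalizedModule (Submonoid.powers t) M₂ →ₗ[A₀] LocalizedModule (Submonoid.powers t) M :=
      IsLocalizedModule.map (Submonoid.powers t) (LocalizedModule.mkLinearMap (Submonoid.powers t) M₂)
      (LocalizedModule.mkLinearMap (Submonoid.powers t) M) (q.restrictScalars A₀)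
    haveI := hflat
    refine Module.Flat.of_linearEquiv (LinearEquiv.ofBijective L ⟨(injective_iff_map_eq_zero _).2 fun z hz => ?_,
      IsLocalizedModule.map_surjective (Submonoid.powers t) (LocalizedModule.mkLinearMap _ M₂) (LocalizedModule.mkLinearMap _ M) (q.restrictScalars A₀) hqs⟩)
    obtain ⟨⟨x, s⟩, rfl⟩ := IsLocalizedModule.mk'_surjective (Submonoid.powers t) (LocalizedModule.mkLinearMap _ M₂) z
    simp only [Function.uncurry_apply_pair, L, IsLocalizedModule.map_mk', IsLocalizedModule.mk'_eq_zero'] at hz ⊢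
    obtain ⟨⟨_, k, rfl⟩, hk⟩ := hz
    change t ^ k • q x = 0 at hk
    rw [← LinearMap.map_smul_of_tower] at hk
    obtain ⟨m, hm⟩ := hker _ hk
    rw [← map_pow, algebraMap_smul, smul_smul, ← pow_add] at hm
    exact ⟨⟨t ^ (m + k), m + k, rfl⟩, hm⟩
  obtain ⟨i, hfl, hfpi⟩ := exists_stage_fp (A₀ := A₀) (B₀ := B₀) M₂ F f γ hγ hsurj hzero t ht htF hsv hflat₂
  refine ⟨i, ?_⟩
  let T₂ := FlatCA.powTorsion (F i ⊗[A₀] B₀) (algebraMap A₀ _ t) (N (A₀ := A₀) (B₀ := B₀) M₂ (F i))
  let T := FlatCA.powTorsion (F i ⊗[A₀] B₀) (algebraMap A₀ _ t) (N (A₀ := A₀) (B₀ := B₀) M (F i))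
  let qN := q.baseChange (F i ⊗[A₀] B₀)
  have hqN : Function.Surjective qN := LinearMap.lTensor_surjective _ hqs
  have hK : ∀ v, qN v = 0 → v ∈ T₂ := fun v hv => by
    obtain ⟨w, rfl⟩ := ((lTensor_exact (F i ⊗[A₀] B₀) (LinearMap.exact_subtype_ker_map q) hqs) v).1 hv
    clear hv
    induction w using TensorProduct.induction_on with
    | zero => rw [map_zero]; exact zero_mem _
    | tmul b k =>
      obtain ⟨m, hm⟩ := hker k.1 k.2
      refine (FittLib.Strict.mem_powTorsion _ _).2 ⟨m, ?_⟩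
      rw [IsScalarTower.algebraMap_apply A₀ B₀ (F i ⊗[A₀] B₀), ← map_pow, algebraMap_smul,
        LinearMap.lTensor_tmul, ← TensorProduct.tmul_smul, Submodule.subtype_apply, hm, TensorProduct.tmul_zero]
    | add a b ha hb => rw [map_add]; exact add_mem ha hb
  let Ψ := T.mkQ ∘ₗ qN
  have hΨ : LinearMap.ker Ψ = T₂ := by
    ext v
    simp only [LinearMap.mem_ker, Ψ, LinearMap.comp_apply, Submodule.mkQ_apply,
      Submodule.Quotient.mk_eq_zero, T]
    constructor
    · intro h
      obtain ⟨m, hm⟩ := (FittLib.Strict.mem_powTorsion _ _).1 h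
      rw [← map_smul] at hm
      obtain ⟨l, hl⟩ := (FittLib.Strict.mem_powTorsion _ _).1 (hK _ hm)
      rw [smul_smul, ← pow_add] at hl
      exact (FittLib.Strict.mem_powTorsion _ _).2 ⟨_, hl⟩
    · intro h
      obtain ⟨m, hm⟩ := (FittLib.Strict.mem_powTorsion _ _).1 h
      exact (FittLib.Strict.mem_powTorsion _ _).2 ⟨m, by rw [← map_smul, hm, map_zero]⟩
  let e := (Submodule.quotEquivOfEq _ _ hΨ.symm).trans
    (LinearMap.quotKerEquivOfSurjective Ψ ((Submodule.mkQ_surjective _).comp hqN))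
  haveI := hfl
  haveI := hfpi
  exact ⟨Module.Flat.of_linearEquiv (e.restrictScalars (F i)).symm, Module.FinitePresentation.of_equiv e⟩

end Stage

end Groth.Agent.RG.ValStage
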